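import Mathlib
import Groth.Prelude.Def_GrLC

open DirectSum

universe u

set_option linter.unusedSectionVars false

namespace Groth.Agent.Helper9.GrLCLib

section Basic
variable {ι : Type} [AddCommGroup ι] [DecidableEq ι]
variable {R : Type u} [CommRing R] (𝒜 : ι → AddSubgroup R) [GradedRing 𝒜]
variable {M : Type u} [AddCommGroup M] [Module R M] (ℳ : ι → AddSubgroup M)
  [DirectSum.Decomposition ℳ] [SetLike.GradedSMul 𝒜 ℳ]
variable {N : Type u} [AddCommGroup N] [Module R N] (𝒩 : ι → AddSubgroup N)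
  [DirectSum.Decomposition 𝒩] [SetLike.GradedSMul 𝒜 𝒩]

/-- the `k`-th homogeneous component as an additive map -/
noncomputable def proj (k : ι) : M →+ M where
  toFun x := (decompose ℳ x k : M)
  map_zero' := by simp
  map_add' x y := by simp

lemma proj_apply (k : ι) (x : M) : proj ℳ k x = (decompose ℳ x k : M) := rfl

lemma proj_mem (k : ι) (x : M) : proj ℳ k x ∈ ℳ k := (decompose ℳ x k).2

lemma proj_of_mem_same {k : ι} {x : M} (hx : x ∈ ℳ k) : proj ℳ k x = x :=
  decompose_of_mem_same ℳ hx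

lemma proj_of_mem_ne {k l : ι} {x : M} (hx : x ∈ ℳ k) (h : k ≠ l) : proj ℳ l x = 0 :=
  decompose_of_mem_ne ℳ hx h

include 𝒜 in
lemma smul_mem_add {a g : ι} {r : R} {x : M} (hr : r ∈ 𝒜 a) (hx : x ∈ ℳ g) :
    r • x ∈ ℳ (a + g) := by
  have := SetLike.GradedSMul.smul_mem (A := 𝒜) (B := ℳ) hr hx
  rwa [vadd_eq_add] at this

/-- components of `r • x` for homogeneous `r` -/
lemma proj_smul_of_mem {a : ι} {r : R} (hr : r ∈ 𝒜 a) (x : M) (k : ι) :
    proj ℳ (a + k) (r • x) = r • proj ℳ k x := by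
  induction x using DirectSum.Decomposition.inductionOn ℳ with
  | zero => simp
  | @homogeneous j m =>
    have hm : r • (m : M) ∈ ℳ (a + j) := smul_mem_add 𝒜 ℳ hr m.2
    by_cases hjk : j = k
    · subst hjk
      rw [proj_of_mem_same ℳ hm, proj_of_mem_same ℳ m.2]
    · rw [proj_of_mem_ne ℳ hm (by simpa using hjk), proj_of_mem_ne ℳ m.2 hjk, smul_zero]
  | add x y hx hy => rw [smul_add, map_add, map_add, hx, hy, smul_add]

lemma proj_smul_of_mem' {a : ι} {r : R} (hr : r ∈ 𝒜 a) (x : M) (k : ι) :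
    proj ℳ k (r • x) = r • proj ℳ (k - a) x := by
  have := proj_smul_of_mem 𝒜 ℳ hr x (k - a)
  rwa [add_sub_cancel] at this

/-- components of `r • x` for homogeneous `x` -/
lemma proj_smul_of_mem_right {g : ι} {x : M} (hx : x ∈ ℳ g) (r : R) (a : ι) :
    proj ℳ (a + g) (r • x) = (decompose 𝒜 r a : R) • x := by
  induction r using DirectSum.Decomposition.inductionOn 𝒜 with
  | zero => simp
  | @homogeneous j s =>
    have hm : (s : R) • x ∈ ℳ (j + g) := smul_mem_add 𝒜 ℳ s.2 hx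
    by_cases hja : j = a
    · subst hja
      rw [proj_of_mem_same ℳ hm, decompose_of_mem_same 𝒜 s.2]
    · rw [proj_of_mem_ne ℳ hm (by simpa using hja), decompose_of_mem_ne 𝒜 s.2 hja, zero_smul]
  | add r s hr hs => rw [add_smul, map_add, hr, hs, decompose_add, DirectSum.add_apply,
      AddSubgroup.coe_add, add_smul]

lemma proj_smul_of_mem_right' {g : ι} {x : M} (hx : x ∈ ℳ g) (r : R) (k : ι) :
    proj ℳ k (r • x) = (decompose 𝒜 r (k - g) : R) • x := by
  have := proj_smul_of_mem_right 𝒜 ℳ hx r (k - g)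
  rwa [sub_add_cancel] at this

omit [SetLike.GradedSMul 𝒜 ℳ] [SetLike.GradedSMul 𝒜 𝒩] in
/-- components of `f x` for `f` homogeneous of degree `d` -/
lemma proj_map_of_isGrHomDeg {f : M →ₗ[R] N} {d : ι} (hf : GrLC.IsGrHomDeg ℳ 𝒩 f d) (x : M)
    (k : ι) : proj 𝒩 (k + d) (f x) = f (proj ℳ k x) := by
  induction x using DirectSum.Decomposition.inductionOn ℳ with
  | zero => simp
  | @homogeneous j m =>
    have hm : f (m : M) ∈ 𝒩 (j + d) := hf j m m.2
    by_cases hjk : j = k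
    · subst hjk
      rw [proj_of_mem_same 𝒩 hm, proj_of_mem_same ℳ m.2]
    · rw [proj_of_mem_ne 𝒩 hm (by simpa using hjk), proj_of_mem_ne ℳ m.2 hjk, map_zero]
  | add x y hx hy => rw [map_add, map_add, map_add, hx, hy, map_add]

omit [SetLike.GradedSMul 𝒜 ℳ] [SetLike.GradedSMul 𝒜 𝒩] in
lemma isGrHomDeg_zero_iff {f : M →ₗ[R] N} : GrLC.IsGrHomDeg ℳ 𝒩 f 0 ↔ GrLC.IsGrHom ℳ 𝒩 f := by
  constructor
  · intro h g m hm
    have := h g m hm
    rwa [add_zero] at this
  · intro h g m hm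
    rw [add_zero]
    exact h g m hm

omit [SetLike.GradedSMul 𝒜 ℳ] [SetLike.GradedSMul 𝒜 𝒩] in
lemma proj_map_of_isGrHom {f : M →ₗ[R] N} (hf : GrLC.IsGrHom ℳ 𝒩 f) (x : M)
    (k : ι) : proj 𝒩 k (f x) = f (proj ℳ k x) := by
  have := proj_map_of_isGrHomDeg ℳ 𝒩 ((isGrHomDeg_zero_iff ℳ 𝒩).mpr hf) x k
  rwa [add_zero] at this

omit [SetLike.GradedSMul 𝒜 ℳ] [SetLike.GradedSMul 𝒜 𝒩] in
/-- the range of a homogeneous map is a homogeneous submodule -/
lemma range_isHomogeneous {f : M →ₗ[R] N} (hf : GrLC.IsGrHom ℳ 𝒩 f) :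
    (LinearMap.range f).IsHomogeneous 𝒩 := by
  rintro k _ ⟨x, rfl⟩
  exact ⟨proj ℳ k x, (proj_map_of_isGrHom ℳ 𝒩 hf x k).symm⟩

include 𝒜 in
/-- the submodule generated by a homogeneous element is homogeneous -/
lemma span_singleton_isHomogeneous {g : ι} {x : M} (hx : x ∈ ℳ g) :
    (Submodule.span R {x}).IsHomogeneous ℳ := by
  intro k y hy
  obtain ⟨r, rfl⟩ := Submodule.mem_span_singleton.mp hy
  have := proj_smul_of_mem_right' 𝒜 ℳ hx r k
  rw [proj_apply] at this
  rw [this]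
  exact Submodule.smul_mem _ _ (Submodule.mem_span_singleton_self x)

end Basic

end Groth.Agent.Helper9.GrLCLib
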