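import Mathlib
import Groth.Prelude.Def_GrLC
import Groth.Agent.Lib.Helper9.GrLC.Basic

open DirectSum

universe u

set_option linter.unusedSectionVars false

namespace Groth.Agent.Helper9.GrLCLib

section Push
variable {ι : Type} [AddCommGroup ι] [DecidableEq ι]
variable {R : Type u} [CommRing R] (𝒜 : ι → AddSubgroup R) [GradedRing 𝒜]
variable {M : Type u} [AddCommGroup M] [Module R M] (ℳ : ι → AddSubgroup M)
  [DirectSum.Decomposition ℳ] [SetLike.GradedSMul 𝒜 ℳ]
variable {Q : Type u} [AddCommGroup Q] [Module R Q] (π : M →ₗ[R] Q)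

/-- the family of pieces pushed forward along `π` -/
def pushFam : ι → AddSubgroup Q := fun g => (ℳ g).map π.toAddMonoidHom

lemma mem_pushFam {g : ι} {q : Q} : q ∈ pushFam ℳ π g ↔ ∃ m ∈ ℳ g, π m = q := Iff.rfl

lemma map_mem_pushFam {g : ι} {m : M} (hm : m ∈ ℳ g) : π m ∈ pushFam ℳ π g := ⟨m, hm, rfl⟩

variable (hπ : Function.Surjective π) (hK : (LinearMap.ker π).IsHomogeneous ℳ)

open scoped Classical in
/-- the `g`-th component of a finite sum of homogeneous elements with distinct degrees -/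
lemma proj_sum_of_mem (s : Finset ι) (m : ι → M) (hm : ∀ k, m k ∈ ℳ k) (g : ι) :
    proj ℳ g (∑ k ∈ s, m k) = if g ∈ s then m g else 0 := by
  rw [map_sum]
  have : ∀ k ∈ s, proj ℳ g (m k) = if k = g then m g else 0 := by
    intro k _
    by_cases hkg : k = g
    · subst hkg
      rw [if_pos rfl, proj_of_mem_same ℳ (hm k)]
    · rw [if_neg hkg, proj_of_mem_ne ℳ (hm k) hkg]
  rw [Finset.sum_congr rfl this, Finset.sum_ite_eq' s g]

open scoped Classical in
include hK in
lemma coe_push_injective :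
    Function.Injective (DirectSum.coeAddMonoidHom (pushFam ℳ π)) := by
  rw [injective_iff_map_eq_zero]
  intro y hy
  have hex : ∀ g, ∃ m : M, m ∈ ℳ g ∧ π m = (y g : Q) := fun g => (y g).2
  choose m hm hπm using hex
  have hsum : DirectSum.coeAddMonoidHom (pushFam ℳ π) y = ∑ g ∈ y.support, (y g : Q) := by
    rw [DirectSum.coeAddMonoidHom_eq_dfinsuppSum]
    rfl
  have hx : (∑ g ∈ y.support, m g) ∈ LinearMap.ker π := by
    rw [LinearMap.mem_ker, map_sum, Finset.sum_congr rfl (fun g _ => hπm g), ← hsum, hy]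
  ext g
  by_cases hg : g ∈ y.support
  · have h1 := hK g hx
    have h2 := proj_sum_of_mem ℳ y.support m hm g
    rw [proj_apply] at h2
    rw [h2, if_pos hg, LinearMap.mem_ker, hπm] at h1
    rw [h1]
    rfl
  · rw [DFinsupp.mem_support_iff, not_not] at hg
    rw [hg]
    rfl

open scoped Classical in
include hπ in
lemma coe_push_surjective :
    Function.Surjective (DirectSum.coeAddMonoidHom (pushFam ℳ π)) := by
  intro q
  obtain ⟨x, rfl⟩ := hπ q
  refine ⟨∑ k ∈ (decompose ℳ x).support,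
    DirectSum.of (fun g => pushFam ℳ π g) k ⟨π (proj ℳ k x), map_mem_pushFam ℳ π (proj_mem ℳ k x)⟩,
    ?_⟩
  rw [map_sum]
  simp only [DirectSum.coeAddMonoidHom_of]
  rw [← map_sum]
  congr 1
  exact DirectSum.sum_support_decompose ℳ x

include hπ hK in
lemma push_isInternal : DirectSum.IsInternal (pushFam ℳ π) :=
  ⟨coe_push_injective ℳ π hK, coe_push_surjective ℳ π hπ⟩

/-- the decomposition of the quotient by the pushed-forward pieces -/
@[instance_reducible]
noncomputable def pushDecomposition : DirectSum.Decomposition (pushFam ℳ π) :=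
  (push_isInternal ℳ π hπ hK).chooseDecomposition

lemma pushGradedSMul : SetLike.GradedSMul 𝒜 (pushFam ℳ π) where
  smul_mem := by
    rintro a g r q hr ⟨m, hm, rfl⟩
    rw [vadd_eq_add]
    refine ⟨r • m, smul_mem_add 𝒜 ℳ hr hm, ?_⟩
    exact map_smul π r m

/-- the bundled graded module: the target of a surjection with homogeneous kernel -/
noncomputable def pushGMod : GrLC.GMod.{u} 𝒜 :=
  letI := pushDecomposition ℳ π hπ hK
  letI := pushGradedSMul 𝒜 ℳ π
  GrLC.GMod.of 𝒜 Q (pushFam ℳ π)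

lemma pushGMod_gr : (pushGMod 𝒜 ℳ π hπ hK).gr = pushFam ℳ π := rfl

lemma isGrHom_push : GrLC.IsGrHom ℳ (pushFam ℳ π) π := fun _ _ hm => map_mem_pushFam ℳ π hm

end Push

section Quot
variable {ι : Type} [AddCommGroup ι] [DecidableEq ι]
variable {R : Type u} [CommRing R] {𝒜 : ι → AddSubgroup R} [GradedRing 𝒜]

/-- the quotient of a bundled graded module by a homogeneous submodule -/
noncomputable def quotGMod (A : GrLC.GMod.{u} 𝒜) (P : Submodule R A.carrier)
    (hP : P.IsHomogeneous A.gr) : GrLC.GMod.{u} 𝒜 :=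
  pushGMod 𝒜 A.gr P.mkQ (Submodule.mkQ_surjective P) (by rw [Submodule.ker_mkQ]; exact hP)

lemma isGrHom_mkQ (A : GrLC.GMod.{u} 𝒜) (P : Submodule R A.carrier)
    (hP : P.IsHomogeneous A.gr) : GrLC.IsGrHom A.gr (quotGMod A P hP).gr P.mkQ :=
  isGrHom_push A.gr P.mkQ

/-- the quotient map, typed into the bundled quotient -/
noncomputable def quotMap (A : GrLC.GMod.{u} 𝒜) (P : Submodule R A.carrier)
    (hP : P.IsHomogeneous A.gr) : A.carrier →ₗ[R] (quotGMod A P hP).carrier := P.mkQ

lemma quotMap_surjective (A : GrLC.GMod.{u} 𝒜) (P : Submodule R A.carrier)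
    (hP : P.IsHomogeneous A.gr) : Function.Surjective (quotMap A P hP) :=
  Submodule.mkQ_surjective P

lemma quotMap_eq_zero_iff (A : GrLC.GMod.{u} 𝒜) (P : Submodule R A.carrier)
    (hP : P.IsHomogeneous A.gr) (x : A.carrier) : quotMap A P hP x = 0 ↔ x ∈ P :=
  Submodule.Quotient.mk_eq_zero P

lemma ker_quotMap (A : GrLC.GMod.{u} 𝒜) (P : Submodule R A.carrier)
    (hP : P.IsHomogeneous A.gr) : LinearMap.ker (quotMap A P hP) = P :=
  Submodule.ker_mkQ P

lemma isGrHom_quotMap (A : GrLC.GMod.{u} 𝒜) (P : Submodule R A.carrier)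
    (hP : P.IsHomogeneous A.gr) : GrLC.IsGrHom A.gr (quotGMod A P hP).gr (quotMap A P hP) :=
  isGrHom_push A.gr P.mkQ

end Quot

end Groth.Agent.Helper9.GrLCLib
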