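import Mathlib
import Groth.Prelude.Def_GrLC
import Groth.Agent.Lib.Helper9.GrLC.Basic

open DirectSum

universe u

set_option linter.unusedSectionVars false

namespace Groth.Agent.Helper9.GrLCLib

section Pull
variable {ι : Type} [AddCommGroup ι] [DecidableEq ι]
variable {R : Type u} [CommRing R] (𝒜 : ι → AddSubgroup R) [GradedRing 𝒜]
variable {M : Type u} [AddCommGroup M] [Module R M] (ℳ : ι → AddSubgroup M)
  [DirectSum.Decomposition ℳ] [SetLike.GradedSMul 𝒜 ℳ]
variable {N : Type u} [AddCommGroup N] [Module R N] (j : N →ₗ[R] M) (d : ι)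

/-- the family of pieces pulled back along `j` and shifted by `d` -/
def pullFam : ι → AddSubgroup N := fun g => (ℳ (g - d)).comap j.toAddMonoidHom

lemma mem_pullFam {g : ι} {x : N} : x ∈ pullFam ℳ j d g ↔ j x ∈ ℳ (g - d) := Iff.rfl

variable (hj : Function.Injective j)
  (hP : ∀ x g, (decompose ℳ (j x) g : M) ∈ LinearMap.range j)

/-- key computation: components in `M` of the image of a formal sum of pieces of `N` -/
lemma proj_coe_pull (y : ⨁ g, pullFam ℳ j d g) (g₀ : ι) :
    proj ℳ (g₀ - d) (j (DirectSum.coeAddMonoidHom (pullFam ℳ j d) y)) = j (y g₀ : N) := by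
  induction y using DirectSum.induction_on with
  | zero => simp
  | of g n =>
    rw [DirectSum.coeAddMonoidHom_of]
    have hn : j (n : N) ∈ ℳ (g - d) := n.2
    by_cases hg : g = g₀
    · subst hg
      rw [proj_of_mem_same ℳ hn, DirectSum.of_eq_same]
    · rw [proj_of_mem_ne ℳ hn (by simpa using hg), DirectSum.of_eq_of_ne _ _ _ (Ne.symm hg)]
      simp
  | add x y hx hy =>
    rw [map_add, map_add, map_add, hx, hy, DirectSum.add_apply, AddSubgroup.coe_add, map_add]

include hj in
lemma coe_pull_injective :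
    Function.Injective (DirectSum.coeAddMonoidHom (pullFam ℳ j d)) := by
  rw [injective_iff_map_eq_zero]
  intro y hy
  ext g₀
  have := proj_coe_pull ℳ j d y g₀
  rw [hy, map_zero, map_zero] at this
  have h0 : j (y g₀ : N) = j 0 := by rw [← this, map_zero]
  exact hj h0

open scoped Classical in
include hj hP in
lemma coe_pull_surjective :
    Function.Surjective (DirectSum.coeAddMonoidHom (pullFam ℳ j d)) := by
  intro x
  choose c hc using fun g => hP x g
  have hmem : ∀ k, c k ∈ pullFam ℳ j d (k + d) := by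
    intro k
    rw [mem_pullFam, hc k, add_sub_cancel_right]
    exact (decompose ℳ (j x) k).2
  refine ⟨∑ k ∈ (decompose ℳ (j x)).support,
    DirectSum.of (fun g => pullFam ℳ j d g) (k + d) ⟨c k, hmem k⟩, ?_⟩
  apply hj
  rw [map_sum, map_sum]
  simp only [DirectSum.coeAddMonoidHom_of, hc]
  exact DirectSum.sum_support_decompose ℳ (j x)

include hj hP in
lemma pull_isInternal : DirectSum.IsInternal (pullFam ℳ j d) :=
  ⟨coe_pull_injective ℳ j d hj, coe_pull_surjective ℳ j d hj hP⟩

/-- the decomposition of `N` by the pulled-back shifted pieces -/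
@[instance_reducible]
noncomputable def pullDecomposition : DirectSum.Decomposition (pullFam ℳ j d) :=
  (pull_isInternal ℳ j d hj hP).chooseDecomposition

lemma pullGradedSMul : SetLike.GradedSMul 𝒜 (pullFam ℳ j d) where
  smul_mem := by
    intro a g r x hr hx
    rw [vadd_eq_add, mem_pullFam, map_smul, add_sub_assoc]
    exact smul_mem_add 𝒜 ℳ hr hx

/-- the bundled graded module: `N` with pieces pulled back along `j` and shifted by `d` -/
noncomputable def pullGMod : GrLC.GMod.{u} 𝒜 :=
  letI := pullDecomposition ℳ j d hj hP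
  letI := pullGradedSMul 𝒜 ℳ j d
  GrLC.GMod.of 𝒜 N (pullFam ℳ j d)

lemma pullGMod_gr : (pullGMod 𝒜 ℳ j d hj hP).gr = pullFam ℳ j d := rfl

/-- components in the pulled-back decomposition -/
lemma map_proj_pull (x : N) (g : ι) :
    j (@proj ι _ N _ (pullFam ℳ j d) (pullDecomposition ℳ j d hj hP) g x) =
      proj ℳ (g - d) (j x) := by
  let _ := pullDecomposition ℳ j d hj hP
  have := proj_coe_pull ℳ j d (decompose (pullFam ℳ j d) x) g
  have hx : DirectSum.coeAddMonoidHom (pullFam ℳ j d) (decompose (pullFam ℳ j d) x) = x :=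
    (decompose (pullFam ℳ j d)).symm_apply_apply x
  rw [hx] at this
  exact this.symm

end Pull

section Shift
variable {ι : Type} [AddCommGroup ι] [DecidableEq ι]
variable {R : Type u} [CommRing R] {𝒜 : ι → AddSubgroup R} [GradedRing 𝒜]

/-- the shift of a bundled graded module: same carrier, `A(−d)`-type pieces `g ↦ A_{g - d}` -/
noncomputable def shiftGMod (A : GrLC.GMod.{u} 𝒜) (d : ι) : GrLC.GMod.{u} 𝒜 :=
  pullGMod 𝒜 A.gr (LinearMap.id : A.carrier →ₗ[R] A.carrier) d Function.injective_id
    (fun _ _ => ⟨_, rfl⟩)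

lemma mem_shiftGMod_gr (A : GrLC.GMod.{u} 𝒜) (d : ι) (g : ι) (x : A.carrier) :
    x ∈ (shiftGMod A d).gr g ↔ x ∈ A.gr (g - d) := Iff.rfl

end Shift

section Sub
variable {ι : Type} [AddCommGroup ι] [DecidableEq ι]
variable {R : Type u} [CommRing R] {𝒜 : ι → AddSubgroup R} [GradedRing 𝒜]

/-- a homogeneous submodule as a bundled graded module -/
noncomputable def subGMod (A : GrLC.GMod.{u} 𝒜) (P : Submodule R A.carrier)
    (hP : P.IsHomogeneous A.gr) : GrLC.GMod.{u} 𝒜 :=
  pullGMod 𝒜 A.gr P.subtype 0 (Submodule.injective_subtype P)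
    (fun x g => by rw [Submodule.range_subtype]; exact hP g x.2)

/-- the inclusion, typed out of the bundled submodule -/
noncomputable def subMap (A : GrLC.GMod.{u} 𝒜) (P : Submodule R A.carrier)
    (hP : P.IsHomogeneous A.gr) : (subGMod A P hP).carrier →ₗ[R] A.carrier := P.subtype

lemma subMap_injective (A : GrLC.GMod.{u} 𝒜) (P : Submodule R A.carrier)
    (hP : P.IsHomogeneous A.gr) : Function.Injective (subMap A P hP) :=
  Submodule.injective_subtype P

lemma range_subMap (A : GrLC.GMod.{u} 𝒜) (P : Submodule R A.carrier)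
    (hP : P.IsHomogeneous A.gr) : LinearMap.range (subMap A P hP) = P :=
  Submodule.range_subtype P

lemma subMap_mem (A : GrLC.GMod.{u} 𝒜) (P : Submodule R A.carrier)
    (hP : P.IsHomogeneous A.gr) (x : (subGMod A P hP).carrier) : subMap A P hP x ∈ P :=
  Subtype.property (p := fun y => y ∈ P) x

lemma mem_subGMod_gr (A : GrLC.GMod.{u} 𝒜) (P : Submodule R A.carrier)
    (hP : P.IsHomogeneous A.gr) (k : ι) (x : (subGMod A P hP).carrier) :
    x ∈ (subGMod A P hP).gr k ↔ subMap A P hP x ∈ A.gr k := by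
  show P.subtype x ∈ A.gr (k - 0) ↔ _
  rw [sub_zero]
  rfl

lemma isGrHom_subMap (A : GrLC.GMod.{u} 𝒜) (P : Submodule R A.carrier)
    (hP : P.IsHomogeneous A.gr) : GrLC.IsGrHom (subGMod A P hP).gr A.gr (subMap A P hP) :=
  fun k x hx => (mem_subGMod_gr A P hP k x).mp hx

/-- corestriction to the bundled submodule -/
noncomputable def subLift (A : GrLC.GMod.{u} 𝒜) (P : Submodule R A.carrier)
    (hP : P.IsHomogeneous A.gr) {N : Type u} [AddCommGroup N] [Module R N]
    (g : N →ₗ[R] A.carrier) (hg : ∀ x, g x ∈ P) : N →ₗ[R] (subGMod A P hP).carrier :=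
  LinearMap.codRestrict P g hg

lemma subMap_subLift (A : GrLC.GMod.{u} 𝒜) (P : Submodule R A.carrier)
    (hP : P.IsHomogeneous A.gr) {N : Type u} [AddCommGroup N] [Module R N]
    (g : N →ₗ[R] A.carrier) (hg : ∀ x, g x ∈ P) (x : N) :
    subMap A P hP (subLift A P hP g hg x) = g x := rfl

lemma subMap_comp_subLift (A : GrLC.GMod.{u} 𝒜) (P : Submodule R A.carrier)
    (hP : P.IsHomogeneous A.gr) {N : Type u} [AddCommGroup N] [Module R N]
    (g : N →ₗ[R] A.carrier) (hg : ∀ x, g x ∈ P) :
    subMap A P hP ∘ₗ subLift A P hP g hg = g := rfl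

end Sub

end Groth.Agent.Helper9.GrLCLib
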