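import Mathlib
import Groth.Prelude.Def_GrLC
import Groth.Agent.Lib.Helper9.GrLC.Basic
import Groth.Agent.Lib.Helper9.GrLC.Pull

open DirectSum

universe u

set_option linter.unusedSectionVars false

namespace Groth.Agent.Helper9.GrLCLib

section HomComp
variable {ι : Type} [AddCommGroup ι] [DecidableEq ι]
variable {R : Type u} [CommRing R] (𝒜 : ι → AddSubgroup R) [GradedRing 𝒜]
variable {N : Type u} [AddCommGroup N] [Module R N] (𝒩 : ι → AddSubgroup N)
  [DirectSum.Decomposition 𝒩] [SetLike.GradedSMul 𝒜 𝒩]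
variable {I : Type u} [AddCommGroup I] [Module R I] (ℐ : ι → AddSubgroup I)
  [DirectSum.Decomposition ℐ] [SetLike.GradedSMul 𝒜 ℐ]
variable (φ : N →ₗ[R] I) (d : ι)

/-- the degree-`d` component of a linear map, as an additive map -/
noncomputable def homCompAdd : N →+ I :=
  (DirectSum.toAddMonoid (fun g =>
    ((proj ℐ (g + d)).comp φ.toAddMonoidHom).comp (𝒩 g).subtype)).comp
    (decomposeAddEquiv 𝒩).toAddMonoidHom

lemma homCompAdd_of_mem {g : ι} {x : N} (hx : x ∈ 𝒩 g) :
    homCompAdd 𝒩 ℐ φ d x = proj ℐ (g + d) (φ x) := by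
  unfold homCompAdd
  simp only [AddMonoidHom.coe_comp, Function.comp_apply, AddEquiv.toAddMonoidHom_eq_coe,
    AddMonoidHom.coe_coe, decomposeAddEquiv_apply]
  rw [decompose_of_mem 𝒩 hx, DirectSum.toAddMonoid_of]
  rfl

include 𝒜 in
lemma homCompAdd_smul (r : R) (x : N) :
    homCompAdd 𝒩 ℐ φ d (r • x) = r • homCompAdd 𝒩 ℐ φ d x := by
  induction r using DirectSum.Decomposition.inductionOn 𝒜 with
  | zero => simp
  | @homogeneous a s =>
    induction x using DirectSum.Decomposition.inductionOn 𝒩 with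
    | zero => simp
    | @homogeneous g m =>
      have h1 : (s : R) • (m : N) ∈ 𝒩 (a + g) := smul_mem_add 𝒜 𝒩 s.2 m.2
      rw [homCompAdd_of_mem 𝒩 ℐ φ d h1, homCompAdd_of_mem 𝒩 ℐ φ d m.2, map_smul, add_assoc,
        proj_smul_of_mem 𝒜 ℐ s.2]
    | add x y hx hy => rw [smul_add, map_add, map_add, hx, hy, smul_add]
  | add r s hr hs => rw [add_smul, map_add, hr, hs, add_smul]

/-- the degree-`d` component of a linear map -/
noncomputable def homComp : N →ₗ[R] I where
  toFun := homCompAdd 𝒩 ℐ φ d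
  map_add' := map_add _
  map_smul' r x := homCompAdd_smul 𝒜 𝒩 ℐ φ d r x

lemma homComp_of_mem {g : ι} {x : N} (hx : x ∈ 𝒩 g) :
    homComp 𝒜 𝒩 ℐ φ d x = proj ℐ (g + d) (φ x) := homCompAdd_of_mem 𝒩 ℐ φ d hx

lemma homComp_isGrHomDeg : GrLC.IsGrHomDeg 𝒩 ℐ (homComp 𝒜 𝒩 ℐ φ d) d := by
  intro g x hx
  rw [homComp_of_mem 𝒜 𝒩 ℐ φ d hx]
  exact proj_mem ℐ _ _

open scoped Classical in
/-- a finitely generated graded module is generated by finitely many homogeneous elements -/
lemma exists_homog_generators (P : Submodule R N) (hP : P.IsHomogeneous 𝒩) (hfg : P.FG) :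
    ∃ T : Finset N, (∀ t ∈ T, ∃ g, t ∈ 𝒩 g) ∧ Submodule.span R (T : Set N) = P := by
  obtain ⟨S, hS⟩ := hfg
  refine ⟨S.biUnion (fun s => (decompose 𝒩 s).support.image (fun k => proj 𝒩 k s)), ?_, ?_⟩
  · intro t ht
    simp only [Finset.mem_biUnion, Finset.mem_image] at ht
    obtain ⟨s, _, k, _, rfl⟩ := ht
    exact ⟨k, proj_mem 𝒩 k s⟩
  · apply le_antisymm
    · rw [Submodule.span_le]
      intro t ht
      simp only [Finset.coe_biUnion, Finset.coe_image, Set.mem_iUnion, Set.mem_image,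
        Finset.mem_coe] at ht
      obtain ⟨s, hs, k, _, rfl⟩ := ht
      have hsP : s ∈ P := by rw [← hS]; exact Submodule.subset_span hs
      exact hP k hsP
    · rw [← hS, Submodule.span_le]
      intro s hs
      have : s = ∑ k ∈ (decompose 𝒩 s).support, proj 𝒩 k s :=
        (DirectSum.sum_support_decompose 𝒩 s).symm
      rw [SetLike.mem_coe, this]
      refine Submodule.sum_mem _ (fun k hk => Submodule.subset_span ?_)
      simp only [Finset.coe_biUnion, Finset.coe_image, Set.mem_iUnion, Set.mem_image,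
        Finset.mem_coe]
      exact ⟨s, hs, k, hk, rfl⟩

open scoped Classical in
/-- a linear map out of a finitely generated graded module is a finite sum of homogeneous
components -/
lemma exists_finset_sum_homComp [Module.Finite R N] :
    ∃ D : Finset ι, φ = ∑ d ∈ D, homComp 𝒜 𝒩 ℐ φ d := by
  obtain ⟨T, hT, hspan⟩ := exists_homog_generators (R := R) 𝒩 ⊤
    (fun k x _ => Submodule.mem_top) Module.Finite.fg_top
  choose! deg hdeg using hT
  refine ⟨T.biUnion (fun t => (decompose ℐ (φ t)).support.image (fun e => e - deg t)), ?_⟩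
  apply LinearMap.ext_on_range (v := fun t : T => (t : N))
  · rw [Subtype.range_coe_subtype]
    exact hspan
  rintro ⟨t, ht⟩
  show φ t = (∑ d ∈ _, homComp 𝒜 𝒩 ℐ φ d) t
  rw [LinearMap.sum_apply]
  set D := T.biUnion (fun t => (decompose ℐ (φ t)).support.image (fun e => e - deg t)) with hD
  have h1 : ∀ d ∈ D, homComp 𝒜 𝒩 ℐ φ d t = proj ℐ (deg t + d) (φ t) :=
    fun d _ => homComp_of_mem 𝒜 𝒩 ℐ φ d (hdeg t ht)
  rw [Finset.sum_congr rfl h1]
  have h2 : ∑ d ∈ D, proj ℐ (deg t + d) (φ t) = ∑ e ∈ D.image (fun d => deg t + d),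
      proj ℐ e (φ t) := by
    rw [Finset.sum_image]
    intro a _ b _ hab
    exact add_left_cancel hab
  rw [h2]
  have h3 : (decompose ℐ (φ t)).support ⊆ D.image (fun d => deg t + d) := by
    intro e he
    rw [Finset.mem_image]
    refine ⟨e - deg t, ?_, by abel⟩
    rw [hD, Finset.mem_biUnion]
    exact ⟨t, ht, Finset.mem_image.mpr ⟨e, he, rfl⟩⟩
  rw [← Finset.sum_subset h3]
  · exact (DirectSum.sum_support_decompose ℐ (φ t)).symm
  · intro e _ he
    rw [DFinsupp.mem_support_iff, not_not] at he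
    rw [proj_apply, he]
    rfl

end HomComp

section Extension
variable {ι : Type} [AddCommGroup ι] [DecidableEq ι]
variable {R : Type u} [CommRing R] (𝒜 : ι → AddSubgroup R) [GradedRing 𝒜]
variable {I : Type u} [AddCommGroup I] [Module R I] (ℐ : ι → AddSubgroup I)
  [DirectSum.Decomposition ℐ] [SetLike.GradedSMul 𝒜 ℐ]

/-- **Extension lemma.** Into a *injective module, every (not necessarily homogeneous) linear
map from a finitely generated graded module extends along a homogeneous injection. -/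
theorem exists_extension (hI : GrLC.IsStarInj 𝒜 ℐ) (A B : GrLC.GMod.{u} 𝒜)
    (f : A.carrier →ₗ[R] B.carrier) (hf : GrLC.IsGrHom A.gr B.gr f)
    (hinj : Function.Injective f) [Module.Finite R A.carrier] (φ : A.carrier →ₗ[R] I) :
    ∃ ψ : B.carrier →ₗ[R] I, ψ ∘ₗ f = φ := by
  obtain ⟨D, hD⟩ := exists_finset_sum_homComp 𝒜 A.gr ℐ φ
  have key : ∀ d, ∃ h : B.carrier →ₗ[R] I, h ∘ₗ f = homComp 𝒜 A.gr ℐ φ d := by
    intro d
    obtain ⟨h, _, hh⟩ := hI (shiftGMod A d) (shiftGMod B d) f
      (fun g x hx => hf (g - d) x hx) hinj (homComp 𝒜 A.gr ℐ φ d)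
      (fun g x hx => by
        have := homComp_isGrHomDeg 𝒜 A.gr ℐ φ d (g - d) x hx
        rwa [sub_add_cancel] at this)
    exact ⟨h, hh⟩
  choose h hh using key
  refine ⟨∑ d ∈ D, h d, ?_⟩
  ext x
  rw [LinearMap.comp_apply, LinearMap.sum_apply]
  conv_rhs => rw [hD, LinearMap.sum_apply]
  refine Finset.sum_congr rfl (fun d _ => ?_)
  rw [← hh d]
  rfl

end Extension

end Groth.Agent.Helper9.GrLCLib
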