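import Mathlib
import Groth.Prelude.Def_GrLC
import Groth.Prelude.Def_Wider
import Groth.Agent.Lib.Helper8.LC46
import Groth.Agent.S13224

set_option autoImplicit false
universe u
open CategoryTheory

namespace Groth.Agent.Helper9.GrLCLib

open Groth.Agent.Helper8.LC Abelian

variable {R : Type u} [CommRing R] (J : Ideal R)

/-- naturality of the connecting homomorphism of local cohomology -/
lemma δ_naturality (i : ℕ) {S₁ S₂ : ShortComplex (ModuleCat.{u} R)} (h₁ : S₁.ShortExact)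
    (h₂ : S₂.ShortExact) (φ : S₁ ⟶ S₂) (x : (localCohomology J i).obj S₁.X₃) :
    ((localCohomology J (i + 1)).map φ.τ₁) (δ J i h₁ x) =
      δ J i h₂ (((localCohomology J i).map φ.τ₃) x) := by
  obtain ⟨n, e, rfl⟩ := ι_rep J i S₁.X₃ x
  rw [δ_ι, ι_map, ι_map, δ_ι]
  congr 1
  rw [Ext.comp_assoc _ _ _ rfl (add_zero 1) (by omega),
    ShortComplex.ShortExact.extClass_naturality h₁ h₂ φ,
    ← Ext.comp_assoc _ _ _ (add_zero i) (zero_add 1) (by omega)]


open Groth.Agent.S13224.Aux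

/-- ungraded resolution data -/
structure URes (R : Type u) [CommRing R] where
  M : Type u
  [acgM : AddCommGroup M]
  [modM : Module R M]
  X : ℕ → Type u
  [acgX : ∀ n, AddCommGroup (X n)]
  [modX : ∀ n, Module R (X n)]
  d : ∀ n, X n →ₗ[R] X (n + 1)
  ε : M →ₗ[R] X 0
  ε_inj : Function.Injective ε
  exact_zero : LinearMap.ker (d 0) = LinearMap.range ε
  exact_succ : ∀ n, LinearMap.ker (d (n + 1)) = LinearMap.range (d n)

attribute [instance] URes.acgM URes.modM URes.acgX URes.modX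

namespace URes

variable {J}

/-- the shifted resolution of the first syzygy `range (d 0)` -/
def shift (U : URes R) : URes R where
  M := LinearMap.range (U.d 0)
  X := fun n => U.X (n + 1)
  d := fun n => U.d (n + 1)
  ε := (LinearMap.range (U.d 0)).subtype
  ε_inj := Submodule.injective_subtype _
  exact_zero := by rw [Submodule.range_subtype]; exact U.exact_succ 0
  exact_succ := fun n => U.exact_succ (n + 1)

/-- the short exact sequence `0 → M → X 0 → range (d 0) → 0` -/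
abbrev sc (U : URes R) : ShortComplex (ModuleCat.{u} R) := ses (U.d 0) U.ε U.exact_zero

lemma sc_exact (U : URes R) : U.sc.ShortExact := ses_shortExact (U.d 0) U.ε U.ε_inj U.exact_zero

/-- `Γ_J`-acyclicity of all terms -/
def Acyclic (J : Ideal R) (U : URes R) : Prop :=
  ∀ n j, 1 ≤ j → Subsingleton (LocCoh.H J j (U.X n))

lemma Acyclic.shift {U : URes R} (h : U.Acyclic J) : U.shift.Acyclic J :=
  fun n j hj => h (n + 1) j hj

variable (J)

/-- the subgroup of `H^i_J(M)` of classes of "degree `P`": defined by iterated connecting maps from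
the `i`-th syzygy. -/
noncomputable def GrH1 : (i : ℕ) → (U : URes R) → (P₀ : AddSubgroup U.M) →
    (P : ∀ n, AddSubgroup (U.X n)) → AddSubgroup (LocCoh.H J i U.M)
  | 0, U, P₀, _ => P₀.comap (ev0 J (ModuleCat.of R U.M)).toAddMonoidHom
  | i + 1, U, _, P =>
      (GrH1 i U.shift ((P 1).comap (LinearMap.range (U.d 0)).subtype.toAddMonoidHom)
        (fun n => P (n + 1))).map (δ J i U.sc_exact).toAddMonoidHom

lemma mem_GrH1_zero (U : URes R) (P₀ : AddSubgroup U.M) (P : ∀ n, AddSubgroup (U.X n))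
    (x : LocCoh.H J 0 U.M) :
    x ∈ GrH1 J 0 U P₀ P ↔ ev0 J (ModuleCat.of R U.M) x ∈ P₀ := Iff.rfl

lemma mem_GrH1_succ (i : ℕ) (U : URes R) (P₀ : AddSubgroup U.M) (P : ∀ n, AddSubgroup (U.X n))
    (x : LocCoh.H J (i + 1) U.M) :
    x ∈ GrH1 J (i + 1) U P₀ P ↔
      ∃ y ∈ GrH1 J i U.shift ((P 1).comap (LinearMap.range (U.d 0)).subtype.toAddMonoidHom)
        (fun n => P (n + 1)), δ J i U.sc_exact y = x := Iff.rfl

end URes


namespace URes

open Groth.Agent.S13224.Aux

/-- degree zero: explicit comparison -/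
lemma theta0 (U : URes R) : ∃ Θ : Hc J U.X U.d 0 ≃ₗ[R] LocCoh.H J 0 U.M,
    ∀ z : Zc J U.X U.d 0,
      U.ε (ev0 J (ModuleCat.of R U.M) (Θ (Submodule.Quotient.mk z))) = z.1 := by
  have hmem : ∀ m : DRing.torsionSub J U.M, U.ε m.1 ∈ Zc J U.X U.d 0 := by
    rintro ⟨m, n, hn⟩
    refine ⟨⟨n, fun r hr => ?_⟩, ?_⟩
    · rw [← map_smul, hn r hr, map_zero]
    · rw [U.exact_zero]; exact ⟨m, rfl⟩
  let φ : DRing.torsionSub J U.M →ₗ[R] Zc J U.X U.d 0 :=
    LinearMap.codRestrict _ (U.ε ∘ₗ (DRing.torsionSub J U.M).subtype) hmem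
  have hφinj : Function.Injective φ := by
    intro x y hxy
    apply Subtype.ext
    apply U.ε_inj
    exact congrArg Subtype.val hxy
  have hφsurj : Function.Surjective φ := by
    rintro ⟨z, ⟨n, hn⟩, hz⟩
    rw [U.exact_zero] at hz
    obtain ⟨m, rfl⟩ := hz
    refine ⟨⟨m, n, fun r hr => ?_⟩, rfl⟩
    apply U.ε_inj
    rw [map_smul, hn r hr, map_zero]
  let e1 : DRing.torsionSub J U.M ≃ₗ[R] Zc J U.X U.d 0 :=
    LinearEquiv.ofBijective φ ⟨hφinj, hφsurj⟩
  have hbot : (Bc J U.X U.d 0).comap (Zc J U.X U.d 0).subtype = ⊥ := by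
    change (⊥ : Submodule R (U.X 0)).comap (Zc J U.X U.d 0).subtype = ⊥
    rw [Submodule.comap_bot, Submodule.ker_subtype]
  let e2 : Hc J U.X U.d 0 ≃ₗ[R] Zc J U.X U.d 0 := Submodule.quotEquivOfEqBot _ hbot
  refine ⟨e2.trans (e1.symm.trans (h0Equiv J (ModuleCat.of R U.M)).symm), fun z => ?_⟩
  change U.ε (ev0 J (ModuleCat.of R U.M)
    ((h0Equiv J (ModuleCat.of R U.M)).symm (e1.symm (e2 (Submodule.Quotient.mk z))))) = z.1
  rw [ev0_h0Equiv_symm]
  have h1 : e2 (Submodule.Quotient.mk z) = z := Submodule.quotEquivOfEqBot_apply_mk _ hbot z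
  rw [h1]
  have h2 : e1 (e1.symm z) = z := e1.apply_symm_apply z
  exact congrArg Subtype.val h2

lemma mk_injective_zero (U : URes R) (z z' : Zc J U.X U.d 0)
    (h : (Submodule.Quotient.mk z : Hc J U.X U.d 0) = Submodule.Quotient.mk z') : z = z' := by
  have hbot : (Bc J U.X U.d 0).comap (Zc J U.X U.d 0).subtype = ⊥ := by
    change (⊥ : Submodule R (U.X 0)).comap (Zc J U.X U.d 0).subtype = ⊥
    rw [Submodule.comap_bot, Submodule.ker_subtype]
  have := (Submodule.Quotient.eq _).mp h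
  rw [hbot, Submodule.mem_bot, sub_eq_zero] at this
  exact this


/-- degree one: explicit comparison -/
lemma theta1 (U : URes R) (hacyc : Subsingleton (LocCoh.H J 1 (U.X 0))) :
    ∃ Θ : Hc J U.X U.d 1 ≃ₗ[R] LocCoh.H J 1 U.M,
      ∀ (z : Zc J U.X U.d 1) (y : LocCoh.H J 0 (LinearMap.range (U.d 0))),
        ((ev0 J (ModuleCat.of R (LinearMap.range (U.d 0))) y : LinearMap.range (U.d 0)) : U.X 1) = z.1 →
        Θ (Submodule.Quotient.mk z) = δ J 0 U.sc_exact y := by
  have hS := U.sc_exact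
  have hmem : ∀ z : Zc J U.X U.d 1, z.1 ∈ LinearMap.range (U.d 0) := fun z => by
    rw [← U.exact_succ 0]; exact z.2.2
  let e1 : Zc J U.X U.d 1 →ₗ[R] DRing.torsionSub J (LinearMap.range (U.d 0)) :=
    LinearMap.codRestrict _
      (LinearMap.codRestrict (LinearMap.range (U.d 0)) (Zc J U.X U.d 1).subtype hmem) (by
        rintro ⟨z, ⟨n, hn⟩, hz⟩
        exact ⟨n, fun r hr => Subtype.ext (hn r hr)⟩)
  have he1surj : Function.Surjective e1 := by
    rintro ⟨⟨t, ht⟩, n, hn⟩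
    refine ⟨⟨t, ⟨n, fun r hr => ?_⟩, ?_⟩, rfl⟩
    · exact congrArg Subtype.val (hn r hr)
    · rw [U.exact_succ 0]; exact ht
  let h0e := h0Equiv J (ModuleCat.of R (LinearMap.range (U.d 0)))
  let ψ : Zc J U.X U.d 1 →ₗ[R] LocCoh.H J 1 U.M :=
    (δ J 0 hS) ∘ₗ h0e.symm.toLinearMap ∘ₗ e1
  have hψ : Function.Surjective ψ := by
    intro y
    obtain ⟨y1, rfl⟩ := δ_surjective_of_subsingleton J 0 hS hacyc y
    obtain ⟨y2, rfl⟩ := h0e.symm.surjective y1
    obtain ⟨y3, rfl⟩ := he1surj y2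
    exact ⟨y3, rfl⟩
  have hker : (Bc J U.X U.d 1).comap (Zc J U.X U.d 1).subtype = LinearMap.ker ψ := by
    ext z
    rw [LinearMap.mem_ker, Submodule.mem_comap]
    change z.1 ∈ (GrLC.gam J (U.X 0)).map (U.d 0) ↔ δ J 0 hS (h0e.symm (e1 z)) = 0
    rw [exact_g_δ J 0 hS]
    change _ ↔ ∃ y : LocCoh.H J 0 (U.X 0),
      ((localCohomology J 0).map (ModuleCat.ofHom (U.d 0).rangeRestrict)) y = h0e.symm (e1 z)
    constructor
    · rintro ⟨x, hx, hxz⟩
      refine ⟨(h0Equiv J (ModuleCat.of R (U.X 0))).symm ⟨x, hx⟩, ?_⟩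
      apply ev0_injective J (ModuleCat.of R (LinearMap.range (U.d 0)))
      rw [ev0_map', ev0_h0Equiv_symm, ev0_h0Equiv_symm]
      apply Subtype.ext
      exact hxz
    · rintro ⟨y, hy⟩
      refine ⟨ev0 J _ y, ev0_mem J _ y, ?_⟩
      have h2 := congrArg (ev0 J (ModuleCat.of R (LinearMap.range (U.d 0)))) hy
      rw [ev0_map', ev0_h0Equiv_symm] at h2
      exact congrArg Subtype.val h2
  refine ⟨(Submodule.quotEquivOfEq _ _ hker).trans (LinearMap.quotKerEquivOfSurjective ψ hψ),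
    fun z y hy => ?_⟩
  change δ J 0 hS (h0e.symm (e1 z)) = δ J 0 hS y
  congr 1
  apply ev0_injective J (ModuleCat.of R (LinearMap.range (U.d 0)))
  rw [ev0_h0Equiv_symm]
  apply Subtype.ext
  exact hy.symm

/-- the comparison isomorphism, tracking "degrees" -/
theorem exists_theta : ∀ (i : ℕ) (U : URes R), U.Acyclic J →
    ∃ Θ : Hc J U.X U.d i ≃ₗ[R] LocCoh.H J i U.M,
      ∀ (P₀ : AddSubgroup U.M) (P : ∀ n, AddSubgroup (U.X n)), (∀ m, U.ε m ∈ P 0 ↔ m ∈ P₀) →
        ∀ x, (∃ z : Zc J U.X U.d i, z.1 ∈ P i ∧ Submodule.Quotient.mk z = x) ↔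
          Θ x ∈ GrH1 J i U P₀ P := by
  intro i
  induction i using Nat.strong_induction_on with
  | _ i ih =>
    intro U hU
    match i, ih with
    | 0, _ =>
      obtain ⟨Θ, hΘ⟩ := theta0 J U
      refine ⟨Θ, fun P₀ P hP x => ?_⟩
      obtain ⟨z₀, rfl⟩ := Submodule.Quotient.mk_surjective _ x
      rw [mem_GrH1_zero, ← hP, hΘ z₀]
      constructor
      · rintro ⟨z, hz, hzz⟩
        rw [← mk_injective_zero J U z z₀ hzz]
        exact hz
      · intro h
        exact ⟨z₀, h, rfl⟩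
    | 1, _ =>
      obtain ⟨Θ, hΘ⟩ := theta1 J U (hU 0 1 le_rfl)
      refine ⟨Θ, fun P₀ P _ x => ?_⟩
      rw [mem_GrH1_succ]
      constructor
      · rintro ⟨z, hz, rfl⟩
        have hzr : z.1 ∈ LinearMap.range (U.d 0) := by rw [← U.exact_succ 0]; exact z.2.2
        have hzt : (⟨z.1, hzr⟩ : LinearMap.range (U.d 0)) ∈
            DRing.torsionSub J (LinearMap.range (U.d 0)) := by
          obtain ⟨n, hn⟩ := z.2.1
          exact ⟨n, fun r hr => Subtype.ext (hn r hr)⟩
        refine ⟨(h0Equiv J (ModuleCat.of R (LinearMap.range (U.d 0)))).symm ⟨⟨z.1, hzr⟩, hzt⟩,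
          ?_, ?_⟩
        · change ((ev0 J (ModuleCat.of R (LinearMap.range (U.d 0)))
            ((h0Equiv J (ModuleCat.of R (LinearMap.range (U.d 0)))).symm ⟨⟨z.1, hzr⟩, hzt⟩) :
              LinearMap.range (U.d 0)) : U.X 1) ∈ P 1
          rw [ev0_h0Equiv_symm]
          exact hz
        · symm
          apply hΘ
          rw [ev0_h0Equiv_symm]
      · rintro ⟨y, hy, hyx⟩
        have hy' : ((ev0 J (ModuleCat.of R (LinearMap.range (U.d 0))) y :
            LinearMap.range (U.d 0)) : U.X 1) ∈ P 1 := hy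
        have hyt := ev0_mem J (ModuleCat.of R (LinearMap.range (U.d 0))) y
        let w : LinearMap.range (U.d 0) := ev0 J (ModuleCat.of R (LinearMap.range (U.d 0))) y
        have hwz : (w : U.X 1) ∈ Zc J U.X U.d 1 := by
          refine ⟨?_, ?_⟩
          · obtain ⟨n, hn⟩ := hyt
            exact ⟨n, fun r hr => congrArg Subtype.val (hn r hr)⟩
          · rw [U.exact_succ 0]; exact w.2
        refine ⟨⟨(w : U.X 1), hwz⟩, hy', ?_⟩
        apply Θ.injective
        rw [← hyx]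
        exact hΘ ⟨(w : U.X 1), hwz⟩ y rfl
    | (i + 2), ih =>
      obtain ⟨Θ', hΘ'⟩ := ih (i + 1) (by omega) U.shift hU.shift
      have hbij := δ_bijective_of_subsingleton J (i + 1) U.sc_exact (hU 0 (i + 1) (by omega))
        (hU 0 (i + 1 + 1) (by omega))
      let e2 : LocCoh.H J (i + 1) (LinearMap.range (U.d 0)) ≃ₗ[R] LocCoh.H J (i + 2) U.M :=
        LinearEquiv.ofBijective (δ J (i + 1) U.sc_exact) hbij
      refine ⟨LinearEquiv.trans (show Hc J U.X U.d (i + 2) ≃ₗ[R] _ from Θ') e2, fun P₀ P _ x => ?_⟩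
      rw [mem_GrH1_succ]
      have h1 := hΘ' ((P 1).comap (LinearMap.range (U.d 0)).subtype.toAddMonoidHom)
        (fun n => P (n + 1)) (fun m => Iff.rfl) x
      constructor
      · intro hx
        exact ⟨Θ' x, h1.mp hx, rfl⟩
      · rintro ⟨y, hy, hyx⟩
        have : y = Θ' x := hbij.1 hyx
        rw [this] at hy
        exact h1.mpr hy

end URes

end Groth.Agent.Helper9.GrLCLib
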