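import Mathlib
import Groth.Prelude.Def_GrLC
import Groth.Agent.Lib.Helper9.GrLC.Basic
import Groth.Agent.Lib.Helper9.GrLC.Push

open DirectSum

universe u

set_option linter.unusedSectionVars false

namespace Groth.Agent.Helper9.GrLCLib

section Homog
variable {ι : Type} [AddCommGroup ι] [DecidableEq ι]
variable {R : Type u} [CommRing R]
variable {M : Type u} [AddCommGroup M] [Module R M] (ℳ : ι → AddSubgroup M)
  [DirectSum.Decomposition ℳ]
variable {N : Type u} [AddCommGroup N] [Module R N] (𝒩 : ι → AddSubgroup N)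
  [DirectSum.Decomposition 𝒩]

lemma isHomogeneous_iff_proj (P : Submodule R M) :
    P.IsHomogeneous ℳ ↔ ∀ k x, x ∈ P → proj ℳ k x ∈ P := Iff.rfl

lemma inf_isHomogeneous {P Q : Submodule R M} (hP : P.IsHomogeneous ℳ)
    (hQ : Q.IsHomogeneous ℳ) : (P ⊓ Q).IsHomogeneous ℳ :=
  fun k _ hx => ⟨hP k hx.1, hQ k hx.2⟩

lemma bot_isHomogeneous : (⊥ : Submodule R M).IsHomogeneous ℳ := by
  intro k x hx
  rw [Submodule.mem_bot] at hx
  subst hx
  simp

lemma top_isHomogeneous : (⊤ : Submodule R M).IsHomogeneous ℳ := fun _ _ _ => Submodule.mem_top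

lemma comap_isHomogeneous {f : M →ₗ[R] N} (hf : GrLC.IsGrHom ℳ 𝒩 f) {P : Submodule R N}
    (hP : P.IsHomogeneous 𝒩) : (P.comap f).IsHomogeneous ℳ := by
  intro k x hx
  rw [Submodule.mem_comap] at hx ⊢
  have := proj_map_of_isGrHom ℳ 𝒩 hf x k
  rw [proj_apply, proj_apply] at this
  rw [← this]
  exact hP k hx

lemma map_isHomogeneous {f : M →ₗ[R] N} (hf : GrLC.IsGrHom ℳ 𝒩 f) {P : Submodule R M}
    (hP : P.IsHomogeneous ℳ) : (P.map f).IsHomogeneous 𝒩 := by
  rintro k _ ⟨x, hx, rfl⟩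
  have := proj_map_of_isGrHom ℳ 𝒩 hf x k
  rw [proj_apply, proj_apply] at this
  rw [this]
  exact ⟨_, hP k hx, rfl⟩

lemma sSup_isHomogeneous_of_chain {c : Set (Submodule R M)} (hc : IsChain (· ≤ ·) c)
    (hne : c.Nonempty) (h : ∀ P ∈ c, P.IsHomogeneous ℳ) : (sSup c).IsHomogeneous ℳ := by
  intro k x hx
  rw [Submodule.mem_sSup_of_directed hne hc.directedOn] at hx ⊢
  obtain ⟨P, hP, hxP⟩ := hx
  exact ⟨P, hP, h P hP k hxP⟩

/-- the kernel of a homogeneous map is a homogeneous submodule -/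
lemma ker_isHomogeneous {f : M →ₗ[R] N} (hf : GrLC.IsGrHom ℳ 𝒩 f) :
    (LinearMap.ker f).IsHomogeneous ℳ := by
  have := comap_isHomogeneous ℳ 𝒩 hf (bot_isHomogeneous 𝒩 (R := R))
  rwa [Submodule.comap_bot] at this

/-- a homogeneous map out of a *essential extension which is injective on the base is injective -/
lemma injective_of_comp_injective' {L : Type u} [AddCommGroup L] [Module R L]
    (𝓛 : ι → AddSubgroup L) {f₁ : L →ₗ[R] M} (h₁ : GrLC.IsStarEss 𝓛 ℳ f₁)
    {β : M →ₗ[R] N} (hβ : GrLC.IsGrHom ℳ 𝒩 β) (hinj : Function.Injective (β ∘ₗ f₁)) :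
    Function.Injective β := by
  rw [← LinearMap.ker_eq_bot]
  by_contra hne
  have := h₁.essential _ (ker_isHomogeneous ℳ 𝒩 hβ) hne
  apply this
  rw [eq_bot_iff]
  rintro x ⟨hx1, ⟨m, rfl⟩⟩
  rw [SetLike.mem_coe, LinearMap.mem_ker] at hx1
  have : m = 0 := hinj (by rw [LinearMap.comp_apply, hx1, map_zero])
  rw [this, map_zero]
  exact Submodule.zero_mem _

/-- the inverse of a bijective homogeneous map is homogeneous -/
lemma isGrHom_symm (e : M ≃ₗ[R] N) (he : GrLC.IsGrHom ℳ 𝒩 e.toLinearMap) :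
    GrLC.IsGrHom 𝒩 ℳ e.symm.toLinearMap := by
  intro k q hq
  have h1 : proj ℳ k (e.symm q) = e.symm q := by
    apply e.injective
    have := proj_map_of_isGrHom ℳ 𝒩 he (e.symm q) k
    simp only [LinearEquiv.coe_coe, LinearEquiv.apply_symm_apply] at this
    rw [← this, proj_of_mem_same 𝒩 hq, LinearEquiv.apply_symm_apply]
  show e.symm q ∈ ℳ k
  rw [← h1]
  exact proj_mem ℳ k _

/-- a nonzero homogeneous submodule contains a nonzero homogeneous element -/
lemma exists_homog_mem_ne_zero {P : Submodule R M} (hP : P.IsHomogeneous ℳ) (hne : P ≠ ⊥) :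
    ∃ (k : ι) (x : M), x ∈ P ∧ x ∈ ℳ k ∧ x ≠ 0 := by
  obtain ⟨x, hxP, hx0⟩ := Submodule.exists_mem_ne_zero_of_ne_bot hne
  by_contra hcon
  apply hx0
  have : decompose ℳ x = 0 := by
    ext k
    by_contra hk
    exact hcon ⟨k, proj ℳ k x, hP k hxP, proj_mem ℳ k x, fun h0 => hk (by rw [← proj_apply, h0]; rfl)⟩
  exact (decompose ℳ).injective (by rw [this, decompose_zero])

/-- existence of a maximal homogeneous submodule meeting `N` trivially -/
lemma exists_maximal_homogeneous_disjoint (N : Submodule R M) :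
    ∃ K : Submodule R M, K.IsHomogeneous ℳ ∧ K ⊓ N = ⊥ ∧
      ∀ K' : Submodule R M, K'.IsHomogeneous ℳ → K' ⊓ N = ⊥ → K ≤ K' → K' = K := by
  obtain ⟨K, _, hK⟩ := zorn_le_nonempty₀ {K : Submodule R M | K.IsHomogeneous ℳ ∧ K ⊓ N = ⊥}
    (fun c hcs hc y hy => by
      refine ⟨sSup c, ⟨sSup_isHomogeneous_of_chain ℳ hc ⟨y, hy⟩ (fun P hP => (hcs hP).1), ?_⟩,
        fun z hz => le_sSup hz⟩
      rw [eq_bot_iff]
      rintro x ⟨hx1, hx2⟩
      rw [SetLike.mem_coe, Submodule.mem_sSup_of_directed ⟨y, hy⟩ hc.directedOn] at hx1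
      obtain ⟨P, hP, hxP⟩ := hx1
      rw [← (hcs hP).2]
      exact ⟨hxP, hx2⟩)
    ⊥ ⟨bot_isHomogeneous ℳ, bot_inf_eq N⟩
  refine ⟨K, hK.prop.1, hK.prop.2, fun K' h1 h2 h3 => ?_⟩
  exact le_antisymm (hK.le_of_ge ⟨h1, h2⟩ h3) h3

end Homog

section EssQuot
variable {ι : Type} [AddCommGroup ι] [DecidableEq ι]
variable {R : Type u} [CommRing R] {𝒜 : ι → AddSubgroup R} [GradedRing 𝒜]
variable {M : Type u} [AddCommGroup M] [Module R M] (ℳ : ι → AddSubgroup M)
  [DirectSum.Decomposition ℳ]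

/-- if `K` is maximal among homogeneous submodules of `A` meeting the image of `f` trivially, then
`M → A → A/K` is a *essential extension -/
theorem isStarEss_quotMap_comp (A : GrLC.GMod.{u} 𝒜) (f : M →ₗ[R] A.carrier)
    (hf : GrLC.IsGrHom ℳ A.gr f) (hinj : Function.Injective f)
    (K : Submodule R A.carrier) (hK : K.IsHomogeneous A.gr)
    (hdisj : K ⊓ LinearMap.range f = ⊥)
    (hmax : ∀ K' : Submodule R A.carrier, K'.IsHomogeneous A.gr →
      K' ⊓ LinearMap.range f = ⊥ → K ≤ K' → K' = K) :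
    GrLC.IsStarEss ℳ (quotGMod A K hK).gr (quotMap A K hK ∘ₗ f) := by
  have hmk := isGrHom_quotMap A K hK
  refine ⟨?_, fun g m hm => hmk g _ (hf g m hm), ?_⟩
  · rw [← LinearMap.ker_eq_bot, eq_bot_iff]
    intro m hm
    rw [LinearMap.mem_ker, LinearMap.comp_apply, quotMap_eq_zero_iff] at hm
    have : f m ∈ K ⊓ LinearMap.range f := ⟨hm, ⟨m, rfl⟩⟩
    rw [hdisj, Submodule.mem_bot] at this
    rw [Submodule.mem_bot]
    exact hinj (by rw [this, map_zero])
  · intro P hP hPne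
    have hK'hom : (P.comap (quotMap A K hK)).IsHomogeneous A.gr :=
      comap_isHomogeneous A.gr (quotGMod A K hK).gr hmk hP
    have hKle : K ≤ P.comap (quotMap A K hK) := by
      intro x hx
      rw [Submodule.mem_comap, (quotMap_eq_zero_iff A K hK x).mpr hx]
      exact Submodule.zero_mem _
    have hmeet : P.comap (quotMap A K hK) ⊓ LinearMap.range f ≠ ⊥ := by
      intro hbot
      have := hmax _ hK'hom hbot hKle
      apply hPne
      rw [eq_bot_iff]
      intro q hq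
      obtain ⟨x, rfl⟩ := quotMap_surjective A K hK q
      have hx : x ∈ P.comap (quotMap A K hK) := hq
      rw [this] at hx
      rw [Submodule.mem_bot, quotMap_eq_zero_iff]
      exact hx
    obtain ⟨x, hx, hx0⟩ := Submodule.exists_mem_ne_zero_of_ne_bot hmeet
    obtain ⟨hx1, m, rfl⟩ := hx
    intro hbot
    have h1 : quotMap A K hK (f m) ∈ P ⊓ LinearMap.range (quotMap A K hK ∘ₗ f) :=
      ⟨hx1, ⟨m, rfl⟩⟩
    rw [hbot, Submodule.mem_bot, quotMap_eq_zero_iff] at h1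
    have h2 : f m ∈ K ⊓ LinearMap.range f := ⟨h1, ⟨m, rfl⟩⟩
    rw [hdisj, Submodule.mem_bot] at h2
    exact hx0 h2

end EssQuot

end Groth.Agent.Helper9.GrLCLib
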