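import Mathlib
import Groth.Prelude.Def_GrLC
import Groth.Agent.Lib.Helper9.GrLC.Basic
import Groth.Agent.Lib.Helper9.GrLC.Pull
import Groth.Agent.Lib.Helper9.GrLC.Push
import Groth.Agent.Lib.Helper9.GrLC.Ess
import Groth.Agent.S13225

/-!
# The graded module structure on `E.H a i`
-/

set_option autoImplicit false
set_option linter.unusedSectionVars false
universe u
open DirectSum

namespace Groth.Agent.Helper9.GrLCLib

open Groth.Agent.S13225.Aux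

variable {ι : Type} [AddCommGroup ι] [DecidableEq ι]
variable {R : Type u} [CommRing R] [IsNoetherianRing R] (𝒜 : ι → AddSubgroup R) [GradedRing 𝒜]
variable {M : Type u} [AddCommGroup M] [Module R M] (ℳ : ι → AddSubgroup M)
  [DirectSum.Decomposition ℳ] [SetLike.GradedSMul 𝒜 ℳ]

/-- the cocycles of `Γ_a(E)` as a graded module -/
noncomputable def ZGMod (E : GrLC.StarInjRes 𝒜 ℳ) (a : HomogeneousIdeal 𝒜) (i : ℕ) :
    GrLC.GMod.{u} 𝒜 :=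
  subGMod (E.X i) (E.cocyc a i) (cocyc_isHomogeneous 𝒜 ℳ E a i)

/-- the coboundaries inside the cocycles -/
noncomputable def BSub (E : GrLC.StarInjRes 𝒜 ℳ) (a : HomogeneousIdeal 𝒜) (i : ℕ) :
    Submodule R (ZGMod 𝒜 ℳ E a i).carrier :=
  (E.cobdy a i).comap (subMap (E.X i) (E.cocyc a i) (cocyc_isHomogeneous 𝒜 ℳ E a i))

lemma BSub_isHomogeneous (E : GrLC.StarInjRes 𝒜 ℳ) (a : HomogeneousIdeal 𝒜) (i : ℕ) :
    (BSub 𝒜 ℳ E a i).IsHomogeneous (ZGMod 𝒜 ℳ E a i).gr :=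
  comap_isHomogeneous (ZGMod 𝒜 ℳ E a i).gr (E.X i).gr (isGrHom_subMap _ _ _)
    (cobdy_isHomogeneous 𝒜 ℳ E a i)

/-- `E.H a i` as a bundled graded module -/
noncomputable def HGMod (E : GrLC.StarInjRes 𝒜 ℳ) (a : HomogeneousIdeal 𝒜) (i : ℕ) :
    GrLC.GMod.{u} 𝒜 :=
  pushGMod 𝒜 (ZGMod 𝒜 ℳ E a i).gr (BSub 𝒜 ℳ E a i).mkQ (Submodule.mkQ_surjective _)
    (by rw [Submodule.ker_mkQ]; exact BSub_isHomogeneous 𝒜 ℳ E a i)

lemma HGMod_carrier (E : GrLC.StarInjRes 𝒜 ℳ) (a : HomogeneousIdeal 𝒜) (i : ℕ) :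
    (HGMod 𝒜 ℳ E a i).carrier = E.H a i := rfl

lemma HGMod_gr (E : GrLC.StarInjRes 𝒜 ℳ) (a : HomogeneousIdeal 𝒜) (i : ℕ) :
    (HGMod 𝒜 ℳ E a i).gr = E.Hgr a i := by
  funext g
  ext x
  constructor
  · rintro ⟨z, hz, rfl⟩
    exact ⟨z, (mem_subGMod_gr (E.X i) (E.cocyc a i) _ g z).mp hz, rfl⟩
  · rintro ⟨z, hz, rfl⟩
    exact ⟨z, (mem_subGMod_gr (E.X i) (E.cocyc a i) _ g z).mpr hz, rfl⟩

lemma mem_HGMod_gr_iff (E : GrLC.StarInjRes 𝒜 ℳ) (a : HomogeneousIdeal 𝒜) (i : ℕ) (g : ι)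
    (x : E.H a i) : x ∈ (HGMod 𝒜 ℳ E a i).gr g ↔ x ∈ E.Hcomp a i g := by
  rw [HGMod_gr]
  rfl

end Groth.Agent.Helper9.GrLCLib
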