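import Mathlib
import Groth.Prelude.Def_GrLC
import Groth.Agent.Lib.Helper9.GrLC.Basic

open DirectSum

universe u

set_option linter.unusedSectionVars false

namespace Groth.Agent.Helper9.GrLCLib

section Coind
variable {ι : Type} [AddCommGroup ι] [DecidableEq ι]
variable {R : Type u} [CommRing R] (𝒜 : ι → AddSubgroup R) [GradedRing 𝒜]
variable (I : Type u) [AddCommGroup I] [Module R I]

/-- the operator `single g n ↦ single (g + h) (s • n)` -/
noncomputable def opHom (h : ι) : R →+ ((ι →₀ I) →+ (ι →₀ I)) where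
  toFun s := (Finsupp.mapDomain.addMonoidHom (fun g => g + h)).comp
    (Finsupp.mapRange.addMonoidHom (DistribSMul.toAddMonoidHom I s))
  map_zero' := by
    apply Finsupp.addHom_ext
    intro g n
    simp
  map_add' s s' := by
    apply Finsupp.addHom_ext
    intro g n
    simp [add_smul, Finsupp.mapDomain_add, Finsupp.mapDomain_single]

lemma opHom_single (h : ι) (s : R) (g : ι) (n : I) :
    opHom I h s (Finsupp.single g n) = Finsupp.single (g + h) (s • n) := by
  simp [opHom]

/-- the twisted action of `R` on `ι →₀ I` -/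
noncomputable def act : R →+ ((ι →₀ I) →+ (ι →₀ I)) :=
  (DirectSum.toAddMonoid (fun h => (opHom I h).comp (𝒜 h).subtype)).comp
    (decomposeAddEquiv 𝒜).toAddMonoidHom

lemma act_of_mem {h : ι} {s : R} (hs : s ∈ 𝒜 h) (x : ι →₀ I) :
    act 𝒜 I s x = opHom I h s x := by
  unfold act
  simp only [AddMonoidHom.coe_comp, Function.comp_apply, AddEquiv.toAddMonoidHom_eq_coe,
    AddMonoidHom.coe_coe, decomposeAddEquiv_apply]
  rw [decompose_of_mem 𝒜 hs, DirectSum.toAddMonoid_of]
  rfl

lemma act_single_of_mem {h : ι} {s : R} (hs : s ∈ 𝒜 h) (g : ι) (n : I) :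
    act 𝒜 I s (Finsupp.single g n) = Finsupp.single (g + h) (s • n) := by
  rw [act_of_mem 𝒜 I hs, opHom_single]

lemma act_one : act 𝒜 I 1 = AddMonoidHom.id _ := by
  apply Finsupp.addHom_ext
  intro g n
  rw [act_single_of_mem 𝒜 I (SetLike.GradedOne.one_mem (A := 𝒜))]
  simp

lemma act_mul (r s : R) : act 𝒜 I (r * s) = (act 𝒜 I r).comp (act 𝒜 I s) := by
  induction r using DirectSum.Decomposition.inductionOn 𝒜 with
  | zero => simp
  | @homogeneous a r' =>
    induction s using DirectSum.Decomposition.inductionOn 𝒜 with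
    | zero => simp
    | @homogeneous b s' =>
      apply Finsupp.addHom_ext
      intro g n
      rw [AddMonoidHom.comp_apply, act_single_of_mem 𝒜 I s'.2,
        act_single_of_mem 𝒜 I r'.2,
        act_single_of_mem 𝒜 I (SetLike.GradedMul.mul_mem r'.2 s'.2), mul_smul]
      congr 1
      abel
    | add x y hx hy =>
      rw [mul_add, map_add, hx, hy, map_add, AddMonoidHom.comp_add]
  | add x y hx hy =>
    rw [add_mul, map_add, hx, hy, map_add, AddMonoidHom.add_comp]

/-- the coinduced graded module `I[G]`: finitely supported functions `G → I`, with `r ∈ R_h`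
acting by `r • (n e_g) = (r n) e_{g + h}` -/
def Coind (_𝒜 : ι → AddSubgroup R) (I : Type u) [AddCommGroup I] : Type u := ι →₀ I

noncomputable instance : AddCommGroup (Coind 𝒜 I) := inferInstanceAs (AddCommGroup (ι →₀ I))

/-- the underlying finitely supported function -/
noncomputable def Coind.toFinsupp : Coind 𝒜 I ≃+ (ι →₀ I) := AddEquiv.refl _

noncomputable instance : Module R (Coind 𝒜 I) where
  smul r x := act 𝒜 I r x
  one_smul x := by
    show act 𝒜 I 1 x = x
    rw [act_one]; rfl
  mul_smul r s x := by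
    show act 𝒜 I (r * s) x = act 𝒜 I r (act 𝒜 I s x)
    rw [act_mul]; rfl
  smul_zero r := map_zero (act 𝒜 I r)
  smul_add r x y := map_add (act 𝒜 I r) x y
  add_smul r s x := by
    show act 𝒜 I (r + s) x = act 𝒜 I r x + act 𝒜 I s x
    rw [map_add]; rfl
  zero_smul x := by
    show act 𝒜 I 0 x = 0
    rw [map_zero]; rfl

/-- the element `n e_g` -/
noncomputable def Coind.single (g : ι) : I →+ Coind 𝒜 I := Finsupp.singleAddHom g

lemma Coind.smul_single_of_mem {h : ι} {s : R} (hs : s ∈ 𝒜 h) (g : ι) (n : I) :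
    s • Coind.single 𝒜 I g n = Coind.single 𝒜 I (g + h) (s • n) :=
  act_single_of_mem 𝒜 I hs g n

/-- the pieces of `I[G]` -/
noncomputable def Coind.gr : ι → AddSubgroup (Coind 𝒜 I) := fun g => (Coind.single 𝒜 I g).range

lemma Coind.single_mem (g : ι) (n : I) : Coind.single 𝒜 I g n ∈ Coind.gr 𝒜 I g := ⟨n, rfl⟩

lemma Coind.addHom_ext {N : Type*} [AddZeroClass N] {φ ψ : Coind 𝒜 I →+ N}
    (h : ∀ g n, φ (Coind.single 𝒜 I g n) = ψ (Coind.single 𝒜 I g n)) : φ = ψ :=
  Finsupp.addHom_ext h

/-- `single g` corestricted to the piece of degree `g` -/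
noncomputable def Coind.singleGr (g : ι) : I →+ Coind.gr 𝒜 I g :=
  (Coind.single 𝒜 I g).codRestrict (Coind.gr 𝒜 I g) (fun n => ⟨n, rfl⟩)

/-- the decomposition map of `I[G]` -/
noncomputable def Coind.decomp : Coind 𝒜 I →+ ⨁ g, Coind.gr 𝒜 I g :=
  Finsupp.liftAddHom (fun g => (DirectSum.of (fun g => Coind.gr 𝒜 I g) g).comp
    (Coind.singleGr 𝒜 I g))

lemma Coind.decomp_single (g : ι) (n : I) :
    Coind.decomp 𝒜 I (Coind.single 𝒜 I g n) =
      DirectSum.of (fun g => Coind.gr 𝒜 I g) g (Coind.singleGr 𝒜 I g n) := by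
  show Finsupp.liftAddHom _ (Finsupp.single g n) = _
  rw [Finsupp.liftAddHom_apply_single]
  rfl

noncomputable instance : DirectSum.Decomposition (Coind.gr 𝒜 I) :=
  DirectSum.Decomposition.ofAddHom (Coind.gr 𝒜 I) (Coind.decomp 𝒜 I)
    (by
      apply Coind.addHom_ext
      intro g n
      rw [AddMonoidHom.comp_apply, Coind.decomp_single, DirectSum.coeAddMonoidHom_of]
      rfl)
    (by
      apply DirectSum.addHom_ext
      rintro g ⟨y, n, rfl⟩
      rw [AddMonoidHom.comp_apply, DirectSum.coeAddMonoidHom_of]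
      exact Coind.decomp_single 𝒜 I g n)

instance : SetLike.GradedSMul 𝒜 (Coind.gr 𝒜 I) where
  smul_mem := by
    rintro a g r x hr ⟨n, rfl⟩
    rw [vadd_eq_add, Coind.smul_single_of_mem 𝒜 I hr, add_comm]
    exact Coind.single_mem 𝒜 I _ _

/-- the bundled graded module `I[G]` -/
noncomputable def coindGMod : GrLC.GMod.{u} 𝒜 := GrLC.GMod.of 𝒜 (Coind 𝒜 I) (Coind.gr 𝒜 I)

/-- the counit `I[G] → I`, the sum of the coordinates, as an additive map -/
noncomputable def Coind.counitAdd : Coind 𝒜 I →+ I :=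
  Finsupp.liftAddHom (fun _ => AddMonoidHom.id I)

lemma Coind.counitAdd_single (g : ι) (n : I) :
    Coind.counitAdd 𝒜 I (Coind.single 𝒜 I g n) = n := by
  show Finsupp.liftAddHom _ (Finsupp.single g n) = n
  rw [Finsupp.liftAddHom_apply_single]
  rfl

/-- the counit `I[G] → I`, the sum of the coordinates; it is `R`-linear -/
noncomputable def Coind.counit : Coind 𝒜 I →ₗ[R] I where
  toFun := Coind.counitAdd 𝒜 I
  map_add' := map_add _
  map_smul' r x := by
    rw [RingHom.id_apply]
    induction r using DirectSum.Decomposition.inductionOn 𝒜 with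
    | zero => simp
    | @homogeneous a s =>
      have : (Coind.counitAdd 𝒜 I).comp (DistribSMul.toAddMonoidHom (Coind 𝒜 I) (s : R)) =
          (DistribSMul.toAddMonoidHom I (s : R)).comp (Coind.counitAdd 𝒜 I) := by
        apply Coind.addHom_ext
        intro g n
        simp only [AddMonoidHom.coe_comp, Function.comp_apply,
          DistribSMul.toAddMonoidHom_apply]
        rw [Coind.smul_single_of_mem 𝒜 I s.2, Coind.counitAdd_single, Coind.counitAdd_single]
      exact DFunLike.congr_fun this x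
    | add r s hr hs => rw [add_smul, map_add, hr, hs, add_smul]

lemma Coind.counit_single (g : ι) (n : I) :
    Coind.counit 𝒜 I (Coind.single 𝒜 I g n) = n := Coind.counitAdd_single 𝒜 I g n

lemma Coind.eq_single_counit {g : ι} {x : Coind 𝒜 I} (hx : x ∈ Coind.gr 𝒜 I g) :
    x = Coind.single 𝒜 I g (Coind.counit 𝒜 I x) := by
  obtain ⟨n, rfl⟩ := hx
  rw [Coind.counit_single]

end Coind

section Lift
variable {ι : Type} [AddCommGroup ι] [DecidableEq ι]
variable {R : Type u} [CommRing R] (𝒜 : ι → AddSubgroup R) [GradedRing 𝒜]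
variable (I : Type u) [AddCommGroup I] [Module R I]
variable {B : Type u} [AddCommGroup B] [Module R B] (ℬ : ι → AddSubgroup B)
  [DirectSum.Decomposition ℬ] [SetLike.GradedSMul 𝒜 ℬ]
variable (φ : B →ₗ[R] I)

/-- the homogeneous map `B → I[G]` adjoint to `φ : B → I`, as an additive map -/
noncomputable def coindLiftAdd : B →+ Coind 𝒜 I :=
  (DirectSum.toAddMonoid (fun k =>
    ((Coind.single 𝒜 I k).comp φ.toAddMonoidHom).comp (ℬ k).subtype)).comp
    (decomposeAddEquiv ℬ).toAddMonoidHom

lemma coindLiftAdd_of_mem {k : ι} {b : B} (hb : b ∈ ℬ k) :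
    coindLiftAdd 𝒜 I ℬ φ b = Coind.single 𝒜 I k (φ b) := by
  unfold coindLiftAdd
  simp only [AddMonoidHom.coe_comp, Function.comp_apply, AddEquiv.toAddMonoidHom_eq_coe,
    AddMonoidHom.coe_coe, decomposeAddEquiv_apply]
  rw [decompose_of_mem ℬ hb, DirectSum.toAddMonoid_of]
  rfl

lemma coindLiftAdd_smul (r : R) (b : B) :
    coindLiftAdd 𝒜 I ℬ φ (r • b) = r • coindLiftAdd 𝒜 I ℬ φ b := by
  induction r using DirectSum.Decomposition.inductionOn 𝒜 with
  | zero => simp
  | @homogeneous a s =>
    induction b using DirectSum.Decomposition.inductionOn ℬ with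
    | zero => simp
    | @homogeneous k m =>
      have h1 : (s : R) • (m : B) ∈ ℬ (a + k) := smul_mem_add 𝒜 ℬ s.2 m.2
      rw [coindLiftAdd_of_mem 𝒜 I ℬ φ h1, coindLiftAdd_of_mem 𝒜 I ℬ φ m.2,
        Coind.smul_single_of_mem 𝒜 I s.2, map_smul, add_comm]
    | add x y hx hy => rw [smul_add, map_add, map_add, hx, hy, smul_add]
  | add r s hr hs => rw [add_smul, map_add, hr, hs, add_smul]

/-- the homogeneous map `B → I[G]` adjoint to `φ : B → I` -/
noncomputable def coindLift : B →ₗ[R] Coind 𝒜 I where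
  toFun := coindLiftAdd 𝒜 I ℬ φ
  map_add' := map_add _
  map_smul' r b := coindLiftAdd_smul 𝒜 I ℬ φ r b

lemma coindLift_of_mem {k : ι} {b : B} (hb : b ∈ ℬ k) :
    coindLift 𝒜 I ℬ φ b = Coind.single 𝒜 I k (φ b) := coindLiftAdd_of_mem 𝒜 I ℬ φ hb

lemma coindLift_isGrHom : GrLC.IsGrHom ℬ (Coind.gr 𝒜 I) (coindLift 𝒜 I ℬ φ) := by
  intro k b hb
  rw [coindLift_of_mem 𝒜 I ℬ φ hb]
  exact Coind.single_mem 𝒜 I _ _

lemma counit_comp_coindLift : (Coind.counit 𝒜 I) ∘ₗ (coindLift 𝒜 I ℬ φ) = φ := by
  ext b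
  induction b using DirectSum.Decomposition.inductionOn ℬ with
  | zero => simp
  | @homogeneous k m =>
    rw [LinearMap.comp_apply, coindLift_of_mem 𝒜 I ℬ φ m.2, Coind.counit_single]
  | add x y hx hy => rw [map_add, map_add, hx, hy]

lemma coindLift_injective (hφ : Function.Injective φ) :
    Function.Injective (coindLift 𝒜 I ℬ φ) := by
  have h := counit_comp_coindLift 𝒜 I ℬ φ
  intro x y hxy
  apply hφ
  rw [← h, LinearMap.comp_apply, LinearMap.comp_apply, hxy]

end Lift

section StarInj
variable {ι : Type} [AddCommGroup ι] [DecidableEq ι]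
variable {R : Type u} [CommRing R] (𝒜 : ι → AddSubgroup R) [GradedRing 𝒜]
variable (I : Type u) [AddCommGroup I] [Module R I]

/-- `I[G]` is *injective when `I` is injective -/
theorem coind_isStarInj [Module.Injective R I] : GrLC.IsStarInj 𝒜 (Coind.gr 𝒜 I) := by
  intro A B f hf hinj g hg
  obtain ⟨h', hh'⟩ := Module.Injective.out f hinj ((Coind.counit 𝒜 I) ∘ₗ g)
  refine ⟨coindLift 𝒜 I B.gr h', coindLift_isGrHom 𝒜 I B.gr h', ?_⟩
  ext a
  induction a using DirectSum.Decomposition.inductionOn A.gr with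
  | zero => simp
  | @homogeneous k m =>
    rw [LinearMap.comp_apply, coindLift_of_mem 𝒜 I B.gr h' (hf k m m.2), hh',
      LinearMap.comp_apply]
    exact (Coind.eq_single_counit 𝒜 I (hg k m m.2)).symm
  | add x y hx hy => rw [map_add, map_add, hx, hy]

end StarInj

section Enough
variable {ι : Type} [AddCommGroup ι] [DecidableEq ι]
variable {R : Type u} [CommRing R] (𝒜 : ι → AddSubgroup R) [GradedRing 𝒜]

open CategoryTheory in
/-- every module embeds in an injective module of the same universe -/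
lemma exists_injective_embedding (M : Type u) [AddCommGroup M] [Module R M] :
    ∃ (I : Type u) (_ : AddCommGroup I) (_ : Module R I) (_ : Module.Injective R I)
      (e : M →ₗ[R] I), Function.Injective e := by
  let J := Injective.under (ModuleCat.of R M)
  have hJ' : CategoryTheory.Injective (ModuleCat.of R J) := by
    change CategoryTheory.Injective J
    infer_instance
  have hJ : Module.Injective R J := @Module.injective_module_of_injective_object R J _ _ _ hJ'
  refine ⟨J, inferInstance, inferInstance, hJ, (Injective.ι (ModuleCat.of R M)).hom, ?_⟩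
  exact (ModuleCat.mono_iff_injective _).mp inferInstance

/-- enough *injectives: every graded module has a homogeneous embedding into `I[G]` with `I`
injective -/
theorem exists_coind_embedding {M : Type u} [AddCommGroup M] [Module R M] (ℳ : ι → AddSubgroup M)
    [DirectSum.Decomposition ℳ] [SetLike.GradedSMul 𝒜 ℳ] :
    ∃ (I : Type u) (_ : AddCommGroup I) (_ : Module R I) (_ : Module.Injective R I)
      (e : M →ₗ[R] I), Function.Injective e := exists_injective_embedding M

/-- enough *injectives, bundled form -/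
theorem exists_starInj_embedding {M : Type u} [AddCommGroup M] [Module R M] (ℳ : ι → AddSubgroup M)
    [DirectSum.Decomposition ℳ] [SetLike.GradedSMul 𝒜 ℳ] :
    ∃ (E : GrLC.GMod.{u} 𝒜) (η : M →ₗ[R] E.carrier), GrLC.IsGrHom ℳ E.gr η ∧
      Function.Injective η ∧ GrLC.IsStarInj 𝒜 E.gr := by
  obtain ⟨I, _, _, _, e, he⟩ := exists_injective_embedding (R := R) M
  exact ⟨coindGMod 𝒜 I, coindLift 𝒜 I ℳ e, coindLift_isGrHom 𝒜 I ℳ e,
    coindLift_injective 𝒜 I ℳ e he, coind_isStarInj 𝒜 I⟩

end Enough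

end Groth.Agent.Helper9.GrLCLib
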