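import Mathlib
import Groth.Prelude.Def_GrLC
import Groth.Prelude.Def_Wider
import Groth.Agent.Lib.Helper9.GrLC.GrH
import Groth.Agent.Lib.Helper9.GrLC.Basic
import Groth.Agent.Lib.Helper9.GrLC.Pull
import Groth.Agent.S13217
import Groth.Agent.S13219
import Groth.Agent.S13215
import Groth.Agent.Lib.Helper9.GrLC.Push
import Groth.Agent.Lib.Helper9.GrLC.HGr

set_option autoImplicit false
set_option linter.unusedSectionVars false
universe u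
open CategoryTheory DirectSum

namespace Groth.Agent.Helper9.GrLCLib

open Groth.Agent.Helper8.LC Groth.Agent.S13224.Aux

variable {ι : Type} [AddCommGroup ι] [DecidableEq ι] [Module.Free ℤ ι] [Module.Finite ℤ ι]
variable {R : Type u} [CommRing R] [IsNoetherianRing R] (𝒜 : ι → AddSubgroup R) [GradedRing 𝒜]

section Ext

lemma mem_of_eq' {N : Type u} [AddCommGroup N] (𝒩 : ι → AddSubgroup N) {k k' : ι} (h : k = k')
    {x : N} (hx : x ∈ 𝒩 k) : x ∈ 𝒩 k' := h ▸ hx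

/-- extension of maps of degree `t` into a *injective module -/
lemma exists_extension_deg (I : GrLC.GMod.{u} 𝒜) (hI : GrLC.IsStarInj 𝒜 I.gr)
    (A B : GrLC.GMod.{u} 𝒜) (j : A.carrier →ₗ[R] B.carrier) (hj : GrLC.IsGrHom A.gr B.gr j)
    (hjinj : Function.Injective j) (t : ι) (φ : A.carrier →ₗ[R] I.carrier)
    (hφ : GrLC.IsGrHomDeg A.gr I.gr φ t) :
    ∃ ψ : B.carrier →ₗ[R] I.carrier, GrLC.IsGrHomDeg B.gr I.gr ψ t ∧ ψ ∘ₗ j = φ := by
  have hI' := Groth.Agent.S13219.Aux.isStarInj_shift 𝒜 I hI (-t)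
  obtain ⟨ψ, hψ, hψj⟩ := hI' A B j hj hjinj φ (fun g a ha => by
    have h1 : φ a ∈ I.gr (g + t) := hφ g a ha
    exact (mem_shiftGMod_gr I (-t) g (φ a)).mpr (mem_of_eq' I.gr (by abel) h1))
  refine ⟨ψ, fun g b hb => ?_, hψj⟩
  have h1 := (mem_shiftGMod_gr I (-t) g (ψ b)).mp (hψ g b hb)
  exact mem_of_eq' I.gr (by abel) h1

end Ext

variable {M : Type u} [AddCommGroup M] [Module R M] (ℳ : ι → AddSubgroup M)
  [DirectSum.Decomposition ℳ] [SetLike.GradedSMul 𝒜 ℳ]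

/-- the underlying ungraded resolution -/
def ofStar (E : GrLC.StarInjRes 𝒜 ℳ) : URes R where
  M := M
  X := fun n => (E.X n).carrier
  d := E.d
  ε := E.ε
  ε_inj := E.ε_injective
  exact_zero := E.exact_zero
  exact_succ := E.exact_succ

lemma ofStar_acyclic (a : HomogeneousIdeal 𝒜) (E : GrLC.StarInjRes 𝒜 ℳ) :
    (ofStar 𝒜 ℳ E).Acyclic a.toIdeal :=
  fun n j hj => Groth.Agent.S13217.Aux.main 𝒜 (E.X n).gr (E.starInj n) a j hj

/-- the first syzygy as a graded module -/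
noncomputable def Z1 (E : GrLC.StarInjRes 𝒜 ℳ) : GrLC.GMod.{u} 𝒜 :=
  subGMod (E.X 1) (LinearMap.range (E.d 0)) (range_isHomogeneous (E.X 0).gr (E.X 1).gr (E.d_grHom 0))

/-- the shifted *injective resolution of the first syzygy -/
noncomputable def shiftRes (E : GrLC.StarInjRes 𝒜 ℳ) : GrLC.StarInjRes 𝒜 (Z1 𝒜 ℳ E).gr where
  X := fun n => E.X (n + 1)
  d := fun n => E.d (n + 1)
  ε := subMap (E.X 1) (LinearMap.range (E.d 0)) _
  d_grHom := fun n => E.d_grHom (n + 1)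
  ε_grHom := isGrHom_subMap _ _ _
  ε_injective := subMap_injective _ _ _
  exact_zero := (E.exact_succ 0).trans (range_subMap (E.X 1) (LinearMap.range (E.d 0)) _).symm
  exact_succ := fun n => E.exact_succ (n + 1)
  starInj := fun n => E.starInj (n + 1)

lemma ofStar_shiftRes (E : GrLC.StarInjRes 𝒜 ℳ) :
    ofStar 𝒜 (Z1 𝒜 ℳ E).gr (shiftRes 𝒜 ℳ E) = (ofStar 𝒜 ℳ E).shift := rfl


section Theta

variable {N : Type u} [AddCommGroup N] [Module R N] (𝒩 : ι → AddSubgroup N)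
  [DirectSum.Decomposition 𝒩] [SetLike.GradedSMul 𝒜 𝒩]

omit [Module.Free ℤ ι] [Module.Finite ℤ ι] [IsNoetherianRing R] in
/-- an injective homogeneous map reflects degrees -/
lemma mem_iff_of_isGrHom_injective {f : M →ₗ[R] N} (hf : GrLC.IsGrHom ℳ 𝒩 f)
    (hinj : Function.Injective f) (g : ι) (m : M) : f m ∈ 𝒩 g ↔ m ∈ ℳ g := by
  constructor
  · intro h
    have h1 : ∀ k, k ≠ g → proj ℳ k m = 0 := by
      intro k hk
      apply hinj
      rw [map_zero, ← proj_map_of_isGrHom ℳ 𝒩 hf m k]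
      exact proj_of_mem_ne 𝒩 h (Ne.symm hk)
    classical
    have h2 : m = proj ℳ g m := by
      conv_lhs => rw [← DirectSum.sum_support_decompose ℳ m]
      apply Finset.sum_eq_single g
      · intro k _ hk
        exact h1 k hk
      · intro hg
        rw [DFinsupp.notMem_support_iff] at hg
        rw [hg]; rfl
    rw [h2]
    exact proj_mem ℳ g m
  · exact hf g m


/-- the comparison isomorphism for a *injective resolution, tracking degrees -/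
theorem exists_theta_star (a : HomogeneousIdeal 𝒜) (E : GrLC.StarInjRes 𝒜 ℳ) (i : ℕ) :
    ∃ Θ : E.H a i ≃ₗ[R] LocCoh.H a.toIdeal i M, ∀ (g : ι) (x : E.H a i),
      x ∈ E.Hcomp a i g ↔
        Θ x ∈ URes.GrH1 a.toIdeal i (ofStar 𝒜 ℳ E) (ℳ g) (fun n => (E.X n).gr g) := by
  obtain ⟨Θ, hΘ⟩ := URes.exists_theta a.toIdeal i (ofStar 𝒜 ℳ E) (ofStar_acyclic 𝒜 ℳ a E)
  have hε : ∀ g m, E.ε m ∈ (E.X 0).gr g ↔ m ∈ ℳ g := fun g m =>
    mem_iff_of_isGrHom_injective ℳ (E.X 0).gr E.ε_grHom E.ε_injective g m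
  cases i with
  | zero =>
    exact ⟨Θ, fun g x => hΘ (ℳ g) (fun n => (E.X n).gr g) (hε g) x⟩
  | succ n =>
    exact ⟨Θ, fun g x => hΘ (ℳ g) (fun n => (E.X n).gr g) (hε g) x⟩

end Theta


section Funct

variable {N : Type u} [AddCommGroup N] [Module R N] (𝒩 : ι → AddSubgroup N)
  [DirectSum.Decomposition 𝒩] [SetLike.GradedSMul 𝒜 𝒩]

lemma Z1_gr_eq (E : GrLC.StarInjRes 𝒜 ℳ) (g : ι) :
    (Z1 𝒜 ℳ E).gr g =
      ((E.X 1).gr g).comap (LinearMap.range (E.d 0)).subtype.toAddMonoidHom := by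
  ext x
  exact mem_subGMod_gr (E.X 1) (LinearMap.range (E.d 0)) _ g x

/-- the map induced on first syzygies by a lift `φ0` of `f` -/
lemma exists_syzygy_map (E : GrLC.StarInjRes 𝒜 ℳ) (F : GrLC.StarInjRes 𝒜 𝒩) (f : M →ₗ[R] N)
    (φ0 : (E.X 0).carrier →ₗ[R] (F.X 0).carrier) (hφ0 : φ0 ∘ₗ E.ε = F.ε ∘ₗ f) :
    ∃ f1 : LinearMap.range (E.d 0) →ₗ[R] LinearMap.range (F.d 0),
      ∀ y : (E.X 0).carrier, f1 ((E.d 0).rangeRestrict y) = (F.d 0).rangeRestrict (φ0 y) := by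
  let q : (E.X 0).carrier →ₗ[R] LinearMap.range (F.d 0) := (F.d 0).rangeRestrict ∘ₗ φ0
  have hq : LinearMap.ker (E.d 0) ≤ LinearMap.ker q := by
    intro y hy
    rw [E.exact_zero] at hy
    obtain ⟨m, rfl⟩ := hy
    rw [LinearMap.mem_ker]
    apply Subtype.ext
    change F.d 0 (φ0 (E.ε m)) = 0
    have h1 : φ0 (E.ε m) = F.ε (f m) := LinearMap.congr_fun hφ0 m
    rw [h1]
    have h2 : F.ε (f m) ∈ LinearMap.ker (F.d 0) := by rw [F.exact_zero]; exact ⟨_, rfl⟩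
    exact h2
  refine ⟨(Submodule.liftQ _ q hq) ∘ₗ (LinearMap.quotKerEquivRange (E.d 0)).symm.toLinearMap,
    fun y => ?_⟩
  change Submodule.liftQ _ q hq ((LinearMap.quotKerEquivRange (E.d 0)).symm ⟨E.d 0 y, _⟩) = _
  rw [LinearMap.quotKerEquivRange_symm_apply_image]
  rfl


/-- **Functoriality of the degree filtration**: a homogeneous map of degree `t` shifts degrees of
local cohomology classes by `t`. -/
theorem GrH1_map (J : Ideal R) (t g : ι) : ∀ (i : ℕ) {M N : Type u} [AddCommGroup M] [Module R M]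
    [AddCommGroup N] [Module R N] (ℳ : ι → AddSubgroup M) [DirectSum.Decomposition ℳ]
    [SetLike.GradedSMul 𝒜 ℳ] (𝒩 : ι → AddSubgroup N) [DirectSum.Decomposition 𝒩]
    [SetLike.GradedSMul 𝒜 𝒩] (E : GrLC.StarInjRes 𝒜 ℳ) (F : GrLC.StarInjRes 𝒜 𝒩)
    (f : M →ₗ[R] N), GrLC.IsGrHomDeg ℳ 𝒩 f t → ∀ x : LocCoh.H J i M,
      x ∈ URes.GrH1 J i (ofStar 𝒜 ℳ E) (ℳ g) (fun n => (E.X n).gr g) →
      ((localCohomology J i).map (ModuleCat.ofHom f)) x ∈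
        URes.GrH1 J i (ofStar 𝒜 𝒩 F) (𝒩 (g + t)) (fun n => (F.X n).gr (g + t)) := by
  intro i
  induction i with
  | zero =>
    intro M N _ _ _ _ ℳ _ _ 𝒩 _ _ E F f hf x hx
    have h1 : ev0 J (ModuleCat.of R N) (((localCohomology J 0).map (ModuleCat.ofHom f)) x) =
        f (ev0 J (ModuleCat.of R M) x) := ev0_map' J f x
    have hx' : ev0 J (ModuleCat.of R M) x ∈ ℳ g :=
      (URes.mem_GrH1_zero J (ofStar 𝒜 ℳ E) (ℳ g) _ x).mp hx
    have h2 : f (ev0 J (ModuleCat.of R M) x) ∈ 𝒩 (g + t) := hf g _ hx'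
    rw [← h1] at h2
    exact (URes.mem_GrH1_zero J (ofStar 𝒜 𝒩 F) (𝒩 (g + t)) _ _).mpr h2
  | succ i ih =>
    intro M N _ _ _ _ ℳ _ _ 𝒩 _ _ E F f hf x hx
    obtain ⟨y, hy, rfl⟩ := (URes.mem_GrH1_succ J i (ofStar 𝒜 ℳ E) _ _ x).mp hx
    -- lift of `f` to the first terms
    obtain ⟨φ0, hφ0deg, hφ0⟩ := exists_extension_deg 𝒜 (F.X 0) (F.starInj 0)
      (GrLC.GMod.of 𝒜 M ℳ) (E.X 0) E.ε E.ε_grHom E.ε_injective t (F.ε ∘ₗ f)
      (fun k m hm => F.ε_grHom _ _ (hf k m hm))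
    obtain ⟨f1, hf1⟩ := exists_syzygy_map 𝒜 ℳ 𝒩 E F f φ0 hφ0
    -- `f1` has degree `t`
    have hf1deg : GrLC.IsGrHomDeg (Z1 𝒜 ℳ E).gr (Z1 𝒜 𝒩 F).gr f1 t := by
      intro k z hz
      have hz1 : (z : (E.X 1).carrier) ∈ (E.X 1).gr k :=
        (mem_subGMod_gr (E.X 1) (LinearMap.range (E.d 0)) _ k z).mp hz
      obtain ⟨y', hy'⟩ := z.2
      have h1 : E.d 0 (proj (E.X 0).gr k y') = (z : (E.X 1).carrier) := by
        rw [← proj_map_of_isGrHom (E.X 0).gr (E.X 1).gr (E.d_grHom 0) y' k, hy']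
        exact proj_of_mem_same (E.X 1).gr hz1
      have h2 : z = (E.d 0).rangeRestrict (proj (E.X 0).gr k y') := Subtype.ext h1.symm
      rw [h2, hf1]
      apply (mem_subGMod_gr (F.X 1) (LinearMap.range (F.d 0)) _ (k + t) _).mpr
      change F.d 0 (φ0 (proj (E.X 0).gr k y')) ∈ (F.X 1).gr (k + t)
      exact F.d_grHom 0 _ _ (hφ0deg k _ (proj_mem (E.X 0).gr k y'))
    -- the morphism of short exact sequences
    let Φ : (ofStar 𝒜 ℳ E).sc ⟶ (ofStar 𝒜 𝒩 F).sc :=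
      { τ₁ := ModuleCat.ofHom f
        τ₂ := ModuleCat.ofHom φ0
        τ₃ := ModuleCat.ofHom f1
        comm₁₂ := by
          apply ModuleCat.hom_ext
          exact hφ0.symm
        comm₂₃ := by
          apply ModuleCat.hom_ext
          apply LinearMap.ext
          intro y
          exact (hf1 y).symm }
    have hnat := δ_naturality J i (ofStar 𝒜 ℳ E).sc_exact (ofStar 𝒜 𝒩 F).sc_exact Φ y
    change ((localCohomology J (i + 1)).map (ModuleCat.ofHom f))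
      (δ J i (ofStar 𝒜 ℳ E).sc_exact y) ∈ _
    refine (URes.mem_GrH1_succ J i (ofStar 𝒜 𝒩 F) _ _ _).mpr
      ⟨((localCohomology J i).map (ModuleCat.ofHom f1)) y, ?_, hnat.symm⟩
    have hy' : y ∈ URes.GrH1 J i (ofStar 𝒜 (Z1 𝒜 ℳ E).gr (shiftRes 𝒜 ℳ E)) ((Z1 𝒜 ℳ E).gr g)
        (fun n => ((shiftRes 𝒜 ℳ E).X n).gr g) := by
      rw [Z1_gr_eq]; exact hy
    have h3 := ih (Z1 𝒜 ℳ E).gr (Z1 𝒜 𝒩 F).gr (shiftRes 𝒜 ℳ E) (shiftRes 𝒜 𝒩 F) f1 hf1deg y hy'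
    rw [Z1_gr_eq] at h3
    exact h3

end Funct


section LCgr

open Groth.Agent.S13215.Aux in
/-- the intrinsic degree-`g` part of `H^i_J(M)` for a graded module `M` -/
noncomputable def LCgr (J : Ideal R) (i : ℕ) (g : ι) : AddSubgroup (LocCoh.H J i M) :=
  URes.GrH1 J i (ofStar 𝒜 ℳ (res 𝒜 ℳ)) (ℳ g) (fun n => ((res 𝒜 ℳ).X n).gr g)

variable {N : Type u} [AddCommGroup N] [Module R N] (𝒩 : ι → AddSubgroup N)
  [DirectSum.Decomposition 𝒩] [SetLike.GradedSMul 𝒜 𝒩]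

lemma GrH1_map_zero (J : Ideal R) (g : ι) (i : ℕ) (E : GrLC.StarInjRes 𝒜 ℳ)
    (F : GrLC.StarInjRes 𝒜 𝒩) (f : M →ₗ[R] N) (hf : GrLC.IsGrHom ℳ 𝒩 f) (x : LocCoh.H J i M)
    (hx : x ∈ URes.GrH1 J i (ofStar 𝒜 ℳ E) (ℳ g) (fun n => (E.X n).gr g)) :
    ((localCohomology J i).map (ModuleCat.ofHom f)) x ∈
        URes.GrH1 J i (ofStar 𝒜 𝒩 F) (𝒩 g) (fun n => (F.X n).gr g) := by
  have h := GrH1_map 𝒜 J 0 g i ℳ 𝒩 E F f (fun k m hm => by rw [add_zero]; exact hf k m hm) x hx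
  rw [add_zero] at h
  exact h

lemma map_id_apply (J : Ideal R) (i : ℕ) (x : LocCoh.H J i M) :
    ((localCohomology J i).map (ModuleCat.ofHom (LinearMap.id : M →ₗ[R] M))) x = x := by
  rw [ModuleCat.ofHom_id, CategoryTheory.Functor.map_id]
  rfl

/-- independence of the resolution -/
lemma GrH1_eq (J : Ideal R) (g : ι) (i : ℕ) (E F : GrLC.StarInjRes 𝒜 ℳ) :
    URes.GrH1 J i (ofStar 𝒜 ℳ E) (ℳ g) (fun n => (E.X n).gr g) =
      URes.GrH1 J i (ofStar 𝒜 ℳ F) (ℳ g) (fun n => (F.X n).gr g) := by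
  apply le_antisymm
  · intro (x : LocCoh.H J i M) hx
    have := GrH1_map_zero 𝒜 ℳ ℳ J g i E F LinearMap.id (fun _ _ h => h) x hx
    rw [map_id_apply J i x] at this
    exact this
  · intro (x : LocCoh.H J i M) hx
    have := GrH1_map_zero 𝒜 ℳ ℳ J g i F E LinearMap.id (fun _ _ h => h) x hx
    rw [map_id_apply J i x] at this
    exact this

lemma LCgr_eq (J : Ideal R) (i : ℕ) (g : ι) (E : GrLC.StarInjRes 𝒜 ℳ) :
    LCgr 𝒜 ℳ J i g = URes.GrH1 J i (ofStar 𝒜 ℳ E) (ℳ g) (fun n => (E.X n).gr g) :=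
  GrH1_eq 𝒜 ℳ J g i _ E

/-- comparison with the graded local cohomology computed from any *injective resolution -/
theorem exists_theta_LCgr (a : HomogeneousIdeal 𝒜) (E : GrLC.StarInjRes 𝒜 ℳ) (i : ℕ) :
    ∃ Θ : E.H a i ≃ₗ[R] LocCoh.H a.toIdeal i M, ∀ (g : ι) (x : E.H a i),
      x ∈ E.Hcomp a i g ↔ Θ x ∈ LCgr 𝒜 ℳ a.toIdeal i g := by
  obtain ⟨Θ, hΘ⟩ := exists_theta_star 𝒜 ℳ a E i
  refine ⟨Θ, fun g x => ?_⟩
  rw [LCgr_eq 𝒜 ℳ a.toIdeal i g E]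
  exact hΘ g x

/-- functoriality -/
theorem LCgr_map (J : Ideal R) (i : ℕ) (g t : ι) (f : M →ₗ[R] N)
    (hf : GrLC.IsGrHomDeg ℳ 𝒩 f t) (x : LocCoh.H J i M) (hx : x ∈ LCgr 𝒜 ℳ J i g) :
    ((localCohomology J i).map (ModuleCat.ofHom f)) x ∈ LCgr 𝒜 𝒩 J i (g + t) :=
  GrH1_map 𝒜 J t g i ℳ 𝒩 _ _ f hf x hx

end LCgr


section Delta

variable {M₁ M₂ M₃ : Type u} [AddCommGroup M₁] [Module R M₁] [AddCommGroup M₂] [Module R M₂]
  [AddCommGroup M₃] [Module R M₃]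
  (ℳ₁ : ι → AddSubgroup M₁) [DirectSum.Decomposition ℳ₁] [SetLike.GradedSMul 𝒜 ℳ₁]
  (ℳ₂ : ι → AddSubgroup M₂) [DirectSum.Decomposition ℳ₂] [SetLike.GradedSMul 𝒜 ℳ₂]
  (ℳ₃ : ι → AddSubgroup M₃) [DirectSum.Decomposition ℳ₃] [SetLike.GradedSMul 𝒜 ℳ₃]
  (j : M₁ →ₗ[R] M₂) (p : M₂ →ₗ[R] M₃)

/-- the short complex of a pair of composable linear maps -/
abbrev sesOf (h : p ∘ₗ j = 0) : ShortComplex (ModuleCat.{u} R) :=
  ModuleCat.shortComplexOfCompEqZero j p h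

omit [Module.Free ℤ ι] [Module.Finite ℤ ι] [IsNoetherianRing R] in
lemma sesOf_shortExact (h : p ∘ₗ j = 0) (hj : Function.Injective j) (hp : Function.Surjective p)
    (hex : LinearMap.ker p = LinearMap.range j) : (sesOf j p h).ShortExact := by
  apply ModuleCat.shortComplex_shortExact
  · intro x
    change p x = 0 ↔ x ∈ Set.range j
    rw [← LinearMap.mem_ker, hex]
    rfl
  · exact hj
  · exact hp

/-- **the connecting homomorphism preserves degrees** -/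
theorem LCgr_δ (h : p ∘ₗ j = 0) (hS : (sesOf j p h).ShortExact)
    (hjg : GrLC.IsGrHom ℳ₁ ℳ₂ j) (hpg : GrLC.IsGrHom ℳ₂ ℳ₃ p)
    (J : Ideal R) (i : ℕ) (g : ι) (x : LocCoh.H J i M₃) (hx : x ∈ LCgr 𝒜 ℳ₃ J i g) :
    δ J i hS x ∈ LCgr 𝒜 ℳ₁ J (i + 1) g := by
  have hjinj : Function.Injective j := (ModuleCat.mono_iff_injective (sesOf j p h).f).mp hS.mono_f
  have hpsurj : Function.Surjective p := (ModuleCat.epi_iff_surjective (sesOf j p h).g).mp hS.epi_g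
  have hex : LinearMap.ker p ≤ LinearMap.range j := by
    intro m hm
    have := (ShortComplex.ShortExact.exact hS)
    rw [ShortComplex.moduleCat_exact_iff] at this
    obtain ⟨m₁, hm₁⟩ := this m hm
    exact ⟨m₁, hm₁⟩
  let E₁ := Groth.Agent.S13215.Aux.res 𝒜 ℳ₁
  let E₃ := Groth.Agent.S13215.Aux.res 𝒜 ℳ₃
  obtain ⟨σ, hσg, hσj⟩ := E₁.starInj 0 (GrLC.GMod.of 𝒜 M₁ ℳ₁) (GrLC.GMod.of 𝒜 M₂ ℳ₂) j hjg hjinj
    E₁.ε E₁.ε_grHom
  let q : M₂ →ₗ[R] LinearMap.range (E₁.d 0) := (E₁.d 0).rangeRestrict ∘ₗ σ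
  have hq : LinearMap.ker p ≤ LinearMap.ker q := by
    intro m hm
    obtain ⟨m₁, rfl⟩ := hex hm
    rw [LinearMap.mem_ker]
    apply Subtype.ext
    change E₁.d 0 (σ (j m₁)) = 0
    have h1 : σ (j m₁) = E₁.ε m₁ := LinearMap.congr_fun hσj m₁
    rw [h1]
    have h2 : E₁.ε m₁ ∈ LinearMap.ker (E₁.d 0) := by rw [E₁.exact_zero]; exact ⟨_, rfl⟩
    exact h2
  let σb : M₃ →ₗ[R] LinearMap.range (E₁.d 0) :=
    (Submodule.liftQ _ q hq) ∘ₗ (LinearMap.quotKerEquivOfSurjective p hpsurj).symm.toLinearMap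
  have hσb : ∀ m, σb (p m) = q m := by
    intro m
    have h1 : (LinearMap.quotKerEquivOfSurjective p hpsurj).symm (p m) =
        Submodule.Quotient.mk m := by
      rw [LinearEquiv.symm_apply_eq]
      rfl
    change Submodule.liftQ _ q hq ((LinearMap.quotKerEquivOfSurjective p hpsurj).symm (p m)) = _
    rw [h1]
    rfl
  have hσbg : GrLC.IsGrHom ℳ₃ (Z1 𝒜 ℳ₁ E₁).gr σb := by
    intro k m₃ hm₃
    obtain ⟨m, rfl⟩ := hpsurj m₃
    have h1 : p (proj ℳ₂ k m) = p m := by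
      rw [← proj_map_of_isGrHom ℳ₂ ℳ₃ hpg m k]
      exact proj_of_mem_same ℳ₃ hm₃
    rw [← h1, hσb]
    apply (mem_subGMod_gr (E₁.X 1) (LinearMap.range (E₁.d 0)) _ k _).mpr
    change E₁.d 0 (σ (proj ℳ₂ k m)) ∈ (E₁.X 1).gr k
    exact E₁.d_grHom 0 _ _ (hσg k _ (proj_mem ℳ₂ k m))
  let Φ : sesOf j p h ⟶ (ofStar 𝒜 ℳ₁ E₁).sc :=
    { τ₁ := ModuleCat.ofHom LinearMap.id
      τ₂ := ModuleCat.ofHom σ
      τ₃ := ModuleCat.ofHom σb
      comm₁₂ := by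
        apply ModuleCat.hom_ext
        exact hσj.symm
      comm₂₃ := by
        apply ModuleCat.hom_ext
        apply LinearMap.ext
        intro m
        exact (hσb m).symm }
  have hnat := δ_naturality J i hS (ofStar 𝒜 ℳ₁ E₁).sc_exact Φ x
  have h1 : ((localCohomology J (i + 1)).map (ModuleCat.ofHom (LinearMap.id : M₁ →ₗ[R] M₁)))
      (δ J i hS x) = δ J i hS x := map_id_apply J (i + 1) _
  have h2 : δ J i hS x = δ J i (ofStar 𝒜 ℳ₁ E₁).sc_exact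
      (((localCohomology J i).map (ModuleCat.ofHom σb)) x) := h1.symm.trans hnat
  rw [h2]
  have h3 := GrH1_map_zero 𝒜 ℳ₃ (Z1 𝒜 ℳ₁ E₁).gr J g i E₃ (shiftRes 𝒜 ℳ₁ E₁) σb hσbg x hx
  rw [Z1_gr_eq] at h3
  exact (URes.mem_GrH1_succ J i (ofStar 𝒜 ℳ₁ E₁) _ _ _).mpr ⟨_, h3, rfl⟩

end Delta


section LCGMod

open Groth.Agent.S13215.Aux

/-- a chosen comparison isomorphism for the canonical resolution -/
noncomputable def thetaRes (a : HomogeneousIdeal 𝒜) (i : ℕ) :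
    (res 𝒜 ℳ).H a i ≃ₗ[R] LocCoh.H a.toIdeal i M :=
  (exists_theta_LCgr 𝒜 ℳ a (res 𝒜 ℳ) i).choose

lemma thetaRes_spec (a : HomogeneousIdeal 𝒜) (i : ℕ) (g : ι) (x : (res 𝒜 ℳ).H a i) :
    x ∈ (res 𝒜 ℳ).Hcomp a i g ↔ thetaRes 𝒜 ℳ a i x ∈ LCgr 𝒜 ℳ a.toIdeal i g :=
  (exists_theta_LCgr 𝒜 ℳ a (res 𝒜 ℳ) i).choose_spec g x

/-- local cohomology of a graded module with support in a homogeneous ideal, as a graded module -/
noncomputable def LCGMod (a : HomogeneousIdeal 𝒜) (i : ℕ) : GrLC.GMod.{u} 𝒜 :=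
  pushGMod 𝒜 (HGMod 𝒜 ℳ (res 𝒜 ℳ) a i).gr
    (show (HGMod 𝒜 ℳ (res 𝒜 ℳ) a i).carrier →ₗ[R] LocCoh.H a.toIdeal i M from
      (thetaRes 𝒜 ℳ a i).toLinearMap)
    (thetaRes 𝒜 ℳ a i).surjective
    (by
      have : LinearMap.ker (thetaRes 𝒜 ℳ a i).toLinearMap = ⊥ := LinearEquiv.ker _
      intro k x hx
      have hx0 : x = 0 := by
        have h1 : (thetaRes 𝒜 ℳ a i) x = 0 := hx
        exact (thetaRes 𝒜 ℳ a i).map_eq_zero_iff.mp h1
      rw [hx0, DirectSum.decompose_zero]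
      exact Submodule.zero_mem _)

lemma LCGMod_carrier (a : HomogeneousIdeal 𝒜) (i : ℕ) :
    (LCGMod 𝒜 ℳ a i).carrier = LocCoh.H a.toIdeal i M := rfl

lemma LCGMod_gr (a : HomogeneousIdeal 𝒜) (i : ℕ) :
    (LCGMod 𝒜 ℳ a i).gr = LCgr 𝒜 ℳ a.toIdeal i := by
  funext g
  ext x
  constructor
  · rintro ⟨z, hz, rfl⟩
    exact (thetaRes_spec 𝒜 ℳ a i g z).mp ((mem_HGMod_gr_iff 𝒜 ℳ _ a i g z).mp hz)
  · intro hx
    obtain ⟨z, rfl⟩ := (thetaRes 𝒜 ℳ a i).surjective x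
    exact ⟨z, (mem_HGMod_gr_iff 𝒜 ℳ _ a i g z).mpr ((thetaRes_spec 𝒜 ℳ a i g z).mpr hx), rfl⟩

lemma mem_LCGMod_gr (a : HomogeneousIdeal 𝒜) (i : ℕ) (g : ι) (x : LocCoh.H a.toIdeal i M) :
    (x : (LCGMod 𝒜 ℳ a i).carrier) ∈ (LCGMod 𝒜 ℳ a i).gr g ↔ x ∈ LCgr 𝒜 ℳ a.toIdeal i g := by
  rw [LCGMod_gr]
  exact Iff.rfl

end LCGMod

end Groth.Agent.Helper9.GrLCLib
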