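import Mathlib
import Groth.Prelude.Def_GrLC
import Groth.Prelude.Def_Wider
import Groth.Agent.Lib.Helper9.GrLC.GrH2

set_option autoImplicit false
set_option linter.unusedSectionVars false
universe u
open CategoryTheory DirectSum

namespace Groth.Agent.Helper9.GrLCLib
namespace Coarse

open Groth.Agent.Helper8.LC

variable {ι κ : Type} [AddCommGroup ι] [DecidableEq ι] [AddCommGroup κ] [DecidableEq κ]
  (φ : ι →+ κ)
variable {R : Type u} [CommRing R]

section Fam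

variable {M : Type u} [AddCommGroup M] [Module R M] (ℳ : ι → AddSubgroup M)

/-- the coarsened family of pieces -/
def coarseFam : κ → AddSubgroup M := fun h => ⨆ g ∈ φ ⁻¹' {h}, ℳ g

lemma le_coarseFam (g : ι) : ℳ g ≤ coarseFam φ ℳ (φ g) :=
  le_iSup₂_of_le g (by simp) le_rfl

lemma le_coarseFam' {g : ι} {h : κ} (hg : φ g = h) : ℳ g ≤ coarseFam φ ℳ h := by
  subst hg; exact le_coarseFam φ ℳ g

lemma coarseFam_le {h : κ} {P : AddSubgroup M} (hP : ∀ g, φ g = h → ℳ g ≤ P) :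
    coarseFam φ ℳ h ≤ P :=
  iSup₂_le (fun g hg => hP g hg)

variable [DirectSum.Decomposition ℳ]

lemma proj_eq_zero_of_mem_coarseFam {h : κ} {m : M} (hm : m ∈ coarseFam φ ℳ h) {g : ι}
    (hg : φ g ≠ h) : proj ℳ g m = 0 := by
  have : coarseFam φ ℳ h ≤ (proj ℳ g).ker :=
    coarseFam_le φ ℳ (fun g' hg' m hm => by
      rw [AddMonoidHom.mem_ker]
      exact proj_of_mem_ne ℳ hm (by rintro rfl; exact hg hg'))
  exact this hm

lemma proj_coe_coarse (y : ⨁ h, coarseFam φ ℳ h) (g : ι) :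
    proj ℳ g (DirectSum.coeAddMonoidHom (coarseFam φ ℳ) y) = proj ℳ g (y (φ g) : M) := by
  induction y using DirectSum.induction_on with
  | zero => simp
  | of h n =>
    rw [DirectSum.coeAddMonoidHom_of]
    by_cases hg : h = φ g
    · subst hg
      rw [DirectSum.of_eq_same]
    · rw [proj_eq_zero_of_mem_coarseFam φ ℳ n.2 (Ne.symm hg),
        DirectSum.of_eq_of_ne _ _ _ (Ne.symm hg)]
      simp
  | add x y hx hy =>
    rw [map_add, map_add, hx, hy, DirectSum.add_apply, AddSubgroup.coe_add, map_add]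

lemma eq_zero_of_forall_proj_eq_zero {x : M} (h : ∀ g, proj ℳ g x = 0) : x = 0 := by
  classical
  rw [← DirectSum.sum_support_decompose ℳ x]
  exact Finset.sum_eq_zero (fun g _ => h g)

lemma coe_coarse_injective :
    Function.Injective (DirectSum.coeAddMonoidHom (coarseFam φ ℳ)) := by
  rw [injective_iff_map_eq_zero]
  intro y hy
  ext h
  rw [DirectSum.zero_apply, AddSubgroup.coe_zero]
  apply eq_zero_of_forall_proj_eq_zero ℳ
  intro g
  by_cases hg : φ g = h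
  · subst hg
    rw [← proj_coe_coarse φ ℳ y g, hy, map_zero]
  · exact proj_eq_zero_of_mem_coarseFam φ ℳ (y h).2 hg

open scoped Classical in
lemma coe_coarse_surjective :
    Function.Surjective (DirectSum.coeAddMonoidHom (coarseFam φ ℳ)) := by
  intro x
  refine ⟨∑ g ∈ (decompose ℳ x).support,
    DirectSum.of (fun h => coarseFam φ ℳ h) (φ g)
      ⟨proj ℳ g x, le_coarseFam φ ℳ g (proj_mem ℳ g x)⟩, ?_⟩
  rw [map_sum]
  simp only [DirectSum.coeAddMonoidHom_of]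
  exact DirectSum.sum_support_decompose ℳ x

lemma coarse_isInternal : DirectSum.IsInternal (coarseFam φ ℳ) :=
  ⟨coe_coarse_injective φ ℳ, coe_coarse_surjective φ ℳ⟩

/-- the decomposition by the coarsened pieces -/
@[instance_reducible]
noncomputable def coarseDecomposition : DirectSum.Decomposition (coarseFam φ ℳ) :=
  (coarse_isInternal φ ℳ).chooseDecomposition

end Fam

section GMod

variable (𝒜 : ι → AddSubgroup R) [GradedRing 𝒜] (𝒜' : κ → AddSubgroup R) [GradedRing 𝒜']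
  (h𝒜 : ∀ h : κ, 𝒜' h = ⨆ g ∈ φ ⁻¹' {h}, 𝒜 g)

variable {M : Type u} [AddCommGroup M] [Module R M] (ℳ : ι → AddSubgroup M)
  [DirectSum.Decomposition ℳ] [SetLike.GradedSMul 𝒜 ℳ]

include h𝒜 in
lemma coarseGradedSMul : SetLike.GradedSMul 𝒜' (coarseFam φ ℳ) where
  smul_mem := by
    intro h k r m hr hm
    rw [vadd_eq_add]
    rw [h𝒜 h] at hr
    -- first fix `m`
    have step1 : ∀ (g : ι), φ g = h → ∀ r ∈ 𝒜 g, ∀ m ∈ coarseFam φ ℳ k,
        r • m ∈ coarseFam φ ℳ (h + k) := by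
      intro g hg r hr m hm
      have : coarseFam φ ℳ k ≤
          (coarseFam φ ℳ (h + k)).comap (DistribSMul.toAddMonoidHom M r) :=
        coarseFam_le φ ℳ (fun g' hg' m hm => by
          rw [AddSubgroup.mem_comap]
          change r • m ∈ _
          apply le_coarseFam' φ ℳ (g := g + g') (by rw [map_add, hg, hg'])
          exact smul_mem_add 𝒜 ℳ hr hm)
      exact this hm
    have step2 : (⨆ g ∈ φ ⁻¹' {h}, 𝒜 g) ≤
        (coarseFam φ ℳ (h + k)).comap ((smulAddHom R M).flip m) :=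
      iSup₂_le (fun g hg r hr => by
        rw [AddSubgroup.mem_comap]
        change r • m ∈ _
        exact step1 g hg r hr m hm)
    exact step2 hr

/-- the coarsening of a bundled graded module -/
noncomputable def coarseGMod (A : GrLC.GMod.{u} 𝒜) : GrLC.GMod.{u} 𝒜' :=
  letI := coarseDecomposition φ A.gr
  letI := coarseGradedSMul φ 𝒜 𝒜' h𝒜 A.gr
  GrLC.GMod.of 𝒜' A.carrier (coarseFam φ A.gr)

lemma coarseGMod_gr (A : GrLC.GMod.{u} 𝒜) :
    (coarseGMod φ 𝒜 𝒜' h𝒜 A).gr = coarseFam φ A.gr := rfl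

end GMod

section Funct

/-- the map induced on first syzygies by a lift `φ0` of `f` -/
lemma exists_syzygy_map' (U V : URes R) (f : U.M →ₗ[R] V.M) (φ0 : U.X 0 →ₗ[R] V.X 0)
    (hφ0 : φ0 ∘ₗ U.ε = V.ε ∘ₗ f) :
    ∃ f1 : LinearMap.range (U.d 0) →ₗ[R] LinearMap.range (V.d 0),
      ∀ y : U.X 0, f1 ((U.d 0).rangeRestrict y) = (V.d 0).rangeRestrict (φ0 y) := by
  let q : U.X 0 →ₗ[R] LinearMap.range (V.d 0) := (V.d 0).rangeRestrict ∘ₗ φ0
  have hq : LinearMap.ker (U.d 0) ≤ LinearMap.ker q := by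
    intro y hy
    rw [U.exact_zero] at hy
    obtain ⟨m, rfl⟩ := hy
    rw [LinearMap.mem_ker]
    apply Subtype.ext
    change V.d 0 (φ0 (U.ε m)) = 0
    have h1 : φ0 (U.ε m) = V.ε (f m) := LinearMap.congr_fun hφ0 m
    rw [h1]
    have h2 : V.ε (f m) ∈ LinearMap.ker (V.d 0) := by rw [V.exact_zero]; exact ⟨_, rfl⟩
    exact h2
  refine ⟨(Submodule.liftQ _ q hq) ∘ₗ (LinearMap.quotKerEquivRange (U.d 0)).symm.toLinearMap,
    fun y => ?_⟩
  change Submodule.liftQ _ q hq ((LinearMap.quotKerEquivRange (U.d 0)).symm ⟨U.d 0 y, _⟩) = _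
  rw [LinearMap.quotKerEquivRange_symm_apply_image]
  rfl

variable [IsNoetherianRing R] [Module.Free ℤ ι] [Module.Finite ℤ ι] [Module.Free ℤ κ]
  [Module.Finite ℤ κ]
variable (𝒜 : ι → AddSubgroup R) [GradedRing 𝒜] (𝒜' : κ → AddSubgroup R) [GradedRing 𝒜']
  (h𝒜 : ∀ h : κ, 𝒜' h = ⨆ g ∈ φ ⁻¹' {h}, 𝒜 g)

include h𝒜 in
/-- **Functoriality of the degree filtration along a coarsening of the grading** -/
theorem GrH1_map_coarse (J : Ideal R) (t : κ) (g : ι) : ∀ (i : ℕ) {M N : Type u}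
    [AddCommGroup M] [Module R M] [AddCommGroup N] [Module R N] (ℳ : ι → AddSubgroup M)
    [DirectSum.Decomposition ℳ] [SetLike.GradedSMul 𝒜 ℳ] (𝒩 : κ → AddSubgroup N)
    [DirectSum.Decomposition 𝒩] [SetLike.GradedSMul 𝒜' 𝒩] (E : GrLC.StarInjRes 𝒜 ℳ)
    (F : GrLC.StarInjRes 𝒜' 𝒩) (f : M →ₗ[R] N),
    (∀ k m, m ∈ ℳ k → f m ∈ 𝒩 (φ k + t)) → ∀ x : LocCoh.H J i M,
      x ∈ URes.GrH1 J i (ofStar 𝒜 ℳ E) (ℳ g) (fun n => (E.X n).gr g) →
      ((localCohomology J i).map (ModuleCat.ofHom f)) x ∈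
        URes.GrH1 J i (ofStar 𝒜' 𝒩 F) (𝒩 (φ g + t)) (fun n => (F.X n).gr (φ g + t)) := by
  intro i
  induction i with
  | zero =>
    intro M N _ _ _ _ ℳ _ _ 𝒩 _ _ E F f hf x hx
    have h1 : ev0 J (ModuleCat.of R N) (((localCohomology J 0).map (ModuleCat.ofHom f)) x) =
        f (ev0 J (ModuleCat.of R M) x) := Groth.Agent.S13224.Aux.ev0_map' J f x
    have hx' : ev0 J (ModuleCat.of R M) x ∈ ℳ g :=
      (URes.mem_GrH1_zero J (ofStar 𝒜 ℳ E) (ℳ g) _ x).mp hx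
    have h2 : f (ev0 J (ModuleCat.of R M) x) ∈ 𝒩 (φ g + t) := hf g _ hx'
    rw [← h1] at h2
    exact (URes.mem_GrH1_zero J (ofStar 𝒜' 𝒩 F) (𝒩 (φ g + t)) _ _).mpr h2
  | succ i ih =>
    intro M N _ _ _ _ ℳ _ _ 𝒩 _ _ E F f hf x hx
    obtain ⟨y, hy, rfl⟩ := (URes.mem_GrH1_succ J i (ofStar 𝒜 ℳ E) _ _ x).mp hx
    -- lift of `f` to the first terms, using the coarsened modules
    let A := coarseGMod φ 𝒜 𝒜' h𝒜 (GrLC.GMod.of 𝒜 M ℳ)
    let B := coarseGMod φ 𝒜 𝒜' h𝒜 (E.X 0)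
    have hεg : GrLC.IsGrHom A.gr B.gr E.ε := by
      intro h m hm
      have : coarseFam φ ℳ h ≤ (coarseFam φ (E.X 0).gr h).comap E.ε.toAddMonoidHom :=
        coarseFam_le φ ℳ (fun g' hg' m hm => by
          rw [AddSubgroup.mem_comap]
          exact le_coarseFam' φ (E.X 0).gr hg' (E.ε_grHom g' m hm))
      exact this hm
    have hFεf : GrLC.IsGrHomDeg A.gr (F.X 0).gr (F.ε ∘ₗ f) t := by
      intro h m hm
      have : coarseFam φ ℳ h ≤ ((F.X 0).gr (h + t)).comap (F.ε ∘ₗ f).toAddMonoidHom :=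
        coarseFam_le φ ℳ (fun g' hg' m hm => by
          rw [AddSubgroup.mem_comap]
          have h1 := hf g' m hm
          rw [hg'] at h1
          exact F.ε_grHom _ _ h1)
      exact this hm
    obtain ⟨φ0, hφ0deg, hφ0⟩ := exists_extension_deg 𝒜' (F.X 0) (F.starInj 0) A B E.ε hεg
      E.ε_injective t (F.ε ∘ₗ f) hFεf
    obtain ⟨f1, hf1⟩ := exists_syzygy_map' (ofStar 𝒜 ℳ E) (ofStar 𝒜' 𝒩 F) f φ0 hφ0
    -- `f1` has degree `t`
    have hf1deg : ∀ (k : ι) (z : LinearMap.range (E.d 0)), z ∈ (Z1 𝒜 ℳ E).gr k →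
        f1 z ∈ (Z1 𝒜' 𝒩 F).gr (φ k + t) := by
      intro k z hz
      have hz1 : (z : (E.X 1).carrier) ∈ (E.X 1).gr k :=
        (mem_subGMod_gr (E.X 1) (LinearMap.range (E.d 0)) _ k z).mp hz
      obtain ⟨y', hy'⟩ := z.2
      have h1 : E.d 0 (proj (E.X 0).gr k y') = (z : (E.X 1).carrier) := by
        rw [← proj_map_of_isGrHom (E.X 0).gr (E.X 1).gr (E.d_grHom 0) y' k, hy']
        exact proj_of_mem_same (E.X 1).gr hz1
      have h2 : z = (E.d 0).rangeRestrict (proj (E.X 0).gr k y') := Subtype.ext h1.symm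
      rw [h2]
      have h3 := hf1 (proj (E.X 0).gr k y')
      rw [show f1 ((E.d 0).rangeRestrict (proj (E.X 0).gr k y')) =
        (F.d 0).rangeRestrict (φ0 (proj (E.X 0).gr k y')) from h3]
      apply (mem_subGMod_gr (F.X 1) (LinearMap.range (F.d 0)) _ (φ k + t) _).mpr
      change F.d 0 (φ0 (proj (E.X 0).gr k y')) ∈ (F.X 1).gr (φ k + t)
      exact F.d_grHom 0 _ _ (hφ0deg (φ k) _
        (le_coarseFam φ (E.X 0).gr k (proj_mem (E.X 0).gr k y')))
    -- the morphism of short exact sequences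
    let Φ : (ofStar 𝒜 ℳ E).sc ⟶ (ofStar 𝒜' 𝒩 F).sc :=
      { τ₁ := ModuleCat.ofHom f
        τ₂ := ModuleCat.ofHom φ0
        τ₃ := ModuleCat.ofHom f1
        comm₁₂ := by
          apply ModuleCat.hom_ext
          exact hφ0.symm
        comm₂₃ := by
          apply ModuleCat.hom_ext
          apply LinearMap.ext
          intro y
          exact (hf1 y).symm }
    have hnat := δ_naturality J i (ofStar 𝒜 ℳ E).sc_exact (ofStar 𝒜' 𝒩 F).sc_exact Φ y
    change ((localCohomology J (i + 1)).map (ModuleCat.ofHom f))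
      (δ J i (ofStar 𝒜 ℳ E).sc_exact y) ∈ _
    refine (URes.mem_GrH1_succ J i (ofStar 𝒜' 𝒩 F) _ _ _).mpr
      ⟨((localCohomology J i).map (ModuleCat.ofHom f1)) y, ?_, hnat.symm⟩
    have hy' : y ∈ URes.GrH1 J i (ofStar 𝒜 (Z1 𝒜 ℳ E).gr (shiftRes 𝒜 ℳ E)) ((Z1 𝒜 ℳ E).gr g)
        (fun n => ((shiftRes 𝒜 ℳ E).X n).gr g) := by
      rw [Z1_gr_eq]; exact hy
    have h3 := ih (Z1 𝒜 ℳ E).gr (Z1 𝒜' 𝒩 F).gr (shiftRes 𝒜 ℳ E) (shiftRes 𝒜' 𝒩 F) f1 hf1deg y hy'
    rw [Z1_gr_eq] at h3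
    exact h3

end Funct

end Coarse
end Groth.Agent.Helper9.GrLCLib
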