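import Mathlib
import Groth.Prelude.Def_GrLC
import Groth.Agent.Lib.Helper9.GrLC.Basic
import Groth.Agent.Lib.Helper9.GrLC.Pull
import Groth.Agent.Lib.Helper9.GrLC.Push
import Groth.Agent.Lib.Helper9.GrLC.Ess

open DirectSum

universe u

set_option linter.unusedSectionVars false

namespace Groth.Agent.Helper9.GrLCLib

section Hull
variable {ι : Type} [AddCommGroup ι] [DecidableEq ι]
variable {R : Type u} [CommRing R] (𝒜 : ι → AddSubgroup R) [GradedRing 𝒜]
variable {M : Type u} [AddCommGroup M] [Module R M] (𝒮 : ι → AddSubgroup M)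

section Max
variable (A : GrLC.GMod.{u} 𝒜) (η : M →ₗ[R] A.carrier)

/-- `N` is a *essential extension of `range η` inside `A` -/
def EssIn (N : Submodule R A.carrier) : Prop :=
  ∀ P : Submodule R A.carrier, P.IsHomogeneous A.gr → P ≤ N → P ≠ ⊥ → P ⊓ LinearMap.range η ≠ ⊥

/-- the set of homogeneous *essential extensions of `range η` inside `A` -/
def EssSet : Set (Submodule R A.carrier) :=
  {N | N.IsHomogeneous A.gr ∧ LinearMap.range η ≤ N ∧ EssIn 𝒜 A η N}

lemma exists_maximal_essIn (hrange : (LinearMap.range η).IsHomogeneous A.gr) :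
    ∃ E : Submodule R A.carrier, Maximal (· ∈ EssSet 𝒜 A η) E := by
  have hbase : LinearMap.range η ∈ EssSet 𝒜 A η := by
    refine ⟨hrange, le_rfl, ?_⟩
    intro P _ hle hne
    rwa [inf_eq_left.mpr hle]
  obtain ⟨E, _, hE⟩ := zorn_le_nonempty₀ (EssSet 𝒜 A η)
    (fun c hcs hc y hy => by
      refine ⟨sSup c, ⟨sSup_isHomogeneous_of_chain A.gr hc ⟨y, hy⟩ (fun P hP => (hcs hP).1),
        le_trans (hcs hy).2.1 (le_sSup hy), ?_⟩, fun z hz => le_sSup hz⟩
      intro P hP hle hne
      obtain ⟨k, x, hxP, hxk, hx0⟩ := exists_homog_mem_ne_zero A.gr hP hne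
      have hx : x ∈ sSup c := hle hxP
      rw [Submodule.mem_sSup_of_directed ⟨y, hy⟩ hc.directedOn] at hx
      obtain ⟨N, hN, hxN⟩ := hx
      have hspan_ne : Submodule.span R {x} ≠ ⊥ := by
        intro hbot
        exact hx0 (Submodule.span_singleton_eq_bot.mp hbot)
      have h1 := (hcs hN).2.2 (Submodule.span R {x}) (span_singleton_isHomogeneous 𝒜 A.gr hxk)
        ((Submodule.span_singleton_le_iff_mem x N).mpr hxN) hspan_ne
      intro hbot
      apply h1
      rw [eq_bot_iff, ← hbot]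
      exact inf_le_inf_right _ ((Submodule.span_singleton_le_iff_mem x P).mpr hxP))
    (LinearMap.range η) hbase
  exact ⟨E, hE⟩

end Max

/-- **Existence of *injective envelopes inside a *injective module.**  If `η : M → A` is a
homogeneous injection with homogeneous image into a *injective module `A`, then `A = E ⊕ K` with
`E`, `K` homogeneous, `E ⊇ η(M)` a *injective envelope of `M`. -/
theorem exists_hull_in_starInj (A : GrLC.GMod.{u} 𝒜) (hA : GrLC.IsStarInj 𝒜 A.gr)
    (η : M →ₗ[R] A.carrier) (hη : GrLC.IsGrHom 𝒮 A.gr η) (hηinj : Function.Injective η)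
    (hrange : (LinearMap.range η).IsHomogeneous A.gr) :
    ∃ (E K : Submodule R A.carrier) (hE : E.IsHomogeneous A.gr) (hle : ∀ x, η x ∈ E),
      K.IsHomogeneous A.gr ∧ IsCompl E K ∧
      GrLC.IsStarInjHull 𝒜 𝒮 (subGMod A E hE).gr (subLift A E hE η hle) := by
  -- maximal *essential extension
  obtain ⟨E, hEmax⟩ := exists_maximal_essIn 𝒜 A η hrange
  obtain ⟨hEhom, hηE, hEess⟩ := hEmax.prop
  -- maximal complement
  obtain ⟨K, hK, hdisj, hKmax⟩ := exists_maximal_homogeneous_disjoint A.gr E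
  let EG := subGMod A E hEhom
  let s := subMap A E hEhom
  have hs : GrLC.IsGrHom EG.gr A.gr s := isGrHom_subMap A E hEhom
  have hsinj : Function.Injective s := subMap_injective A E hEhom
  have hrange' : LinearMap.range s = E := range_subMap A E hEhom
  have hess := isStarEss_quotMap_comp EG.gr A s hs hsinj K hK (by rw [hrange']; exact hdisj)
    (fun K' h1 h2 h3 => hKmax K' h1 (by rw [← hrange']; exact h2) h3)
  let Q := quotGMod A K hK
  let π := quotMap A K hK
  obtain ⟨ψ, hψ, hψf⟩ := hA EG Q (π ∘ₗ s) hess.grHom hess.injective s hs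
  have hψinj : Function.Injective ψ :=
    injective_of_comp_injective' Q.gr A.gr EG.gr hess hψ (by rw [hψf]; exact hsinj)
  have hψπ : ∀ x : EG.carrier, ψ (π (s x)) = s x := fun x => LinearMap.congr_fun hψf x
  have hEle : E ≤ LinearMap.range ψ := by
    intro x hx
    rw [← hrange'] at hx
    obtain ⟨y, rfl⟩ := hx
    exact ⟨π (s y), hψπ y⟩
  -- the image of ψ is a *essential extension containing E, hence equals E
  have hE2 : LinearMap.range ψ ∈ EssSet 𝒜 A η := by
    refine ⟨range_isHomogeneous Q.gr A.gr hψ, le_trans hηE hEle, ?_⟩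
    intro P hP hle hne
    have hP'hom : (P.comap ψ).IsHomogeneous Q.gr := comap_isHomogeneous Q.gr A.gr hψ hP
    have hP'ne : P.comap ψ ≠ ⊥ := by
      obtain ⟨x, hxP, hx0⟩ := Submodule.exists_mem_ne_zero_of_ne_bot hne
      obtain ⟨q, rfl⟩ := hle hxP
      intro hbot
      have : q ∈ P.comap ψ := hxP
      rw [hbot, Submodule.mem_bot] at this
      exact hx0 (by rw [this, map_zero])
    have h1 := hess.essential _ hP'hom hP'ne
    obtain ⟨q, hq, hq0⟩ := Submodule.exists_mem_ne_zero_of_ne_bot h1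
    obtain ⟨hq1, y, rfl⟩ := hq
    have hyP : s y ∈ P := by
      have : ψ ((π ∘ₗ s) y) ∈ P := hq1
      rwa [LinearMap.comp_apply, hψπ] at this
    have hy0 : s y ≠ 0 := by
      intro h0
      apply hq0
      rw [LinearMap.comp_apply, h0, map_zero]
    have hPE : P ⊓ E ≠ ⊥ := by
      intro hbot
      have : s y ∈ P ⊓ E := ⟨hyP, subMap_mem A E hEhom y⟩
      rw [hbot, Submodule.mem_bot] at this
      exact hy0 this
    have h2 := hEess (P ⊓ E) (inf_isHomogeneous A.gr hP hEhom) inf_le_right hPE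
    intro hbot
    apply h2
    rw [eq_bot_iff, ← hbot]
    exact inf_le_inf_right _ inf_le_left
  have hψE : LinearMap.range ψ ≤ E := hEmax.le_of_ge hE2 hEle
  -- the retraction of A onto E
  let ρ : A.carrier →ₗ[R] EG.carrier :=
    subLift A E hEhom (ψ ∘ₗ π) (fun x => hψE ⟨π x, rfl⟩)
  have hρ : GrLC.IsGrHom A.gr EG.gr ρ := by
    intro k x hx
    rw [mem_subGMod_gr]
    show (ψ ∘ₗ π) x ∈ A.gr k
    exact hψ k _ (isGrHom_quotMap A K hK k x hx)
  have hρs : ∀ x : EG.carrier, ρ (s x) = x := by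
    intro x
    apply hsinj
    show (ψ ∘ₗ π) (s x) = s x
    exact hψπ x
  -- E is *injective
  have hEG : GrLC.IsStarInj 𝒜 EG.gr := by
    intro A' B' j hj hjinj g hg
    obtain ⟨h₁, hh₁, hh₁j⟩ := hA A' B' j hj hjinj (s ∘ₗ g) (fun k a ha => hs k _ (hg k a ha))
    refine ⟨ρ ∘ₗ h₁, fun k b hb => hρ k _ (hh₁ k b hb), ?_⟩
    ext a
    have := LinearMap.congr_fun hh₁j a
    rw [LinearMap.comp_apply] at this
    rw [LinearMap.comp_apply, LinearMap.comp_apply, this, LinearMap.comp_apply, hρs]
  -- the map M → E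
  have hle : ∀ x, η x ∈ E := fun x => hηE ⟨x, rfl⟩
  let f : M →ₗ[R] EG.carrier := subLift A E hEhom η hle
  have hsf : s ∘ₗ f = η := subMap_comp_subLift A E hEhom η _
  have hfinj : Function.Injective f := by
    intro x y hxy
    apply hηinj
    rw [← hsf, LinearMap.comp_apply, LinearMap.comp_apply, hxy]
  have hfgr : GrLC.IsGrHom 𝒮 EG.gr f := by
    intro k m hm
    rw [mem_subGMod_gr]
    exact hη k m hm
  have hfess : ∀ P : Submodule R EG.carrier, P.IsHomogeneous EG.gr → P ≠ ⊥ →
      P ⊓ LinearMap.range f ≠ ⊥ := by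
    intro P hP hne
    have h1 : (P.map s).IsHomogeneous A.gr := map_isHomogeneous EG.gr A.gr hs hP
    have h2 : P.map s ≤ E := by
      rintro _ ⟨x, _, rfl⟩
      exact subMap_mem A E hEhom x
    have h3 : P.map s ≠ ⊥ := by
      intro hbot
      apply hne
      rw [eq_bot_iff]
      intro x hx
      have : s x ∈ P.map s := ⟨x, hx, rfl⟩
      rw [hbot, Submodule.mem_bot] at this
      rw [Submodule.mem_bot]
      exact hsinj (by rw [this, map_zero])
    have h4 := hEess _ h1 h2 h3
    obtain ⟨y, hy, hy0⟩ := Submodule.exists_mem_ne_zero_of_ne_bot h4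
    obtain ⟨⟨x, hxP, rfl⟩, m, hm⟩ := hy
    intro hbot
    have hx : x ∈ P ⊓ LinearMap.range f := by
      refine ⟨hxP, m, ?_⟩
      apply hsinj
      rw [← hm, ← hsf]
      rfl
    rw [hbot, Submodule.mem_bot] at hx
    exact hy0 (by rw [hx, map_zero])
  have hcompl : IsCompl E K := by
    constructor
    · rw [disjoint_iff, inf_comm]; exact hdisj
    · rw [codisjoint_iff, eq_top_iff]
      intro x _
      have hy : ψ (π x) ∈ E := hψE ⟨π x, rfl⟩
      have : x = ψ (π x) + (x - ψ (π x)) := by abel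
      rw [this]
      refine Submodule.add_mem_sup hy ?_
      rw [← quotMap_eq_zero_iff A K hK]
      apply hψinj
      show ψ (π (x - ψ (π x))) = ψ 0
      have h5 : ψ (π (ψ (π x))) = ψ (π x) := by
        have := hρs (ρ x)
        have h6 : s (ρ x) = ψ (π x) := rfl
        have h7 := hψπ (ρ x)
        rw [h6] at h7
        exact h7
      rw [map_sub, map_sub, h5, sub_self, map_zero]
  exact ⟨E, K, hEhom, hle, hK, hcompl,
    { injective := hfinj, grHom := hfgr, essential := hfess, starInj := hEG }⟩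

end Hull

end Groth.Agent.Helper9.GrLCLib
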