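import Mathlib
import Groth.Prelude.Def_GrLC
import Groth.Agent.Lib.Helper9.GrLC.Basic

/-!
# Positively ℤ-graded rings and modules: truncations `M_{≥ k}`, *maximal ideals are maximal,
Artinian graded modules.
-/

set_option autoImplicit false
set_option linter.unusedSectionVars false
universe u
open DirectSum

namespace Groth.Agent.Helper9.GrLCLib

namespace Pos

variable {R : Type u} [CommRing R] (𝒜 : ℤ → AddSubgroup R) [GradedRing 𝒜]
variable {M : Type u} [AddCommGroup M] [Module R M] (ℳ : ℤ → AddSubgroup M)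
  [DirectSum.Decomposition ℳ] [SetLike.GradedSMul 𝒜 ℳ]

lemma eq_zero_of_proj_eq_zero {x : M} (h : ∀ n, proj ℳ n x = 0) : x = 0 := by
  apply (DirectSum.decompose ℳ).injective
  rw [DirectSum.decompose_zero]
  ext n
  exact h n

lemma smul_proj_vanish (hpos : ∀ n : ℤ, n < 0 → 𝒜 n = ⊥) (k : ℤ) (c : R) (x : M)
    (hx : ∀ n < k, proj ℳ n x = 0) : ∀ n < k, proj ℳ n (c • x) = 0 := by
  intro n hn
  classical
  have hsum : c = ∑ j ∈ (decompose 𝒜 c).support, (decompose 𝒜 c j : R) :=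
    (DirectSum.sum_support_decompose 𝒜 c).symm
  rw [hsum, Finset.sum_smul, map_sum]
  refine Finset.sum_eq_zero (fun j _ => ?_)
  rw [proj_smul_of_mem' 𝒜 ℳ (decompose 𝒜 c j).2 x n]
  by_cases hj : j < 0
  · have : (decompose 𝒜 c j : R) ∈ (⊥ : AddSubgroup R) := by
      rw [← hpos j hj]; exact (decompose 𝒜 c j).2
    rw [AddSubgroup.mem_bot] at this
    rw [this, zero_smul]
  · rw [hx (n - j) (by omega), smul_zero]

/-- elements with no components in degrees below `k` -/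
def geS (hpos : ∀ n : ℤ, n < 0 → 𝒜 n = ⊥) (k : ℤ) : Submodule R M where
  carrier := {x | ∀ n < k, proj ℳ n x = 0}
  zero_mem' := fun n _ => map_zero _
  add_mem' := fun {x y} hx hy n hn => by rw [map_add, hx n hn, hy n hn, add_zero]
  smul_mem' := fun c x hx => smul_proj_vanish 𝒜 ℳ hpos k c x hx

lemma mem_geS (hpos : ∀ n : ℤ, n < 0 → 𝒜 n = ⊥) (k : ℤ) (x : M) :
    x ∈ geS 𝒜 ℳ hpos k ↔ ∀ n < k, proj ℳ n x = 0 := Iff.rfl

lemma geS_mono (hpos : ∀ n : ℤ, n < 0 → 𝒜 n = ⊥) {k k' : ℤ} (h : k ≤ k') :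
    geS 𝒜 ℳ hpos k' ≤ geS 𝒜 ℳ hpos k := fun _ hx n hn => hx n (by omega)

lemma smul_geS_le (hpos : ∀ n : ℤ, n < 0 → 𝒜 n = ⊥) (a : Ideal R)
    (ha : a = Ideal.span (⋃ n ∈ Set.Ioi (0 : ℤ), (𝒜 n : Set R))) (k : ℤ) :
    a • geS 𝒜 ℳ hpos k ≤ geS 𝒜 ℳ hpos (k + 1) := by
  rw [Submodule.smul_le]
  intro r hr x hx
  rw [ha] at hr
  induction hr using Submodule.span_induction with
  | mem s hs =>
    simp only [Set.mem_iUnion, Set.mem_Ioi, SetLike.mem_coe] at hs
    obtain ⟨j, hj, hs⟩ := hs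
    intro n hn
    rw [proj_smul_of_mem' 𝒜 ℳ hs x n, hx (n - j) (by omega), smul_zero]
  | zero => rw [zero_smul]; exact zero_mem _
  | add s t _ _ hs ht => rw [add_smul]; exact add_mem hs ht
  | smul c s _ hs => rw [smul_eq_mul, mul_smul]; exact Submodule.smul_mem _ c hs

lemma pow_smul_geS_le (hpos : ∀ n : ℤ, n < 0 → 𝒜 n = ⊥) (a : Ideal R)
    (ha : a = Ideal.span (⋃ n ∈ Set.Ioi (0 : ℤ), (𝒜 n : Set R))) (k : ℤ) (j : ℕ) :
    a ^ j • geS 𝒜 ℳ hpos k ≤ geS 𝒜 ℳ hpos (k + j) := by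
  induction j with
  | zero => simp
  | succ j ih =>
    rw [pow_succ', Submodule.mul_smul]
    refine le_trans (Submodule.smul_mono le_rfl ih) ?_
    refine le_trans (smul_geS_le 𝒜 ℳ hpos a ha (k + j)) ?_
    apply geS_mono
    push_cast
    omega

lemma exists_mem_geS (hpos : ∀ n : ℤ, n < 0 → 𝒜 n = ⊥) (x : M) :
    ∃ k, x ∈ geS 𝒜 ℳ hpos k := by
  classical
  obtain ⟨k', hk'⟩ := Finset.exists_le ((decompose ℳ x).support.image (fun n : ℤ => -n))
  have hk : ∀ n ∈ (decompose ℳ x).support, -k' ≤ n := by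
    intro n hn
    have := hk' (-n) (Finset.mem_image_of_mem _ hn)
    omega
  refine ⟨-k', fun n hn => ?_⟩
  by_contra h
  have : n ∈ (decompose ℳ x).support := by
    rw [DFinsupp.mem_support_toFun]
    intro h0
    apply h
    rw [proj_apply, h0]
    rfl
  have := hk n this
  omega

lemma geS_eq_bot (hpos : ∀ n : ℤ, n < 0 → 𝒜 n = ⊥) (n₀ : ℤ) (h : ∀ n, n₀ ≤ n → ℳ n = ⊥) :
    geS 𝒜 ℳ hpos n₀ = ⊥ := by
  rw [eq_bot_iff]
  intro x hx
  rw [Submodule.mem_bot]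
  apply eq_zero_of_proj_eq_zero ℳ
  intro n
  by_cases hn : n < n₀
  · exact hx n hn
  · have := proj_mem ℳ n x
    rw [h n (by omega), AddSubgroup.mem_bot] at this
    exact this

lemma exists_top_le_geS [Module.Finite R M] (hpos : ∀ n : ℤ, n < 0 → 𝒜 n = ⊥) :
    ∃ k₀, (⊤ : Submodule R M) ≤ geS 𝒜 ℳ hpos k₀ := by
  classical
  obtain ⟨S, hS⟩ := (Module.Finite.fg_top : (⊤ : Submodule R M).FG)
  choose! kf hkf using fun s : M => exists_mem_geS 𝒜 ℳ hpos s
  obtain ⟨k', hk'⟩ := Finset.exists_le (S.image (fun s => -kf s))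
  refine ⟨-k', ?_⟩
  rw [← hS, Submodule.span_le]
  intro s hs
  have h1 := hk' (-kf s) (Finset.mem_image_of_mem _ hs)
  exact geS_mono 𝒜 ℳ hpos (by omega) (hkf s)

lemma piece_le_pow (a : Ideal R)
    (ha : a = Ideal.span (⋃ n ∈ Set.Ioi (0 : ℤ), (𝒜 n : Set R)))
    (hhom : a = Ideal.span ((𝒜 1 : AddSubgroup R) : Set R)) :
    ∀ (j : ℕ) (r : R), r ∈ 𝒜 (j : ℤ) → r ∈ a ^ j := by
  intro j
  induction j with
  | zero => intro r _; simp
  | succ j ih =>
    intro r hr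
    have hra : r ∈ a := by
      rw [ha]
      apply Ideal.subset_span
      exact Set.mem_biUnion (Set.mem_Ioi.mpr (by positivity)) hr
    rw [hhom] at hra
    obtain ⟨n, f, g, rfl⟩ := Submodule.mem_span_set'.mp hra
    have h1 := proj_of_mem_same 𝒜 hr
    rw [map_sum] at h1
    rw [← h1]
    refine Ideal.sum_mem _ (fun i _ => ?_)
    have hg : ((g i : R)) ∈ 𝒜 1 := (g i).2
    rw [proj_smul_of_mem_right' 𝒜 𝒜 hg (f i) ((j + 1 : ℕ) : ℤ), pow_succ, smul_eq_mul]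
    apply Ideal.mul_mem_mul
    · apply ih
      have := (decompose 𝒜 (f i) (((j + 1 : ℕ) : ℤ) - 1)).2
      have he : (((j + 1 : ℕ) : ℤ) - 1) = (j : ℤ) := by push_cast; ring
      rw [he] at this
      rw [he]
      exact this
    · rw [hhom]
      exact Ideal.subset_span hg


section Artin

lemma mem_geS_of_mem (hpos : ∀ n : ℤ, n < 0 → 𝒜 n = ⊥) {n : ℤ} {x : M} (hx : x ∈ ℳ n) :
    x ∈ geS 𝒜 ℳ hpos n := fun k hk => proj_of_mem_ne ℳ hx (by omega)

/-- an Artinian graded module over a positively graded ring vanishes in large degrees -/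
lemma exists_gr_eq_bot_of_isArtinian (hpos : ∀ n : ℤ, n < 0 → 𝒜 n = ⊥) [IsArtinian R M] :
    ∃ N : ℤ, ∀ n : ℤ, N ≤ n → ℳ n = ⊥ := by
  let f : ℕ →o (Submodule R M)ᵒᵈ :=
    ⟨fun k => OrderDual.toDual (geS 𝒜 ℳ hpos (k : ℤ)), fun k k' h =>
      geS_mono 𝒜 ℳ hpos (by exact_mod_cast h)⟩
  obtain ⟨N, hN⟩ := IsArtinian.monotone_stabilizes f
  refine ⟨N, fun n hn => ?_⟩
  rw [eq_bot_iff]
  intro x hx
  rw [AddSubgroup.mem_bot]
  have hn' : ((n.toNat : ℕ) : ℤ) = n := Int.toNat_of_nonneg (by omega)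
  have h1 : geS 𝒜 ℳ hpos (N : ℤ) = geS 𝒜 ℳ hpos ((n.toNat : ℕ) : ℤ) :=
    congrArg OrderDual.ofDual (hN n.toNat (by omega))
  have h2 : geS 𝒜 ℳ hpos (N : ℤ) = geS 𝒜 ℳ hpos ((n.toNat + 1 : ℕ) : ℤ) :=
    congrArg OrderDual.ofDual (hN (n.toNat + 1) (by omega))
  have hx1 : x ∈ geS 𝒜 ℳ hpos ((n.toNat : ℕ) : ℤ) := by
    rw [hn']; exact mem_geS_of_mem 𝒜 ℳ hpos hx
  rw [← h1, h2] at hx1
  have := hx1 n (by push_cast; omega)
  rwa [proj_of_mem_same ℳ hx] at this

/-- homogeneous elements in the `R`-span of a set of degree-`n` elements closed under `R₀` -/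
lemma mem_of_mem_span_comp (n : ℤ) (N : Submodule (GrLC.deg0 𝒜) (GrLC.comp 𝒜 ℳ n))
    (x : GrLC.comp 𝒜 ℳ n)
    (hx : (x : M) ∈ Submodule.span R ((fun y : GrLC.comp 𝒜 ℳ n => (y : M)) '' (N : Set _))) :
    x ∈ N := by
  obtain ⟨m, f, g, hfg⟩ := Submodule.mem_span_set'.mp hx
  choose y hyN hy using fun i => (g i).2
  have hxn : (x : M) ∈ ℳ n := x.2
  have h1 : (x : M) = ∑ i, proj ℳ n (f i • (g i : M)) := by
    rw [← map_sum, hfg]; exact (proj_of_mem_same ℳ hxn).symm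
  have h2 : x = ∑ i, (⟨(decompose 𝒜 (f i) 0 : R),
      (show (decompose 𝒜 (f i) 0 : R) ∈ GrLC.deg0 𝒜 from (decompose 𝒜 (f i) 0).2)⟩ :
        GrLC.deg0 𝒜) • y i := by
    apply Subtype.ext
    rw [h1, Submodule.coe_sum]
    refine Finset.sum_congr rfl (fun i _ => ?_)
    have hyn : ((y i : GrLC.comp 𝒜 ℳ n) : M) ∈ ℳ n := (y i).2
    rw [← hy i, proj_smul_of_mem_right' 𝒜 ℳ hyn (f i) n, sub_self]
    rfl
  rw [h2]
  exact Submodule.sum_mem _ (fun i _ => Submodule.smul_mem _ _ (hyN i))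

/-- the pieces of an Artinian graded module are Artinian over the degree-zero subring -/
lemma isArtinian_comp_of_isArtinian [IsArtinian R M] (n : ℤ) :
    IsArtinian (GrLC.deg0 𝒜) (GrLC.comp 𝒜 ℳ n) := by
  let g : Submodule (GrLC.deg0 𝒜) (GrLC.comp 𝒜 ℳ n) → Submodule R M := fun N =>
    Submodule.span R ((fun y : GrLC.comp 𝒜 ℳ n => (y : M)) '' (N : Set _))
  have hg : StrictMono g := by
    apply strictMono_of_le_iff_le
    intro N N'
    constructor
    · intro h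
      exact Submodule.span_mono (Set.image_mono h)
    · intro h x hx
      apply mem_of_mem_span_comp 𝒜 ℳ n N' x
      apply h
      exact Submodule.subset_span ⟨x, hx, rfl⟩
  exact hg.wellFoundedLT

end Artin

section Ring
lemma mem_of_forall_proj_mem (I : Ideal R) (x : R) (h : ∀ k, proj 𝒜 k x ∈ I) : x ∈ I := by
  classical
  rw [← DirectSum.sum_support_decompose 𝒜 x]
  exact Ideal.sum_mem _ (fun k _ => h k)

/-- for a positively graded ring, a *maximal homogeneous ideal is a maximal ideal -/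
theorem isMaximal_of_isCoatom (hpos : ∀ n : ℤ, n < 0 → 𝒜 n = ⊥) (m : HomogeneousIdeal 𝒜)
    (hm : IsCoatom m) : m.toIdeal.IsMaximal := by
  obtain ⟨hne, hmax⟩ := hm
  have hne' : m.toIdeal ≠ ⊤ := fun h => hne ((HomogeneousIdeal.eq_top_iff m).mpr h)
  have h1m : (1 : R) ∉ m.toIdeal := fun h => hne' ((Ideal.eq_top_iff_one _).mpr h)
  -- positive degree pieces lie in `m`
  have hposm : ∀ (k : ℤ), 0 < k → ∀ x ∈ 𝒜 k, x ∈ m.toIdeal := by
    intro k hk x hx
    by_contra hxm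
    let P : HomogeneousIdeal 𝒜 := ⟨Ideal.span {x}, Ideal.homogeneous_span 𝒜 {x} (by
      intro y hy
      rw [Set.mem_singleton_iff] at hy
      rw [hy]
      exact ⟨k, hx⟩)⟩
    have hlt : m < m ⊔ P := by
      refine lt_of_le_of_ne le_sup_left (fun h => hxm ?_)
      have : P ≤ m := h ▸ le_sup_right
      exact this (Ideal.subset_span (Set.mem_singleton x))
    have htop := hmax _ hlt
    have h1 : (1 : R) ∈ (m ⊔ P).toIdeal := by rw [htop]; trivial
    rw [HomogeneousIdeal.toIdeal_sup] at h1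
    obtain ⟨y, hy, z, hz, hyz⟩ := Submodule.mem_sup.mp h1
    obtain ⟨c, rfl⟩ := Ideal.mem_span_singleton'.mp hz
    have h0 : proj 𝒜 0 (y + c * x) = 1 := by
      rw [hyz]; exact proj_of_mem_same 𝒜 (SetLike.GradedOne.one_mem)
    rw [map_add] at h0
    have h2 : proj 𝒜 0 (c * x) = 0 := by
      have := proj_smul_of_mem_right' 𝒜 𝒜 hx c 0
      rw [smul_eq_mul] at this
      rw [this]
      have hc : (decompose 𝒜 c (0 - k) : R) ∈ (⊥ : AddSubgroup R) := by
        rw [← hpos (0 - k) (by omega)]; exact (decompose 𝒜 c (0 - k)).2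
      rw [AddSubgroup.mem_bot] at hc
      rw [hc, zero_smul]
    rw [h2, add_zero] at h0
    apply h1m
    rw [← h0]
    exact m.isHomogeneous 0 hy
  rw [Ideal.isMaximal_def]
  refine ⟨hne', fun I hI => ?_⟩
  obtain ⟨r, hrI, hrm⟩ := SetLike.exists_of_lt hI
  -- r - r₀ ∈ m
  have hdiff : r - proj 𝒜 0 r ∈ m.toIdeal := by
    apply mem_of_forall_proj_mem 𝒜
    intro k
    rw [map_sub]
    rcases lt_trichotomy k 0 with hk | rfl | hk
    · have h1 : proj 𝒜 k r = 0 := by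
        have := proj_mem 𝒜 k r
        rw [hpos k hk, AddSubgroup.mem_bot] at this
        exact this
      rw [h1, proj_of_mem_ne 𝒜 (proj_mem 𝒜 0 r) (by omega), sub_zero]
      exact zero_mem _
    · rw [proj_of_mem_same 𝒜 (proj_mem 𝒜 0 r), sub_self]
      exact zero_mem _
    · rw [proj_of_mem_ne 𝒜 (proj_mem 𝒜 0 r) (by omega), sub_zero]
      exact hposm k hk _ (proj_mem 𝒜 k r)
  have hr0m : proj 𝒜 0 r ∉ m.toIdeal := by
    intro h
    apply hrm
    have := add_mem hdiff h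
    rwa [sub_add_cancel] at this
  have hr0I : proj 𝒜 0 r ∈ I := by
    have := sub_mem hrI (hI.le hdiff)
    rwa [sub_sub_cancel] at this
  let P : HomogeneousIdeal 𝒜 := ⟨Ideal.span {proj 𝒜 0 r},
    Ideal.homogeneous_span 𝒜 {proj 𝒜 0 r} (by
      intro y hy
      rw [Set.mem_singleton_iff] at hy
      rw [hy]
      exact ⟨0, proj_mem 𝒜 0 r⟩)⟩
  have hlt : m < m ⊔ P := by
    refine lt_of_le_of_ne le_sup_left (fun h => hr0m ?_)
    have : P ≤ m := h ▸ le_sup_right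
    exact this (Ideal.subset_span (Set.mem_singleton _))
  have htop := hmax _ hlt
  have h1 : (1 : R) ∈ (m ⊔ P).toIdeal := by rw [htop]; trivial
  rw [HomogeneousIdeal.toIdeal_sup] at h1
  have hle : m.toIdeal ⊔ P.toIdeal ≤ I := by
    refine sup_le hI.le ?_
    change Ideal.span {proj 𝒜 0 r} ≤ I
    rw [Ideal.span_le]
    intro y hy
    rw [Set.mem_singleton_iff] at hy
    rw [hy]
    exact hr0I
  exact (Ideal.eq_top_iff_one _).mpr (hle h1)


end Ring

end Pos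

end Groth.Agent.Helper9.GrLCLib
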