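import Mathlib
import Groth.Prelude.Def_GrLC
import Groth.Agent.Lib.Helper9.GrLC.Basic
import Groth.Agent.Lib.Helper9.GrLC.Pull
import Groth.Agent.Lib.Helper9.GrLC.Push
import Groth.Agent.Lib.Helper9.GrLC.Ess

set_option autoImplicit false
set_option linter.unusedSectionVars false
universe u
open DirectSum

namespace Groth.Agent.Helper9.GrLCLib
namespace Dev

variable {R : Type u} [CommRing R] (𝒜 : ℤ → AddSubgroup R) [GradedRing 𝒜]

/-- the annihilator of a homogeneous element is a homogeneous ideal -/
lemma torsionOf_isHomogeneous (X : GrLC.GMod.{u} 𝒜) {e : ℤ} {m : X.carrier} (hm : m ∈ X.gr e) :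
    (Ideal.torsionOf R X.carrier m).IsHomogeneous 𝒜 := by
  intro k r hr
  rw [Ideal.mem_torsionOf_iff] at hr ⊢
  have h := proj_smul_of_mem_right 𝒜 X.gr hm r k
  rw [hr, map_zero] at h
  exact h.symm

/-- a nonzero graded module over a Noetherian graded ring contains a nonzero homogeneous element
with prime annihilator -/
theorem exists_homog_prime_torsionOf [IsNoetherianRing R] (X : GrLC.GMod.{u} 𝒜)
    [Nontrivial X.carrier] :
    ∃ (e : ℤ) (m : X.carrier), m ∈ X.gr e ∧ m ≠ 0 ∧
      (Ideal.torsionOf R X.carrier m).IsPrime := by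
  let S : Set (Ideal R) := {I | ∃ (e : ℤ) (m : X.carrier), m ∈ X.gr e ∧ m ≠ 0 ∧
    I = Ideal.torsionOf R X.carrier m}
  have hne : S.Nonempty := by
    obtain ⟨k, x, _, hxk, hx0⟩ := exists_homog_mem_ne_zero (R := R) X.gr
      (top_isHomogeneous X.gr) (top_ne_bot)
    exact ⟨_, k, x, hxk, hx0, rfl⟩
  obtain ⟨I, ⟨e, m, hm, hm0, rfl⟩, hmax⟩ := set_has_maximal_iff_noetherian.mpr
    (inferInstance : IsNoetherian R R) S hne
  refine ⟨e, m, hm, hm0, ?_⟩
  apply Ideal.IsHomogeneous.isPrime_of_homogeneous_mem_or_mem (𝒜 := 𝒜)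
    (torsionOf_isHomogeneous 𝒜 X hm)
  · intro htop
    have : (1 : R) ∈ Ideal.torsionOf R X.carrier m := by rw [htop]; exact Submodule.mem_top
    rw [Ideal.mem_torsionOf_iff, one_smul] at this
    exact hm0 this
  · rintro x y ⟨dx, hx⟩ ⟨dy, hy⟩ hxy
    by_cases hy0 : y ∈ Ideal.torsionOf R X.carrier m
    · exact Or.inr hy0
    left
    rw [Ideal.mem_torsionOf_iff] at hy0 hxy
    have hle : Ideal.torsionOf R X.carrier m ≤ Ideal.torsionOf R X.carrier (y • m) := by
      intro r hr
      rw [Ideal.mem_torsionOf_iff] at hr ⊢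
      rw [smul_comm, hr, smul_zero]
    have hmem : Ideal.torsionOf R X.carrier (y • m) ∈ S :=
      ⟨dy + e, y • m, smul_mem_add 𝒜 X.gr hy hm, hy0, rfl⟩
    have hnlt := hmax _ hmem
    have heq : Ideal.torsionOf R X.carrier m = Ideal.torsionOf R X.carrier (y • m) := by
      by_contra hcon
      exact hnlt (lt_of_le_of_ne hle hcon)
    rw [heq, Ideal.mem_torsionOf_iff, smul_smul]
    exact hxy

/-- **dévissage** for finitely generated graded modules over a Noetherian ℤ-graded ring: a property that holds
for the zero module, is closed under graded extensions and holds for the cyclic modules generated by a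
homogeneous element with prime annihilator holds for all finitely generated graded modules. -/
theorem devissage [IsNoetherianRing R] (P : GrLC.GMod.{u} 𝒜 → Prop)
    (H0 : ∀ X : GrLC.GMod.{u} 𝒜, Subsingleton X.carrier → P X)
    (H1 : ∀ (X₁ X₂ X₃ : GrLC.GMod.{u} 𝒜) (j : X₁.carrier →ₗ[R] X₂.carrier)
      (p : X₂.carrier →ₗ[R] X₃.carrier), GrLC.IsGrHom X₁.gr X₂.gr j →
      GrLC.IsGrHom X₂.gr X₃.gr p →
      Function.Injective j → Function.Surjective p → LinearMap.ker p = LinearMap.range j →
      P X₁ → P X₃ → P X₂)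
    (H2 : ∀ (X : GrLC.GMod.{u} 𝒜) (e : ℤ) (m : X.carrier), m ∈ X.gr e →
      Submodule.span R {m} = ⊤ → (Ideal.torsionOf R X.carrier m).IsPrime → P X)
    (X : GrLC.GMod.{u} 𝒜) [Module.Finite R X.carrier] : P X := by
  have : IsNoetherian R X.carrier := isNoetherian_of_isNoetherianRing_of_finite R X.carrier
  have key : ∀ K : Submodule R X.carrier, ∀ (Y : GrLC.GMod.{u} 𝒜)
      (f : X.carrier →ₗ[R] Y.carrier),
      GrLC.IsGrHom X.gr Y.gr f → Function.Surjective f → LinearMap.ker f = K → P Y := by
    intro K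
    induction K using WellFoundedGT.induction with
    | _ K ih =>
    intro Y f hfg hfs hker
    by_cases hY : Subsingleton Y.carrier
    · exact H0 Y hY
    rw [not_subsingleton_iff_nontrivial] at hY
    obtain ⟨e, m, hm, hm0, hprime⟩ := exists_homog_prime_torsionOf 𝒜 Y
    let N' : Submodule R Y.carrier := Submodule.span R {m}
    have hN' : N'.IsHomogeneous Y.gr := span_singleton_isHomogeneous 𝒜 Y.gr hm
    have hP1 : P (subGMod Y N' hN') := by
      let m' : (subGMod Y N' hN').carrier := ⟨m, Submodule.mem_span_singleton_self m⟩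
      apply H2 (subGMod Y N' hN') e m'
      · exact (mem_subGMod_gr Y N' hN' e m').mpr hm
      · rw [eq_top_iff]
        rintro ⟨y, hy⟩ _
        obtain ⟨r, rfl⟩ := Submodule.mem_span_singleton.mp hy
        exact Submodule.mem_span_singleton.mpr ⟨r, Subtype.ext rfl⟩
      · have : Ideal.torsionOf R (subGMod Y N' hN').carrier m' = Ideal.torsionOf R Y.carrier m := by
          ext r
          rw [Ideal.mem_torsionOf_iff, Ideal.mem_torsionOf_iff]
          constructor
          · intro h; exact congrArg Subtype.val h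
          · intro h; exact Subtype.ext h
        rw [this]; exact hprime
    have hP3 : P (quotGMod Y N' hN') := by
      apply ih (LinearMap.ker (quotMap Y N' hN' ∘ₗ f)) ?_ (quotGMod Y N' hN')
        (quotMap Y N' hN' ∘ₗ f) ?_ ?_ rfl
      · rw [← hker]
        refine lt_of_le_of_ne (fun x hx => ?_) ?_
        · rw [LinearMap.mem_ker] at hx ⊢; rw [LinearMap.comp_apply, hx, map_zero]
        · intro heq
          obtain ⟨x, rfl⟩ := hfs m
          have : x ∈ LinearMap.ker (quotMap Y N' hN' ∘ₗ f) := by
            rw [LinearMap.mem_ker, LinearMap.comp_apply, quotMap_eq_zero_iff]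
            exact Submodule.mem_span_singleton_self _
          rw [← heq, LinearMap.mem_ker] at this
          exact hm0 this
      · intro k x hx; exact isGrHom_quotMap Y N' hN' k _ (hfg k x hx)
      · exact (quotMap_surjective Y N' hN').comp hfs
    exact H1 (subGMod Y N' hN') Y (quotGMod Y N' hN') (subMap Y N' hN') (quotMap Y N' hN')
      (isGrHom_subMap Y N' hN') (isGrHom_quotMap Y N' hN')
      (subMap_injective Y N' hN') (quotMap_surjective Y N' hN')
      (by rw [ker_quotMap, range_subMap]) hP1 hP3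
  exact key ⊥ X LinearMap.id (fun _ _ h => h) Function.surjective_id LinearMap.ker_id

end Dev
end Groth.Agent.Helper9.GrLCLib
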