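import Mathlib
import Groth.Prelude.Def_GrLC
import Groth.Prelude.Def_Wider
import Groth.Agent.Lib.Helper9.GrLC.GrH2
import Groth.Agent.Lib.Helper9.GrLC.Dev
import Groth.Agent.Lib.Helper9.GrLC.Pos

set_option autoImplicit false
set_option linter.unusedSectionVars false
universe u
open CategoryTheory DirectSum

namespace Groth.Agent.Helper9.GrLCLib
namespace Van

open Groth.Agent.Helper8.LC

variable {ι : Type} [AddCommGroup ι] [DecidableEq ι] [Module.Free ℤ ι] [Module.Finite ℤ ι]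
variable {R : Type u} [CommRing R] [IsNoetherianRing R] (𝒜 : ι → AddSubgroup R) [GradedRing 𝒜]

section Gen

variable {M N : Type u} [AddCommGroup M] [Module R M] [AddCommGroup N] [Module R N]
  (ℳ : ι → AddSubgroup M) [DirectSum.Decomposition ℳ] [SetLike.GradedSMul 𝒜 ℳ]
  (𝒩 : ι → AddSubgroup N) [DirectSum.Decomposition 𝒩] [SetLike.GradedSMul 𝒜 𝒩]

/-- a homogeneous element in the image of a graded map of degree `t` has a homogeneous preimage -/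
lemma exists_homog_preimage {f : M →ₗ[R] N} {t : ι} (hf : GrLC.IsGrHomDeg ℳ 𝒩 f t) {g : ι}
    {v : N} (hv : v ∈ 𝒩 (g + t)) (w : M) (hw : f w = v) : ∃ w' ∈ ℳ g, f w' = v := by
  refine ⟨proj ℳ g w, proj_mem ℳ g w, ?_⟩
  rw [← proj_map_of_isGrHomDeg ℳ 𝒩 hf w g, hw]
  exact proj_of_mem_same 𝒩 hv

/-- degree-preserving maps preserve the pieces of local cohomology -/
lemma LCgr_map_zero (J : Ideal R) (i : ℕ) (g : ι) (f : M →ₗ[R] N) (hf : GrLC.IsGrHom ℳ 𝒩 f)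
    (x : LocCoh.H J i M) (hx : x ∈ LCgr 𝒜 ℳ J i g) :
    ((localCohomology J i).map (ModuleCat.ofHom f)) x ∈ LCgr 𝒜 𝒩 J i g := by
  have h := LCgr_map 𝒜 ℳ 𝒩 J i g 0 f ((isGrHomDeg_zero_iff ℳ 𝒩).mpr hf) x hx
  rwa [add_zero] at h

/-- the pieces of `H^0` -/
lemma mem_LCgr_zero (J : Ideal R) (g : ι) (v : LocCoh.H J 0 M) :
    v ∈ LCgr 𝒜 ℳ J 0 g ↔ ev0 J (ModuleCat.of R M) v ∈ ℳ g :=
  URes.mem_GrH1_zero J (ofStar 𝒜 ℳ (Groth.Agent.S13215.Aux.res 𝒜 ℳ)) (ℳ g)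
    (fun k => ((Groth.Agent.S13215.Aux.res 𝒜 ℳ).X k).gr g) v

/-- multiplication by a homogeneous element of degree `d` shifts the pieces of local cohomology -/
lemma smul_mem_LCgr (J : Ideal R) (i : ℕ) (g d : ι) {r : R} (hr : r ∈ 𝒜 d)
    (x : LocCoh.H J i M) (hx : x ∈ LCgr 𝒜 ℳ J i g) : r • x ∈ LCgr 𝒜 ℳ J i (g + d) := by
  have hf : GrLC.IsGrHomDeg ℳ ℳ (r • (LinearMap.id : M →ₗ[R] M)) d := by
    intro k m hm
    have := smul_mem_add 𝒜 ℳ hr hm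
    rw [add_comm] at this
    exact this
  have h := LCgr_map 𝒜 ℳ ℳ J i g d _ hf x hx
  have h2 : ModuleCat.ofHom (r • (LinearMap.id : M →ₗ[R] M)) = r • 𝟙 (ModuleCat.of R M) := rfl
  rw [h2, map_smul_id] at h
  exact h

end Gen

section Shift

/-- the identity map into the shifted module -/
noncomputable def shiftIn (X : GrLC.GMod.{u} 𝒜) (d : ι) : X.carrier →ₗ[R] (shiftGMod X d).carrier :=
  (LinearMap.id : X.carrier →ₗ[R] X.carrier)

/-- the identity map out of the shifted module -/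
noncomputable def shiftOut (X : GrLC.GMod.{u} 𝒜) (d : ι) : (shiftGMod X d).carrier →ₗ[R] X.carrier :=
  (LinearMap.id : X.carrier →ₗ[R] X.carrier)

lemma isGrHomDeg_shiftIn (X : GrLC.GMod.{u} 𝒜) (d : ι) :
    GrLC.IsGrHomDeg X.gr (shiftGMod X d).gr (shiftIn 𝒜 X d) d := by
  intro k m hm
  apply (mem_shiftGMod_gr X d (k + d) m).mpr
  rw [add_sub_cancel_right]
  exact hm

lemma isGrHomDeg_shiftOut (X : GrLC.GMod.{u} 𝒜) (d : ι) :
    GrLC.IsGrHomDeg (shiftGMod X d).gr X.gr (shiftOut 𝒜 X d) (-d) := by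
  intro k m hm
  have := (mem_shiftGMod_gr X d k m).mp hm
  rw [← sub_eq_add_neg]
  exact this

lemma map_shiftOut (X : GrLC.GMod.{u} 𝒜) (d : ι) (J : Ideal R) (i : ℕ)
    (x : LocCoh.H J i (shiftGMod X d).carrier) :
    ((localCohomology J i).map (ModuleCat.ofHom (shiftOut 𝒜 X d))) x = x :=
  map_id_apply J i x

lemma map_shiftIn (X : GrLC.GMod.{u} 𝒜) (d : ι) (J : Ideal R) (i : ℕ)
    (x : LocCoh.H J i X.carrier) :
    ((localCohomology J i).map (ModuleCat.ofHom (shiftIn 𝒜 X d))) x = x :=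
  map_id_apply J i x

/-- the pieces of the local cohomology of a shifted module -/
lemma mem_LCgr_shift (X : GrLC.GMod.{u} 𝒜) (d : ι) (J : Ideal R) (i : ℕ) (g : ι)
    (x : LocCoh.H J i (shiftGMod X d).carrier) :
    x ∈ LCgr 𝒜 (shiftGMod X d).gr J i g ↔ (x : LocCoh.H J i X.carrier) ∈ LCgr 𝒜 X.gr J i (g - d) := by
  constructor
  · intro hx
    have h := LCgr_map 𝒜 (shiftGMod X d).gr X.gr J i g (-d) _ (isGrHomDeg_shiftOut 𝒜 X d) x hx
    rw [map_shiftOut 𝒜 X d J i x, ← sub_eq_add_neg] at h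
    exact h
  · intro hx
    have h := LCgr_map 𝒜 X.gr (shiftGMod X d).gr J i (g - d) d _ (isGrHomDeg_shiftIn 𝒜 X d) x hx
    rw [map_shiftIn 𝒜 X d J i x, sub_add_cancel] at h
    exact h

end Shift

section Exact

variable {M₁ M₂ M₃ : Type u} [AddCommGroup M₁] [Module R M₁] [AddCommGroup M₂] [Module R M₂]
  [AddCommGroup M₃] [Module R M₃]
  (ℳ₁ : ι → AddSubgroup M₁) [DirectSum.Decomposition ℳ₁] [SetLike.GradedSMul 𝒜 ℳ₁]
  (ℳ₂ : ι → AddSubgroup M₂) [DirectSum.Decomposition ℳ₂] [SetLike.GradedSMul 𝒜 ℳ₂]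
  (ℳ₃ : ι → AddSubgroup M₃) [DirectSum.Decomposition ℳ₃] [SetLike.GradedSMul 𝒜 ℳ₃]
  (j : M₁ →ₗ[R] M₂) (p : M₂ →ₗ[R] M₃)

/-- a homogeneous class of `H^i(M₂)` in the image of `H^i(M₁)` comes from a homogeneous class of the same degree
(for a map of degree `t`) -/
lemma exists_LCgr_preimage_map (a : HomogeneousIdeal 𝒜) (i : ℕ) (g t : ι)
    (hjg : GrLC.IsGrHomDeg ℳ₁ ℳ₂ j t)
    (v : LocCoh.H a.toIdeal i M₂) (hv : v ∈ LCgr 𝒜 ℳ₂ a.toIdeal i (g + t))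
    (w : LocCoh.H a.toIdeal i M₁)
    (hw : ((localCohomology a.toIdeal i).map (ModuleCat.ofHom j)) w = v) :
    ∃ w' ∈ LCgr 𝒜 ℳ₁ a.toIdeal i g,
      ((localCohomology a.toIdeal i).map (ModuleCat.ofHom j)) w' = v := by
  let A := LCGMod 𝒜 ℳ₁ a i
  let B := LCGMod 𝒜 ℳ₂ a i
  let f : A.carrier →ₗ[R] B.carrier := ((localCohomology a.toIdeal i).map (ModuleCat.ofHom j)).hom
  have hf : GrLC.IsGrHomDeg A.gr B.gr f t := by
    intro k x hx
    apply (mem_LCGMod_gr 𝒜 ℳ₂ a i (k + t) _).mpr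
    exact LCgr_map 𝒜 ℳ₁ ℳ₂ a.toIdeal i k t j hjg x ((mem_LCGMod_gr 𝒜 ℳ₁ a i k x).mp hx)
  obtain ⟨w', hw', hfw'⟩ := exists_homog_preimage A.gr B.gr hf
    ((mem_LCGMod_gr 𝒜 ℳ₂ a i (g + t) v).mpr hv) w hw
  exact ⟨w', (mem_LCGMod_gr 𝒜 ℳ₁ a i g w').mp hw', hfw'⟩

variable (h : p ∘ₗ j = 0) (hS : (sesOf j p h).ShortExact)
  (hjg : GrLC.IsGrHom ℳ₁ ℳ₂ j) (hpg : GrLC.IsGrHom ℳ₂ ℳ₃ p)

include hS hjg in
/-- graded exactness at `H^i(M₂)` -/
theorem exists_LCgr_of_map_g_eq_zero (a : HomogeneousIdeal 𝒜) (i : ℕ) (g : ι)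
    (v : LocCoh.H a.toIdeal i M₂) (hv : v ∈ LCgr 𝒜 ℳ₂ a.toIdeal i g)
    (h0 : ((localCohomology a.toIdeal i).map (ModuleCat.ofHom p)) v = 0) :
    ∃ w ∈ LCgr 𝒜 ℳ₁ a.toIdeal i g,
      ((localCohomology a.toIdeal i).map (ModuleCat.ofHom j)) w = v := by
  obtain ⟨w, hw⟩ := (exact_f_g a.toIdeal i hS v).mp h0
  have hv' : v ∈ LCgr 𝒜 ℳ₂ a.toIdeal i (g + 0) := by rw [add_zero]; exact hv
  exact exists_LCgr_preimage_map 𝒜 ℳ₁ ℳ₂ j a i g 0 ((isGrHomDeg_zero_iff ℳ₁ ℳ₂).mpr hjg) v hv' w hw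

include hjg hpg in
/-- graded exactness at `H^{i+1}(M₁)` -/
theorem exists_LCgr_of_map_f_eq_zero (a : HomogeneousIdeal 𝒜) (i : ℕ) (g : ι)
    (v : LocCoh.H a.toIdeal (i + 1) M₁) (hv : v ∈ LCgr 𝒜 ℳ₁ a.toIdeal (i + 1) g)
    (h0 : ((localCohomology a.toIdeal (i + 1)).map (ModuleCat.ofHom j)) v = 0) :
    ∃ w ∈ LCgr 𝒜 ℳ₃ a.toIdeal i g, δ a.toIdeal i hS w = v := by
  obtain ⟨w, hw⟩ := (exact_δ_f a.toIdeal i hS v).mp h0
  let A := LCGMod 𝒜 ℳ₃ a i
  let B := LCGMod 𝒜 ℳ₁ a (i + 1)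
  let f : A.carrier →ₗ[R] B.carrier := δ a.toIdeal i hS
  have hf : GrLC.IsGrHomDeg A.gr B.gr f 0 := by
    intro k x hx
    apply (mem_LCGMod_gr 𝒜 ℳ₁ a (i + 1) (k + 0) _).mpr
    rw [add_zero]
    exact LCgr_δ 𝒜 ℳ₁ ℳ₂ ℳ₃ j p h hS hjg hpg a.toIdeal i k x
      ((mem_LCGMod_gr 𝒜 ℳ₃ a i k x).mp hx)
  have hv' : v ∈ B.gr (g + 0) := by
    rw [add_zero]; exact (mem_LCGMod_gr 𝒜 ℳ₁ a (i + 1) g v).mpr hv
  obtain ⟨w', hw', hfw'⟩ := exists_homog_preimage A.gr B.gr hf hv' w hw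
  exact ⟨w', (mem_LCGMod_gr 𝒜 ℳ₃ a i g w').mp hw', hfw'⟩

include hpg in
/-- graded exactness at `H^i(M₃)` -/
theorem exists_LCgr_of_δ_eq_zero (a : HomogeneousIdeal 𝒜) (i : ℕ) (g : ι)
    (v : LocCoh.H a.toIdeal i M₃) (hv : v ∈ LCgr 𝒜 ℳ₃ a.toIdeal i g)
    (h0 : δ a.toIdeal i hS v = 0) :
    ∃ w ∈ LCgr 𝒜 ℳ₂ a.toIdeal i g,
      ((localCohomology a.toIdeal i).map (ModuleCat.ofHom p)) w = v := by
  obtain ⟨w, hw⟩ := (exact_g_δ a.toIdeal i hS v).mp h0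
  have hv' : v ∈ LCgr 𝒜 ℳ₃ a.toIdeal i (g + 0) := by rw [add_zero]; exact hv
  exact exists_LCgr_preimage_map 𝒜 ℳ₂ ℳ₃ p a i g 0 ((isGrHomDeg_zero_iff ℳ₂ ℳ₃).mpr hpg) v hv' w hw

end Exact

section Regular

variable (X : GrLC.GMod.{u} 𝒜) (d : ι) (x : R)

/-- multiplication by `x` as a map `X(-d) → X` -/
noncomputable def mulMap : (shiftGMod X d).carrier →ₗ[R] X.carrier := x • shiftOut 𝒜 X d

lemma mulMap_apply (m : X.carrier) : mulMap 𝒜 X d x m = x • m := rfl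

lemma isGrHom_mulMap (hx : x ∈ 𝒜 d) :
    GrLC.IsGrHom (shiftGMod X d).gr X.gr (mulMap 𝒜 X d x) := by
  intro k m hm
  have h1 := (mem_shiftGMod_gr X d k m).mp hm
  have := smul_mem_add 𝒜 X.gr hx h1
  rw [add_sub_cancel] at this
  exact this

lemma map_mulMap (J : Ideal R) (i : ℕ) (v : LocCoh.H J i X.carrier) :
    ((localCohomology J i).map (ModuleCat.ofHom (mulMap 𝒜 X d x))) v = x • v :=
  map_smul_id J i (ModuleCat.of R X.carrier) x v

/-- the quotient `X / xX` as a graded module -/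
noncomputable def Qx (hx : x ∈ 𝒜 d) : GrLC.GMod.{u} 𝒜 :=
  quotGMod X (LinearMap.range (mulMap 𝒜 X d x))
    (range_isHomogeneous (shiftGMod X d).gr X.gr (isGrHom_mulMap 𝒜 X d x hx))

/-- the projection `X → X / xX` -/
noncomputable def qxMap (hx : x ∈ 𝒜 d) : X.carrier →ₗ[R] (Qx 𝒜 X d x hx).carrier :=
  quotMap X (LinearMap.range (mulMap 𝒜 X d x))
    (range_isHomogeneous (shiftGMod X d).gr X.gr (isGrHom_mulMap 𝒜 X d x hx))

lemma isGrHom_qxMap (hx : x ∈ 𝒜 d) :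
    GrLC.IsGrHom X.gr (Qx 𝒜 X d x hx).gr (qxMap 𝒜 X d x hx) :=
  isGrHom_quotMap X _ _

lemma qxMap_surjective (hx : x ∈ 𝒜 d) : Function.Surjective (qxMap 𝒜 X d x hx) :=
  quotMap_surjective X _ _

lemma ker_qxMap (hx : x ∈ 𝒜 d) :
    LinearMap.ker (qxMap 𝒜 X d x hx) = LinearMap.range (mulMap 𝒜 X d x) :=
  ker_quotMap X _ _

lemma qxMap_comp_mulMap (hx : x ∈ 𝒜 d) : qxMap 𝒜 X d x hx ∘ₗ mulMap 𝒜 X d x = 0 := by
  apply LinearMap.ext
  intro m
  have : mulMap 𝒜 X d x m ∈ LinearMap.ker (qxMap 𝒜 X d x hx) := by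
    rw [ker_qxMap]; exact ⟨m, rfl⟩
  exact this

lemma mulSES_shortExact (hx : x ∈ 𝒜 d) (hreg : Function.Injective (mulMap 𝒜 X d x)) :
    (sesOf (mulMap 𝒜 X d x) (qxMap 𝒜 X d x hx) (qxMap_comp_mulMap 𝒜 X d x hx)).ShortExact :=
  sesOf_shortExact _ _ _ hreg (qxMap_surjective 𝒜 X d x hx) (ker_qxMap 𝒜 X d x hx)

/-- the connecting map `H^i(X/xX)_g → H^{i+1}(X)_{g-d}` -/
lemma δ_mem_LCgr (hx : x ∈ 𝒜 d) (hreg : Function.Injective (mulMap 𝒜 X d x))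
    (a : HomogeneousIdeal 𝒜) (i : ℕ) (g : ι)
    (w : LocCoh.H a.toIdeal i (Qx 𝒜 X d x hx).carrier)
    (hw : w ∈ LCgr 𝒜 (Qx 𝒜 X d x hx).gr a.toIdeal i g) :
    (δ a.toIdeal i (mulSES_shortExact 𝒜 X d x hx hreg) w : LocCoh.H a.toIdeal (i + 1) X.carrier) ∈
      LCgr 𝒜 X.gr a.toIdeal (i + 1) (g - d) := by
  have h1 := LCgr_δ 𝒜 (shiftGMod X d).gr X.gr (Qx 𝒜 X d x hx).gr (mulMap 𝒜 X d x)
    (qxMap 𝒜 X d x hx) (qxMap_comp_mulMap 𝒜 X d x hx) (mulSES_shortExact 𝒜 X d x hx hreg)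
    (isGrHom_mulMap 𝒜 X d x hx) (isGrHom_qxMap 𝒜 X d x hx) a.toIdeal i g w hw
  exact (mem_LCgr_shift 𝒜 X d a.toIdeal (i + 1) g _).mp h1

/-- a homogeneous class of `H^{i+1}(X)` killed by the regular element `x` comes from `H^i(X/xX)` -/
theorem exists_δ_of_smul_eq_zero (hx : x ∈ 𝒜 d) (hreg : Function.Injective (mulMap 𝒜 X d x))
    (a : HomogeneousIdeal 𝒜) (i : ℕ) (g : ι)
    (v : LocCoh.H a.toIdeal (i + 1) X.carrier) (hv : v ∈ LCgr 𝒜 X.gr a.toIdeal (i + 1) g)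
    (h0 : x • v = 0) :
    ∃ w ∈ LCgr 𝒜 (Qx 𝒜 X d x hx).gr a.toIdeal i (g + d),
      δ a.toIdeal i (mulSES_shortExact 𝒜 X d x hx hreg) w = v := by
  have hv' : (v : LocCoh.H a.toIdeal (i + 1) (shiftGMod X d).carrier) ∈
      LCgr 𝒜 (shiftGMod X d).gr a.toIdeal (i + 1) (g + d) := by
    apply (mem_LCgr_shift 𝒜 X d a.toIdeal (i + 1) (g + d) v).mpr
    rw [add_sub_cancel_right]
    exact hv
  exact exists_LCgr_of_map_f_eq_zero 𝒜 (shiftGMod X d).gr X.gr (Qx 𝒜 X d x hx).gr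
    (mulMap 𝒜 X d x) (qxMap 𝒜 X d x hx) (qxMap_comp_mulMap 𝒜 X d x hx)
    (mulSES_shortExact 𝒜 X d x hx hreg) (isGrHom_mulMap 𝒜 X d x hx)
    (isGrHom_qxMap 𝒜 X d x hx) a i (g + d) v hv'
    ((map_mulMap 𝒜 X d x a.toIdeal (i + 1) v).trans h0)

end Regular

end Van

namespace VanZ

open Groth.Agent.Helper8.LC Van

variable {R : Type u} [CommRing R] [IsNoetherianRing R] (𝒜 : ℤ → AddSubgroup R) [GradedRing 𝒜]

/-- vanishing in high degrees passes from `X/xX` (in cohomological degree `i`) to `X`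
(in cohomological degree `i+1`), for a homogeneous regular element of positive degree in `a` -/
theorem vanish_of_regular (X : GrLC.GMod.{u} 𝒜) (d : ℤ) (x : R) (hx : x ∈ 𝒜 d) (hd : 0 ≤ d)
    (hreg : Function.Injective (mulMap 𝒜 X d x)) (a : HomogeneousIdeal 𝒜) (hxa : x ∈ a.toIdeal)
    (i : ℕ) (s : ℤ)
    (hQ : ∀ n, s ≤ n → LCgr 𝒜 (Qx 𝒜 X d x hx).gr a.toIdeal i n = ⊥) :
    ∀ n, s - d ≤ n → LCgr 𝒜 X.gr a.toIdeal (i + 1) n = ⊥ := by
  have star : ∀ n, s - d ≤ n → ∀ v : LocCoh.H a.toIdeal (i + 1) X.carrier,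
      v ∈ LCgr 𝒜 X.gr a.toIdeal (i + 1) n → x • v = 0 → v = 0 := by
    intro n hn v hv h0
    obtain ⟨w, hw, rfl⟩ := exists_δ_of_smul_eq_zero 𝒜 X d x hx hreg a i n v hv h0
    have h1 := hQ (n + d) (by omega)
    rw [h1] at hw
    have : w = 0 := AddSubgroup.mem_bot.mp hw
    rw [this]
    exact map_zero _
  have main : ∀ k : ℕ, ∀ n, s - d ≤ n → ∀ v : LocCoh.H a.toIdeal (i + 1) X.carrier,
      v ∈ LCgr 𝒜 X.gr a.toIdeal (i + 1) n → x ^ k • v = 0 → v = 0 := by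
    intro k
    induction k with
    | zero => intro n _ v _ h0; simpa using h0
    | succ k ih =>
      intro n hn v hv h0
      have h1 : x ^ k • (x • v) = 0 := by rw [smul_smul, ← pow_succ]; exact h0
      have h2 := ih (n + d) (by omega) (x • v) (smul_mem_LCgr 𝒜 X.gr a.toIdeal (i + 1) n d hx v hv) h1
      exact star n hn v hv h2
  intro n hn
  rw [eq_bot_iff]
  intro v hv
  obtain ⟨k, hk⟩ := isPowerTorsion a.toIdeal (i + 1) (ModuleCat.of R X.carrier) v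
  exact AddSubgroup.mem_bot.mpr (main k n hn v hv (hk _ (Ideal.pow_mem_pow hxa k)))

section Zero

variable (hpos : ∀ n : ℤ, n < 0 → 𝒜 n = ⊥)

omit [IsNoetherianRing R] in
/-- the degree-`n` component of a linear combination of homogeneous elements -/
lemma proj_sum_smul {M : Type u} [AddCommGroup M] [Module R M] (ℳ : ℤ → AddSubgroup M)
    [DirectSum.Decomposition ℳ] [SetLike.GradedSMul 𝒜 ℳ] (S : Finset M) (deg : M → ℤ)
    (hdeg : ∀ t ∈ S, t ∈ ℳ (deg t)) (c : M → R) (n : ℤ) :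
    proj ℳ n (∑ t ∈ S, c t • t) = ∑ t ∈ S, (decompose 𝒜 (c t) (n - deg t) : R) • t := by
  rw [map_sum]
  apply Finset.sum_congr rfl
  intro t ht
  exact proj_smul_of_mem_right' 𝒜 ℳ (hdeg t ht) (c t) n

/-- the pieces of large degree of a positively graded Noetherian ring lie in a given power of the
irrelevant ideal -/
theorem exists_piece_le_pow (J : Ideal R)
    (hJ : J = Ideal.span (⋃ n ∈ Set.Ioi (0 : ℤ), (𝒜 n : Set R))) (k : ℕ) :
    ∃ N : ℤ, ∀ n, N ≤ n → ∀ r ∈ 𝒜 n, r ∈ J ^ k := by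
  have hfg : (Submodule.span R (⋃ n ∈ Set.Ioi (0 : ℤ), (𝒜 n : Set R))).FG :=
    IsNoetherian.noetherian _
  obtain ⟨S', hS'sub, hS'span⟩ := (Submodule.fg_span_iff_fg_span_finset_subset _).mp hfg
  have hdegex : ∀ t : R, ∃ d : ℤ, t ∈ S' → 0 < d ∧ t ∈ 𝒜 d := by
    intro t
    by_cases ht : t ∈ S'
    · have := hS'sub ht
      simp only [Set.mem_iUnion, Set.mem_Ioi] at this
      obtain ⟨d, hd, htd⟩ := this
      exact ⟨d, fun _ => ⟨hd, htd⟩⟩
    · exact ⟨0, fun h => absurd h ht⟩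
  choose deg hdeg using hdegex
  obtain ⟨D, hD⟩ := Finset.exists_le (S'.image deg)
  have hS'J : ∀ t ∈ S', t ∈ J := by
    intro t ht
    rw [hJ]
    exact Ideal.subset_span (hS'sub ht)
  induction k with
  | zero => exact ⟨0, fun n _ r _ => by simp⟩
  | succ k ih =>
    obtain ⟨N, hN⟩ := ih
    refine ⟨max (N + D) 1, fun n hn r hr => ?_⟩
    have hn1 : N + D ≤ n := le_trans (le_max_left _ _) hn
    have hn2 : 1 ≤ n := le_trans (le_max_right _ _) hn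
    have hrJ : r ∈ Submodule.span R (S' : Set R) := by
      rw [← hS'span]
      apply Submodule.subset_span
      simp only [Set.mem_iUnion, Set.mem_Ioi]
      exact ⟨n, by omega, hr⟩
    obtain ⟨c, _, hc⟩ := Submodule.mem_span_finset.mp hrJ
    have h1 : proj 𝒜 n (∑ t ∈ S', c t • t) = r := by rw [hc]; exact proj_of_mem_same 𝒜 hr
    rw [proj_sum_smul 𝒜 𝒜 S' deg (fun t ht => (hdeg t ht).2) c n] at h1
    rw [← h1]
    refine Ideal.sum_mem _ (fun t ht => ?_)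
    rw [smul_eq_mul, pow_succ]
    apply Ideal.mul_mem_mul _ (hS'J t ht)
    apply hN (n - deg t) _ _ (decompose 𝒜 (c t) (n - deg t)).2
    have := hD (deg t) (Finset.mem_image_of_mem _ ht)
    omega

/-- `H^0_{R_+}(M)` of a finitely generated graded module vanishes in large degrees -/
theorem vanish_zero (a : HomogeneousIdeal 𝒜)
    (ha : a.toIdeal = Ideal.span (⋃ n ∈ Set.Ioi (0 : ℤ), (𝒜 n : Set R)))
    {M : Type u} [AddCommGroup M] [Module R M] [Module.Finite R M] (ℳ : ℤ → AddSubgroup M)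
    [DirectSum.Decomposition ℳ] [SetLike.GradedSMul 𝒜 ℳ] :
    ∃ s : ℤ, ∀ n, s ≤ n → LCgr 𝒜 ℳ a.toIdeal 0 n = ⊥ := by
  classical
  have : IsNoetherian R M := isNoetherian_of_isNoetherianRing_of_finite R M
  set J := a.toIdeal with hJdef
  let Sset : Set M := {y | y ∈ DRing.torsionSub J M ∧ ∃ g, y ∈ ℳ g}
  have hfg : (Submodule.span R Sset).FG := IsNoetherian.noetherian _
  obtain ⟨S', hS'sub, hS'span⟩ := (Submodule.fg_span_iff_fg_span_finset_subset _).mp hfg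
  have hex : ∀ t : M, ∃ (d : ℤ) (k : ℕ), t ∈ S' → t ∈ ℳ d ∧ ∀ r ∈ J ^ k, r • t = 0 := by
    intro t
    by_cases ht : t ∈ S'
    · obtain ⟨⟨k, hk⟩, d, hd⟩ := hS'sub ht
      exact ⟨d, k, fun _ => ⟨hd, hk⟩⟩
    · exact ⟨0, 0, fun h => absurd h ht⟩
  choose deg kf hdk using hex
  obtain ⟨E, hE⟩ := Finset.exists_le (S'.image deg)
  obtain ⟨N, hN⟩ := exists_piece_le_pow 𝒜 J ha (S'.sup kf)
  refine ⟨E + N, fun n hn => ?_⟩
  rw [eq_bot_iff]
  intro v hv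
  have hy : ev0 J (ModuleCat.of R M) v ∈ ℳ n := (mem_LCgr_zero 𝒜 ℳ J n v).mp hv
  have hyT := ev0_mem J (ModuleCat.of R M) v
  have hyS : ev0 J (ModuleCat.of R M) v ∈ Submodule.span R (S' : Set M) := by
    rw [← hS'span]
    exact Submodule.subset_span ⟨hyT, n, hy⟩
  obtain ⟨c, _, hc⟩ := Submodule.mem_span_finset.mp hyS
  have h1 : proj ℳ n (∑ t ∈ S', c t • t) = ev0 J (ModuleCat.of R M) v := by
    rw [hc]; exact proj_of_mem_same ℳ hy
  rw [proj_sum_smul 𝒜 ℳ S' deg (fun t ht => (hdk t ht).1) c n] at h1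
  have h2 : ev0 J (ModuleCat.of R M) v = 0 := by
    rw [← h1]
    apply Finset.sum_eq_zero
    intro t ht
    apply (hdk t ht).2
    apply Ideal.pow_le_pow_right (Finset.le_sup ht)
    apply hN (n - deg t) _ _ (decompose 𝒜 (c t) (n - deg t)).2
    have := hE (deg t) (Finset.mem_image_of_mem _ ht)
    omega
  have h3 : v = 0 := ev0_injective J (ModuleCat.of R M) (h2.trans (map_zero _).symm)
  exact AddSubgroup.mem_bot.mpr h3

end Zero

section Main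

/-- the vanishing predicate: `H^i_a(X)_n = 0` for `n ≫ 0` -/
def VanP (a : HomogeneousIdeal 𝒜) (i : ℕ) (X : GrLC.GMod.{u} 𝒜) : Prop :=
  ∃ s : ℤ, ∀ n, s ≤ n → LCgr 𝒜 X.gr a.toIdeal i n = ⊥

lemma LCgr_eq_bot_of_subsingleton {M : Type u} [AddCommGroup M] [Module R M]
    (ℳ : ℤ → AddSubgroup M) [DirectSum.Decomposition ℳ] [SetLike.GradedSMul 𝒜 ℳ]
    (J : Ideal R) (i : ℕ) (n : ℤ) (h : Subsingleton (LocCoh.H J i M)) :
    LCgr 𝒜 ℳ J i n = ⊥ := by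
  rw [eq_bot_iff]
  intro v _
  exact AddSubgroup.mem_bot.mpr (Subsingleton.elim _ _)

/-- the vanishing predicate is closed under graded extensions -/
lemma vanP_ext (a : HomogeneousIdeal 𝒜) (i : ℕ) (X₁ X₂ X₃ : GrLC.GMod.{u} 𝒜)
    (j : X₁.carrier →ₗ[R] X₂.carrier) (p : X₂.carrier →ₗ[R] X₃.carrier)
    (hjg : GrLC.IsGrHom X₁.gr X₂.gr j) (hpg : GrLC.IsGrHom X₂.gr X₃.gr p)
    (hj : Function.Injective j) (hp : Function.Surjective p)
    (hex : LinearMap.ker p = LinearMap.range j)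
    (h₁ : VanP 𝒜 a i X₁) (h₃ : VanP 𝒜 a i X₃) : VanP 𝒜 a i X₂ := by
  obtain ⟨s₁, h₁⟩ := h₁
  obtain ⟨s₃, h₃⟩ := h₃
  have h : p ∘ₗ j = 0 := by
    apply LinearMap.ext
    intro m
    have : j m ∈ LinearMap.ker p := by rw [hex]; exact ⟨m, rfl⟩
    exact this
  have hS := sesOf_shortExact j p h hj hp hex
  refine ⟨max s₁ s₃, fun n hn => ?_⟩
  rw [eq_bot_iff]
  intro v hv
  have hv3 := LCgr_map_zero 𝒜 X₂.gr X₃.gr a.toIdeal i n p hpg v hv
  rw [h₃ n (le_trans (le_max_right _ _) hn)] at hv3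
  obtain ⟨w, hw, rfl⟩ := exists_LCgr_of_map_g_eq_zero 𝒜 X₁.gr X₂.gr j p h hS hjg a i n v hv
    (AddSubgroup.mem_bot.mp hv3)
  rw [h₁ n (le_trans (le_max_left _ _) hn)] at hw
  rw [AddSubgroup.mem_bot.mp hw]
  exact AddSubgroup.mem_bot.mpr (map_zero _)

variable (hpos : ∀ n : ℤ, n < 0 → 𝒜 n = ⊥)

/-- **vanishing of graded local cohomology w.r.t. the irrelevant ideal in high degrees** -/
theorem vanP (a : HomogeneousIdeal 𝒜)
    (ha : a.toIdeal = Ideal.span (⋃ n ∈ Set.Ioi (0 : ℤ), (𝒜 n : Set R))) :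
    ∀ (i : ℕ) (X : GrLC.GMod.{u} 𝒜) [Module.Finite R X.carrier], VanP 𝒜 a i X := by
  intro i
  induction i with
  | zero => intro X _; exact vanish_zero 𝒜 a ha X.gr
  | succ i ih =>
    intro X _
    apply Dev.devissage 𝒜 (VanP 𝒜 a (i + 1))
    · intro Y hY
      have hsub : Subsingleton (LocCoh.H a.toIdeal (i + 1) Y.carrier) :=
        subsingleton_of_isPowerTorsion a.toIdeal (i + 1) (Nat.succ_pos i) Y.carrier
          (fun m => ⟨0, fun r _ => Subsingleton.elim _ _⟩)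
      exact ⟨0, fun n _ => LCgr_eq_bot_of_subsingleton 𝒜 Y.gr a.toIdeal (i + 1) n hsub⟩
    · intro X₁ X₂ X₃ j p hjg hpg hj hp hex h₁ h₃
      exact vanP_ext 𝒜 a (i + 1) X₁ X₂ X₃ j p hjg hpg hj hp hex h₁ h₃
    · intro Y e m hm hspan hprime
      have hgen : ∀ y : Y.carrier, ∃ c : R, c • m = y := by
        intro y
        have : y ∈ Submodule.span R {m} := by rw [hspan]; exact Submodule.mem_top
        exact Submodule.mem_span_singleton.mp this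
      by_cases hJp : a.toIdeal ≤ Ideal.torsionOf R Y.carrier m
      · have hsub : Subsingleton (LocCoh.H a.toIdeal (i + 1) Y.carrier) := by
          apply subsingleton_of_isPowerTorsion a.toIdeal (i + 1) (Nat.succ_pos i) Y.carrier
          intro y
          obtain ⟨c, rfl⟩ := hgen y
          refine ⟨1, fun r hr => ?_⟩
          rw [pow_one] at hr
          have := (Ideal.mem_torsionOf_iff m r).mp (hJp hr)
          rw [smul_comm, this, smul_zero]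
        exact ⟨0, fun n _ => LCgr_eq_bot_of_subsingleton 𝒜 Y.gr a.toIdeal (i + 1) n hsub⟩
      · have hex : ∃ (d : ℤ) (x : R), 0 < d ∧ x ∈ 𝒜 d ∧ x ∉ Ideal.torsionOf R Y.carrier m := by
          by_contra hcon
          apply hJp
          rw [ha, Ideal.span_le]
          intro x hx
          simp only [Set.mem_iUnion, Set.mem_Ioi] at hx
          obtain ⟨d, hd, hxd⟩ := hx
          by_contra hx'
          exact hcon ⟨d, x, hd, hxd, hx'⟩
        obtain ⟨d, x, hd, hx, hxp⟩ := hex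
        have hxa : x ∈ a.toIdeal := by
          rw [ha]
          apply Ideal.subset_span
          simp only [Set.mem_iUnion, Set.mem_Ioi]
          exact ⟨d, hd, hx⟩
        have hreg : Function.Injective (mulMap 𝒜 Y d x) := by
          rw [injective_iff_map_eq_zero]
          intro y hy
          obtain ⟨c, hc⟩ := hgen y
          have h1 : x • y = 0 := hy
          have h2 : x * c ∈ Ideal.torsionOf R Y.carrier m := by
            rw [Ideal.mem_torsionOf_iff, mul_smul, hc]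
            exact h1
          rcases hprime.mem_or_mem h2 with h3 | h3
          · exact absurd h3 hxp
          · rw [← hc]
            exact (Ideal.mem_torsionOf_iff m c).mp h3
        have : Module.Finite R (Qx 𝒜 Y d x hx).carrier := by
          have : Module.Finite R Y.carrier := ⟨⟨{m}, by simpa using hspan⟩⟩
          exact Module.Finite.of_surjective (qxMap 𝒜 Y d x hx) (qxMap_surjective 𝒜 Y d x hx)
        obtain ⟨s, hs⟩ := ih (Qx 𝒜 Y d x hx)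
        exact ⟨s - d, vanish_of_regular 𝒜 Y d x hx hd.le hreg a hxa i s hs⟩

end Main

end VanZ
end Groth.Agent.Helper9.GrLCLib
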