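import Mathlib
import Groth.Prelude.Def_GrLC
import Groth.Prelude.Def_Wider
import Groth.Agent.Lib.Helper9.GrLC.Van

/-!
# Weak regularity passes to the quotient by a quasi-regular linear form
-/

set_option autoImplicit false
set_option linter.unusedSectionVars false
universe u
open CategoryTheory DirectSum

namespace Groth.Agent.Helper9.GrLCLib
namespace Reg

open Groth.Agent.Helper8.LC

variable {R : Type u} [CommRing R] [IsNoetherianRing R] (𝒜 : ℤ → AddSubgroup R) [GradedRing 𝒜]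

section Tors

/-- a finitely generated Artinian graded module over a positively graded ring is killed by a power of the
irrelevant ideal -/
lemma isPowerTorsion_of_isArtinian (hpos : ∀ n : ℤ, n < 0 → 𝒜 n = ⊥)
    {M : Type u} [AddCommGroup M] [Module R M] (ℳ : ℤ → AddSubgroup M)
    [DirectSum.Decomposition ℳ] [SetLike.GradedSMul 𝒜 ℳ]
    [Module.Finite R M] [IsArtinian R M] (a : Ideal R)
    (ha : a = Ideal.span (⋃ n ∈ Set.Ioi (0 : ℤ), (𝒜 n : Set R))) :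
    LocCoh.IsPowerTorsion a M := by
  obtain ⟨N₀, hN₀⟩ := Pos.exists_gr_eq_bot_of_isArtinian 𝒜 ℳ hpos
  obtain ⟨k₀, hk₀⟩ := Pos.exists_top_le_geS 𝒜 ℳ hpos
  intro m
  refine ⟨(N₀ - k₀).toNat, fun r hr => ?_⟩
  have h1 : r • m ∈ a ^ (N₀ - k₀).toNat • Pos.geS 𝒜 ℳ hpos k₀ :=
    Submodule.smul_mem_smul hr (hk₀ Submodule.mem_top)
  have h2 := Pos.pow_smul_geS_le 𝒜 ℳ hpos a ha k₀ (N₀ - k₀).toNat h1
  have h3 : Pos.geS 𝒜 ℳ hpos (k₀ + ((N₀ - k₀).toNat : ℤ)) = ⊥ :=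
    Pos.geS_eq_bot 𝒜 ℳ hpos _ (fun n hn => hN₀ n (by omega))
  rw [h3] at h2
  exact (Submodule.mem_bot R).mp h2

end Tors

section Core

variable (X Y : GrLC.GMod.{u} 𝒜) (x : R) (hx : x ∈ 𝒜 1)

/-- the kernel of multiplication by `x` -/
def kerX : Submodule R X.carrier :=
  LinearMap.ker (x • (LinearMap.id : X.carrier →ₗ[R] X.carrier))

lemma mem_kerX (m : X.carrier) : m ∈ kerX 𝒜 X x ↔ x • m = 0 := Iff.rfl

include hx in
lemma kerX_isHomogeneous : (kerX 𝒜 X x).IsHomogeneous X.gr := by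
  intro n m hm
  rw [mem_kerX] at hm
  change x • proj X.gr n m = 0
  have h := proj_smul_of_mem 𝒜 X.gr hx m n
  rw [hm, map_zero] at h
  exact h.symm

/-- `ker (x •)` as a graded module -/
noncomputable def KX : GrLC.GMod.{u} 𝒜 := subGMod X (kerX 𝒜 X x) (kerX_isHomogeneous 𝒜 X x hx)

/-- `X / ker (x •)` as a graded module -/
noncomputable def XB : GrLC.GMod.{u} 𝒜 := quotGMod X (kerX 𝒜 X x) (kerX_isHomogeneous 𝒜 X x hx)

/-- the inclusion of the kernel -/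
noncomputable def incK : (KX 𝒜 X x hx).carrier →ₗ[R] X.carrier :=
  subMap X (kerX 𝒜 X x) (kerX_isHomogeneous 𝒜 X x hx)

/-- the projection to `X / ker (x •)` -/
noncomputable def prB : X.carrier →ₗ[R] (XB 𝒜 X x hx).carrier :=
  quotMap X (kerX 𝒜 X x) (kerX_isHomogeneous 𝒜 X x hx)

lemma prB_comp_incK : prB 𝒜 X x hx ∘ₗ incK 𝒜 X x hx = 0 := by
  apply LinearMap.ext
  intro m
  exact (quotMap_eq_zero_iff X _ _ _).mpr (subMap_mem X _ _ m)

lemma ses1_shortExact :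
    (sesOf (incK 𝒜 X x hx) (prB 𝒜 X x hx) (prB_comp_incK 𝒜 X x hx)).ShortExact :=
  sesOf_shortExact _ _ _ (subMap_injective X _ _) (quotMap_surjective X _ _)
    ((ker_quotMap X _ _).trans (range_subMap X _ _).symm)

/-- multiplication by `x` as an injective graded map `(X / ker x)(-1) → X` -/
noncomputable def mulB : (shiftGMod (XB 𝒜 X x hx) 1).carrier →ₗ[R] X.carrier :=
  (kerX 𝒜 X x).liftQ (x • (LinearMap.id : X.carrier →ₗ[R] X.carrier)) le_rfl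

lemma mulB_prB (m : X.carrier) : mulB 𝒜 X x hx (prB 𝒜 X x hx m) = x • m := rfl

lemma mulB_injective : Function.Injective (mulB 𝒜 X x hx) := by
  rw [← LinearMap.ker_eq_bot]
  exact Submodule.ker_liftQ_eq_bot _ _ _ le_rfl

lemma range_mulB : LinearMap.range (mulB 𝒜 X x hx) =
    LinearMap.range (x • (LinearMap.id : X.carrier →ₗ[R] X.carrier)) :=
  Submodule.range_liftQ _ _ _

lemma isGrHom_mulB : GrLC.IsGrHom (shiftGMod (XB 𝒜 X x hx) 1).gr X.gr (mulB 𝒜 X x hx) := by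
  intro g m hm
  have h1 : m ∈ (XB 𝒜 X x hx).gr (g - 1) := (mem_shiftGMod_gr (XB 𝒜 X x hx) 1 g m).mp hm
  obtain ⟨m', hm', rfl⟩ := h1
  have h2 := smul_mem_add 𝒜 X.gr hx hm'
  rw [add_sub_cancel] at h2
  exact h2

variable (π : X.carrier →ₗ[R] Y.carrier) (hπ : Function.Surjective π)
  (hπg : GrLC.IsGrHom X.gr Y.gr π)
  (hker : LinearMap.ker π = LinearMap.range (x • (LinearMap.id : X.carrier →ₗ[R] X.carrier)))

include hker in
lemma pi_comp_mulB : π ∘ₗ mulB 𝒜 X x hx = 0 := by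
  apply LinearMap.ext
  intro m
  have : mulB 𝒜 X x hx m ∈ LinearMap.ker π := by
    rw [hker, ← range_mulB 𝒜 X x hx]; exact ⟨m, rfl⟩
  exact this

include hπ in
lemma ses2_shortExact :
    (sesOf (mulB 𝒜 X x hx) π (pi_comp_mulB 𝒜 X Y x hx π hker)).ShortExact :=
  sesOf_shortExact _ _ _ (mulB_injective 𝒜 X x hx) hπ
    (by rw [hker, range_mulB])

include hx hπ hπg hker in
/-- **weak regularity passes to `X / xX`** when `ker (x •)` is torsion for the ideal -/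
theorem main (a : HomogeneousIdeal 𝒜)
    (hK : LocCoh.IsPowerTorsion a.toIdeal (KX 𝒜 X x hx).carrier)
    (d : ℤ) (hM : ∀ i : ℕ, 0 < i → LCgr 𝒜 X.gr a.toIdeal i (d - (i : ℤ) + 1) = ⊥)
    (i : ℕ) (hi : 0 < i) : LCgr 𝒜 Y.gr a.toIdeal i (d - (i : ℤ) + 1) = ⊥ := by
  -- step A
  have hA : LCgr 𝒜 (XB 𝒜 X x hx).gr a.toIdeal (i + 1) (d - (i : ℤ)) = ⊥ := by
    rw [eq_bot_iff]
    intro v hv
    have hsub : Subsingleton (LocCoh.H a.toIdeal (i + 1 + 1) (KX 𝒜 X x hx).carrier) :=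
      subsingleton_of_isPowerTorsion a.toIdeal (i + 1 + 1) (Nat.succ_pos _)
        (KX 𝒜 X x hx).carrier hK
    have h0 : δ a.toIdeal (i + 1) (ses1_shortExact 𝒜 X x hx) v = 0 := Subsingleton.elim _ _
    obtain ⟨w, hw, rfl⟩ := Van.exists_LCgr_of_δ_eq_zero 𝒜 X.gr (XB 𝒜 X x hx).gr
      (incK 𝒜 X x hx) (prB 𝒜 X x hx) (prB_comp_incK 𝒜 X x hx) (ses1_shortExact 𝒜 X x hx)
      (isGrHom_quotMap X _ _) a (i + 1) (d - (i : ℤ)) v hv h0
    have h1 := hM (i + 1) (Nat.succ_pos i)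
    have h2 : d - ((i + 1 : ℕ) : ℤ) + 1 = d - (i : ℤ) := by push_cast; ring
    rw [h2] at h1
    rw [h1] at hw
    rw [AddSubgroup.mem_bot.mp hw]
    exact AddSubgroup.mem_bot.mpr (map_zero _)
  rw [eq_bot_iff]
  intro u hu
  have hS := ses2_shortExact 𝒜 X Y x hx π hπ hker
  have h1 := LCgr_δ 𝒜 (shiftGMod (XB 𝒜 X x hx) 1).gr X.gr Y.gr (mulB 𝒜 X x hx) π
    (pi_comp_mulB 𝒜 X Y x hx π hker) hS (isGrHom_mulB 𝒜 X x hx) hπg a.toIdeal i _ u hu
  have h2 := (Van.mem_LCgr_shift 𝒜 (XB 𝒜 X x hx) 1 a.toIdeal (i + 1) _ _).mp h1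
  have h3 : d - (i : ℤ) + 1 - 1 = d - (i : ℤ) := by ring
  rw [h3, hA] at h2
  have h0 : δ a.toIdeal i hS u = 0 := AddSubgroup.mem_bot.mp h2
  obtain ⟨w, hw, rfl⟩ := Van.exists_LCgr_of_δ_eq_zero 𝒜 X.gr Y.gr
    (mulB 𝒜 X x hx) π (pi_comp_mulB 𝒜 X Y x hx π hker) hS hπg a i _ u hu h0
  rw [hM i hi] at hw
  rw [AddSubgroup.mem_bot.mp hw]
  exact AddSubgroup.mem_bot.mpr (map_zero _)

end Core

end Reg
end Groth.Agent.Helper9.GrLCLib
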