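import Mathlib
import Groth.Prelude.Def_GrLC
import Groth.Agent.Lib.Helper9.GrLC.Basic

set_option autoImplicit false
set_option linter.unusedSectionVars false
universe u
open DirectSum

namespace Groth.Agent.Helper9.GrLCLib
namespace Trans

variable {ι : Type} [AddCommGroup ι] [DecidableEq ι]

section Fam

variable {M : Type u} [AddCommGroup M] {τ : Type u} [SetLike τ M] [AddSubgroupClass τ M]
  (ℳ : ι → τ)

/-- the underlying additive subgroups of a family of pieces -/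
def toAG : ι → AddSubgroup M := fun i => AddSubgroup.ofClass (ℳ i)

lemma mem_toAG {i : ι} {x : M} : x ∈ toAG ℳ i ↔ x ∈ ℳ i := Iff.rfl

/-- the identity on a piece -/
def pieceHom (i : ι) : ℳ i →+ toAG ℳ i where
  toFun x := ⟨x.1, x.2⟩
  map_zero' := rfl
  map_add' _ _ := rfl

/-- the identity on a piece, backwards -/
def pieceHomInv (i : ι) : toAG ℳ i →+ ℳ i where
  toFun x := ⟨x.1, x.2⟩
  map_zero' := rfl
  map_add' _ _ := rfl

lemma coe_map_pieceHom (y : ⨁ i, ℳ i) :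
    DirectSum.coeAddMonoidHom (toAG ℳ) (DirectSum.map (pieceHom ℳ) y) =
      DirectSum.coeAddMonoidHom ℳ y := by
  induction y using DirectSum.induction_on with
  | zero => simp
  | of i x => rw [DirectSum.map_of, DirectSum.coeAddMonoidHom_of, DirectSum.coeAddMonoidHom_of]; rfl
  | add x y hx hy => rw [map_add, map_add, map_add, hx, hy]

lemma coe_map_pieceHomInv (y : ⨁ i, toAG ℳ i) :
    DirectSum.coeAddMonoidHom ℳ (DirectSum.map (pieceHomInv ℳ) y) =
      DirectSum.coeAddMonoidHom (toAG ℳ) y := by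
  induction y using DirectSum.induction_on with
  | zero => simp
  | of i x => rw [DirectSum.map_of, DirectSum.coeAddMonoidHom_of, DirectSum.coeAddMonoidHom_of]; rfl
  | add x y hx hy => rw [map_add, map_add, map_add, hx, hy]

lemma map_pieceHom_map_pieceHomInv (y : ⨁ i, toAG ℳ i) :
    DirectSum.map (pieceHom ℳ) (DirectSum.map (pieceHomInv ℳ) y) = y := by
  induction y using DirectSum.induction_on with
  | zero => simp
  | of i x => rw [DirectSum.map_of, DirectSum.map_of]; rfl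
  | add x y hx hy => rw [map_add, map_add, hx, hy]

variable [DirectSum.Decomposition ℳ]

/-- the decomposition of the underlying family of additive subgroups -/
noncomputable instance decToAG : DirectSum.Decomposition (toAG ℳ) where
  decompose' x := DirectSum.map (pieceHom ℳ) (DirectSum.decompose ℳ x)
  left_inv x := by
    rw [coe_map_pieceHom]
    exact DirectSum.Decomposition.left_inv x
  right_inv y := by
    rw [← coe_map_pieceHomInv]
    have := DirectSum.Decomposition.right_inv (ℳ := ℳ) (DirectSum.map (pieceHomInv ℳ) y)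
    change DirectSum.map (pieceHom ℳ) (DirectSum.decompose ℳ (DirectSum.coeAddMonoidHom ℳ
      (DirectSum.map (pieceHomInv ℳ) y))) = y
    have h2 : DirectSum.decompose ℳ (DirectSum.coeAddMonoidHom ℳ
        (DirectSum.map (pieceHomInv ℳ) y)) = DirectSum.map (pieceHomInv ℳ) y := this
    rw [h2, map_pieceHom_map_pieceHomInv]

lemma decompose_toAG_coe (x : M) (i : ι) :
    ((DirectSum.decompose (toAG ℳ) x i : toAG ℳ i) : M) = (DirectSum.decompose ℳ x i : M) := by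
  change ((DirectSum.map (pieceHom ℳ) (DirectSum.decompose ℳ x)) i : M) = _
  rw [DirectSum.map_apply]
  rfl

end Fam

section Ring

variable {R : Type u} [CommRing R] {σ : Type u} [SetLike σ R] [AddSubgroupClass σ R]
  (𝒜 : ι → σ) [GradedRing 𝒜]

instance gradedMonoidToAG : SetLike.GradedMonoid (toAG 𝒜) where
  one_mem := SetLike.GradedOne.one_mem (A := 𝒜)
  mul_mem := fun _ _ _ _ ha hb => SetLike.GradedMul.mul_mem (A := 𝒜) ha hb

noncomputable instance gradedRingToAG : GradedRing (toAG 𝒜) :=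
  { gradedMonoidToAG 𝒜, decToAG 𝒜 with }

instance gsmulToAG {M : Type u} [AddCommGroup M] [Module R M] {τ : Type u} [SetLike τ M]
    [AddSubgroupClass τ M] (ℳ : ι → τ) [SetLike.GradedSMul 𝒜 ℳ] :
    SetLike.GradedSMul (toAG 𝒜) (toAG ℳ) :=
  ⟨fun _ _ _ _ hr hm => SetLike.GradedSMul.smul_mem (A := 𝒜) (B := ℳ) hr hm⟩

/-- a graded module over `𝒜` is a graded module over the underlying additive subgroups -/
theorem gsmulToAG' {M : Type u} [AddCommGroup M] [Module R M] (𝒳 : ι → AddSubgroup M)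
    [SetLike.GradedSMul 𝒜 𝒳] : SetLike.GradedSMul (toAG 𝒜) 𝒳 :=
  ⟨fun _ _ _ _ hr hm => SetLike.GradedSMul.smul_mem (A := 𝒜) (B := 𝒳) hr hm⟩

/-- and conversely -/
theorem gsmulOfAG {M : Type u} [AddCommGroup M] [Module R M] (𝒳 : ι → AddSubgroup M)
    [SetLike.GradedSMul (toAG 𝒜) 𝒳] : SetLike.GradedSMul 𝒜 𝒳 :=
  ⟨fun _ _ _ _ hr hm => SetLike.GradedSMul.smul_mem (A := toAG 𝒜) (B := 𝒳) hr hm⟩

/-- translation of bundled graded modules -/
def gmodToAG (X : GrLC.GMod.{u} 𝒜) : GrLC.GMod.{u} (toAG 𝒜) :=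
  { carrier := X.carrier, acg := X.acg, mod := X.mod, gr := X.gr, dec := X.dec,
    gsmul := gsmulToAG' 𝒜 X.gr }

/-- translation of bundled graded modules, backwards -/
def gmodOfAG (Y : GrLC.GMod.{u} (toAG 𝒜)) : GrLC.GMod.{u} 𝒜 :=
  { carrier := Y.carrier, acg := Y.acg, mod := Y.mod, gr := Y.gr, dec := Y.dec,
    gsmul := gsmulOfAG 𝒜 Y.gr }

lemma isStarInj_toAG {I : Type u} [AddCommGroup I] [Module R I] (ℐ : ι → AddSubgroup I)
    [DirectSum.Decomposition ℐ] [SetLike.GradedSMul 𝒜 ℐ] (h : GrLC.IsStarInj 𝒜 ℐ) :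
    letI := gsmulToAG' 𝒜 ℐ
    GrLC.IsStarInj (toAG 𝒜) ℐ :=
  fun A B f hf hinj g hg => h (gmodOfAG 𝒜 A) (gmodOfAG 𝒜 B) f hf hinj g hg

lemma isStarInj_ofAG {I : Type u} [AddCommGroup I] [Module R I] (ℐ : ι → AddSubgroup I)
    [DirectSum.Decomposition ℐ] [SetLike.GradedSMul 𝒜 ℐ]
    (h : letI := gsmulToAG' 𝒜 ℐ; GrLC.IsStarInj (toAG 𝒜) ℐ) : GrLC.IsStarInj 𝒜 ℐ :=
  fun A B f hf hinj g hg => h (gmodToAG 𝒜 A) (gmodToAG 𝒜 B) f hf hinj g hg

/-- translation of homogeneous ideals -/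
def idealToAG (a : HomogeneousIdeal 𝒜) : HomogeneousIdeal (toAG 𝒜) :=
  ⟨a.toIdeal, fun i r hr => by
    change ((DirectSum.decompose (toAG 𝒜) r i : toAG 𝒜 i) : R) ∈ a.toIdeal
    rw [decompose_toAG_coe]
    exact a.isHomogeneous i hr⟩

lemma idealToAG_toIdeal (a : HomogeneousIdeal 𝒜) : (idealToAG 𝒜 a).toIdeal = a.toIdeal := rfl

variable {M : Type u} [AddCommGroup M] [Module R M] {τ : Type u} [SetLike τ M]
  [AddSubgroupClass τ M] (ℳ : ι → τ) [DirectSum.Decomposition ℳ] [SetLike.GradedSMul 𝒜 ℳ]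

/-- translation of *injective resolutions -/
def resToAG (E : GrLC.StarInjRes 𝒜 ℳ) : GrLC.StarInjRes (toAG 𝒜) (toAG ℳ) where
  X n := gmodToAG 𝒜 (E.X n)
  d := E.d
  ε := E.ε
  d_grHom := E.d_grHom
  ε_grHom := E.ε_grHom
  ε_injective := E.ε_injective
  exact_zero := E.exact_zero
  exact_succ := E.exact_succ
  starInj n := isStarInj_toAG 𝒜 (E.X n).gr (E.starInj n)

lemma resToAG_Hcomp (E : GrLC.StarInjRes 𝒜 ℳ) (a : HomogeneousIdeal 𝒜) (i : ℕ) (g : ι) :
    ((resToAG 𝒜 ℳ E).Hcomp (idealToAG 𝒜 a) i g : Set ((resToAG 𝒜 ℳ E).H (idealToAG 𝒜 a) i)) =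
      (E.Hcomp a i g : Set (E.H a i)) := rfl

lemma hcomp_eq_bot_iff (E : GrLC.StarInjRes 𝒜 ℳ) (a : HomogeneousIdeal 𝒜) (i : ℕ) (g : ι) :
    E.Hcomp a i g = ⊥ ↔ (resToAG 𝒜 ℳ E).Hcomp (idealToAG 𝒜 a) i g = ⊥ := by
  rw [Submodule.eq_bot_iff, Submodule.eq_bot_iff]
  exact Iff.rfl

omit [GradedRing 𝒜] [DirectSum.Decomposition ℳ] [SetLike.GradedSMul 𝒜 ℳ] in
lemma isGrHom_toAG {N : Type u} [AddCommGroup N] [Module R N] {τ' : Type u} [SetLike τ' N]
    [AddSubgroupClass τ' N] (𝒩 : ι → τ') (f : M →ₗ[R] N) :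
    GrLC.IsGrHom ℳ 𝒩 f ↔ GrLC.IsGrHom (toAG ℳ) (toAG 𝒩) f := Iff.rfl

end Ring

end Trans
end Groth.Agent.Helper9.GrLCLib
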