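import Mathlib
import Groth.Prelude.Def_GrLC
import Groth.Agent.Lib.Helper9.GrLC.Van

set_option autoImplicit false
set_option linter.unusedSectionVars false
universe u
open CategoryTheory DirectSum

namespace Groth.Agent.Helper9.GrLCLib
namespace AInv

open Groth.Agent.Helper8.LC Van

section Order

variable {H : Type u} [AddCommGroup H] (𝒳 : ℤ → AddSubgroup H)

lemma le_endDeg (n : ℤ) (h : 𝒳 n ≠ ⊥) :
    ((n : WithTop ℤ) : WithBot (WithTop ℤ)) ≤ GrLC.endDeg 𝒳 := by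
  unfold GrLC.endDeg
  exact le_iSup₂ (f := fun (n : ℤ) (_ : 𝒳 n ≠ ⊥) => ((n : WithTop ℤ) : WithBot (WithTop ℤ))) n h

lemma endDeg_le (B : WithBot (WithTop ℤ))
    (h : ∀ n, 𝒳 n ≠ ⊥ → ((n : WithTop ℤ) : WithBot (WithTop ℤ)) ≤ B) : GrLC.endDeg 𝒳 ≤ B := by
  unfold GrLC.endDeg
  exact iSup₂_le h

lemma endDeg_add_le (k : ℤ) (B : WithBot (WithTop ℤ))
    (h : ∀ g, 𝒳 g ≠ ⊥ → (((g + k : ℤ) : WithTop ℤ) : WithBot (WithTop ℤ)) ≤ B) :
    GrLC.endDeg 𝒳 + ((k : WithTop ℤ) : WithBot (WithTop ℤ)) ≤ B := by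
  induction B using WithBot.recBotCoe with
  | bot =>
    have h1 : GrLC.endDeg 𝒳 ≤ ⊥ := by
      apply endDeg_le
      intro g hg
      exact absurd (h g hg) (by simp)
    rw [le_bot_iff.mp h1, WithBot.bot_add]
  | coe B =>
    induction B using WithTop.recTopCoe with
    | top => exact le_top
    | coe b =>
      have h1 : GrLC.endDeg 𝒳 ≤ (((b - k : ℤ) : WithTop ℤ) : WithBot (WithTop ℤ)) := by
        apply endDeg_le
        intro g hg
        have := h g hg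
        rw [WithBot.coe_le_coe, WithTop.coe_le_coe] at this ⊢
        omega
      refine (add_le_add h1 le_rfl).trans ?_
      rw [← WithBot.coe_add, ← WithTop.coe_add, sub_add_cancel]

end Order

variable {R : Type u} [CommRing R] [IsNoetherianRing R] (𝒜 : ℤ → AddSubgroup R) [GradedRing 𝒜]

section Transfer

variable {M : Type u} [AddCommGroup M] [Module R M] (ℳ : ℤ → AddSubgroup M)
  [DirectSum.Decomposition ℳ] [SetLike.GradedSMul 𝒜 ℳ]

/-- the end of graded local cohomology computed from a *injective resolution is intrinsic -/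
lemma endDeg_Hgr_eq (a : HomogeneousIdeal 𝒜) (E : GrLC.StarInjRes 𝒜 ℳ) (i : ℕ) :
    GrLC.endDeg (E.Hgr a i) = GrLC.endDeg (LCgr 𝒜 ℳ a.toIdeal i) := by
  obtain ⟨Θ, hΘ⟩ := exists_theta_LCgr 𝒜 ℳ a E i
  have key : ∀ g : ℤ, E.Hgr a i g ≠ ⊥ ↔ LCgr 𝒜 ℳ a.toIdeal i g ≠ ⊥ := by
    intro g
    rw [not_iff_not]
    constructor
    · intro h
      rw [eq_bot_iff]
      intro v hv
      have h1 : Θ.symm v ∈ E.Hgr a i g := by
        apply (hΘ g _).mpr
        rw [LinearEquiv.apply_symm_apply]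
        exact hv
      rw [h, AddSubgroup.mem_bot] at h1
      rw [AddSubgroup.mem_bot]
      have := congrArg Θ h1
      rwa [LinearEquiv.apply_symm_apply, map_zero] at this
    · intro h
      rw [eq_bot_iff]
      intro v hv
      have h1 : Θ v ∈ LCgr 𝒜 ℳ a.toIdeal i g := (hΘ g v).mp hv
      rw [h, AddSubgroup.mem_bot] at h1
      rw [AddSubgroup.mem_bot]
      exact Θ.injective (h1.trans (map_zero _).symm)
  apply le_antisymm
  · apply endDeg_le
    intro n hn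
    exact le_endDeg _ n ((key n).mp hn)
  · apply endDeg_le
    intro n hn
    exact le_endDeg _ n ((key n).mpr hn)

end Transfer

section Key

variable (X : GrLC.GMod.{u} 𝒜) (k : ℤ) (x : R) (hx : x ∈ 𝒜 k)
  {N : Type u} [AddCommGroup N] [Module R N] (𝒩 : ℤ → AddSubgroup N)
  [DirectSum.Decomposition 𝒩] [SetLike.GradedSMul 𝒜 𝒩]
  (π : X.carrier →ₗ[R] N) (hπg : GrLC.IsGrHom X.gr 𝒩 π) (hπs : Function.Surjective π)
  (hker : LinearMap.ker π = LinearMap.range (mulMap 𝒜 X k x))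
  (hreg : Function.Injective (mulMap 𝒜 X k x))

include hker in
lemma comp_eq_zero : π ∘ₗ mulMap 𝒜 X k x = 0 := by
  apply LinearMap.ext
  intro m
  have : mulMap 𝒜 X k x m ∈ LinearMap.ker π := by rw [hker]; exact ⟨m, rfl⟩
  exact this

include hπs hreg in
lemma ses_shortExact :
    (sesOf (mulMap 𝒜 X k x) π (comp_eq_zero 𝒜 X k x π hker)).ShortExact :=
  sesOf_shortExact _ _ _ hreg hπs hker

include hx hπg in
/-- the connecting map `H^i(N)_g → H^{i+1}(X)_{g-k}` -/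
lemma δ_mem (a : HomogeneousIdeal 𝒜) (i : ℕ) (g : ℤ)
    (w : LocCoh.H a.toIdeal i N) (hw : w ∈ LCgr 𝒜 𝒩 a.toIdeal i g) :
    (δ a.toIdeal i (ses_shortExact 𝒜 X k x π hπs hker hreg) w :
      LocCoh.H a.toIdeal (i + 1) X.carrier) ∈ LCgr 𝒜 X.gr a.toIdeal (i + 1) (g - k) := by
  have h1 := LCgr_δ 𝒜 (shiftGMod X k).gr X.gr 𝒩 (mulMap 𝒜 X k x) π
    (comp_eq_zero 𝒜 X k x π hker) (ses_shortExact 𝒜 X k x π hπs hker hreg)
    (isGrHom_mulMap 𝒜 X k x hx) hπg a.toIdeal i g w hw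
  exact (mem_LCgr_shift 𝒜 X k a.toIdeal (i + 1) g _).mp h1

include hx hπg in
/-- a homogeneous class of `H^{i+1}(X)` killed by `x` comes from `H^i(N)` -/
lemma exists_δ (a : HomogeneousIdeal 𝒜) (i : ℕ) (g : ℤ)
    (v : LocCoh.H a.toIdeal (i + 1) X.carrier) (hv : v ∈ LCgr 𝒜 X.gr a.toIdeal (i + 1) g)
    (h0 : x • v = 0) :
    ∃ w ∈ LCgr 𝒜 𝒩 a.toIdeal i (g + k),
      δ a.toIdeal i (ses_shortExact 𝒜 X k x π hπs hker hreg) w = v := by
  have hv' : (v : LocCoh.H a.toIdeal (i + 1) (shiftGMod X k).carrier) ∈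
      LCgr 𝒜 (shiftGMod X k).gr a.toIdeal (i + 1) (g + k) := by
    apply (mem_LCgr_shift 𝒜 X k a.toIdeal (i + 1) (g + k) v).mpr
    rw [add_sub_cancel_right]
    exact hv
  exact exists_LCgr_of_map_f_eq_zero 𝒜 (shiftGMod X k).gr X.gr 𝒩
    (mulMap 𝒜 X k x) π (comp_eq_zero 𝒜 X k x π hker)
    (ses_shortExact 𝒜 X k x π hπs hker hreg) (isGrHom_mulMap 𝒜 X k x hx)
    hπg a i (g + k) v hv'
    ((map_mulMap 𝒜 X k x a.toIdeal (i + 1) v).trans h0)

/-- the connecting map is injective when `H^i(X) = 0` -/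
lemma δ_injective (J : Ideal R) (i : ℕ) (hvan : Subsingleton (LocCoh.H J i X.carrier))
    (w : LocCoh.H J i N)
    (h0 : δ J i (ses_shortExact 𝒜 X k x π hπs hker hreg) w = 0) : w = 0 := by
  obtain ⟨v, hv⟩ := (exact_g_δ J i (ses_shortExact 𝒜 X k x π hπs hker hreg) w).mp h0
  have hv0 : v = 0 := Subsingleton.elim (α := LocCoh.H J i X.carrier) v 0
  rw [← hv, hv0]
  exact map_zero _

include hπs hker hreg in
/-- vanishing passes to the quotient, one degree down -/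
lemma subsingleton_quot (J : Ideal R) (i : ℕ) (hvan : Subsingleton (LocCoh.H J i X.carrier))
    (hvan' : Subsingleton (LocCoh.H J (i + 1) X.carrier)) :
    Subsingleton (LocCoh.H J i N) := by
  refine subsingleton_of_forall_eq 0 fun w => ?_
  apply δ_injective 𝒜 X k x π hπs hker hreg J i hvan w
  exact Subsingleton.elim (α := LocCoh.H J (i + 1) X.carrier) _ _

include hx in
lemma pow_smul_mem (J : Ideal R) (i : ℕ) (g : ℤ) (v : LocCoh.H J i X.carrier)
    (hv : v ∈ LCgr 𝒜 X.gr J i g) (n : ℕ) : x ^ n • v ∈ LCgr 𝒜 X.gr J i (g + n * k) := by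
  induction n with
  | zero => simpa using hv
  | succ n ih =>
    have := smul_mem_LCgr 𝒜 X.gr J i (g + n * k) k hx _ ih
    rw [smul_smul, ← pow_succ'] at this
    have h2 : g + (n : ℤ) * k + k = g + ((n + 1 : ℕ) : ℤ) * k := by push_cast; ring
    rw [h2] at this
    exact this

include hx hπg hπs hker hreg in
/-- **the end of the local cohomology of `X/xX`** -/
theorem endDeg_quot (hk : 0 ≤ k) (a : HomogeneousIdeal 𝒜) (hxa : x ∈ a.toIdeal) (i : ℕ)
    (hvan : Subsingleton (LocCoh.H a.toIdeal i X.carrier)) :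
    GrLC.endDeg (LCgr 𝒜 𝒩 a.toIdeal i) =
      GrLC.endDeg (LCgr 𝒜 X.gr a.toIdeal (i + 1)) +
        ((k : WithTop ℤ) : WithBot (WithTop ℤ)) := by
  apply le_antisymm
  · apply endDeg_le
    intro n hn
    obtain ⟨⟨w, hw⟩, hw0⟩ := AddSubgroup.ne_bot_iff_exists_ne_zero.mp hn
    have hw0' : w ≠ 0 := fun h => hw0 (Subtype.ext h)
    have h1 := δ_mem 𝒜 X k x hx 𝒩 π hπg hπs hker hreg a i n w hw
    have h2 : δ a.toIdeal i (ses_shortExact 𝒜 X k x π hπs hker hreg) w ≠ 0 :=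
      fun h => hw0' (δ_injective 𝒜 X k x π hπs hker hreg a.toIdeal i hvan w h)
    have h3 : LCgr 𝒜 X.gr a.toIdeal (i + 1) (n - k) ≠ ⊥ := by
      intro h
      rw [h] at h1
      exact h2 (AddSubgroup.mem_bot.mp h1)
    have h4 := le_endDeg _ (n - k) h3
    refine le_trans ?_ (add_le_add h4 le_rfl)
    rw [← WithBot.coe_add, ← WithTop.coe_add, sub_add_cancel]
  · apply endDeg_add_le
    intro g hg
    obtain ⟨⟨v, hv⟩, hv0⟩ := AddSubgroup.ne_bot_iff_exists_ne_zero.mp hg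
    have hv0' : v ≠ 0 := fun h => hv0 (Subtype.ext h)
    obtain ⟨K, hK⟩ := isPowerTorsion a.toIdeal (i + 1) (ModuleCat.of R X.carrier) v
    have hKx : x ^ K • v = 0 := hK _ (Ideal.pow_mem_pow hxa K)
    classical
    have hex : ∃ n : ℕ, x ^ n • v = 0 := ⟨K, hKx⟩
    set n₀ := Nat.find hex with hn₀
    have hn₀spec : x ^ n₀ • v = 0 := Nat.find_spec hex
    have hn₀pos : n₀ ≠ 0 := by
      intro h
      rw [h, pow_zero, one_smul] at hn₀spec
      exact hv0' hn₀spec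
    obtain ⟨n₁, hn₁⟩ := Nat.exists_eq_succ_of_ne_zero hn₀pos
    have hn₁ne : x ^ n₁ • v ≠ 0 := Nat.find_min hex (by omega)
    have hn₁x : x • (x ^ n₁ • v) = 0 := by
      rw [smul_smul, ← pow_succ']
      have h5 : x ^ n₀ • v = 0 := hn₀spec
      rw [hn₁] at h5
      exact h5
    have hmem := pow_smul_mem 𝒜 X k x hx a.toIdeal (i + 1) g v hv n₁
    obtain ⟨w, hw, hδw⟩ := exists_δ 𝒜 X k x hx 𝒩 π hπg hπs hker hreg a i (g + n₁ * k)
      (x ^ n₁ • v) hmem hn₁x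
    have hw0 : w ≠ 0 := by
      intro h
      rw [h, map_zero] at hδw
      exact hn₁ne hδw.symm
    have h3 : LCgr 𝒜 𝒩 a.toIdeal i (g + n₁ * k + k) ≠ ⊥ := by
      intro h
      rw [h, AddSubgroup.mem_bot] at hw
      exact hw0 hw
    refine le_trans ?_ (le_endDeg _ _ h3)
    rw [WithBot.coe_le_coe, WithTop.coe_le_coe]
    have : 0 ≤ (n₁ : ℤ) * k := mul_nonneg (Int.natCast_nonneg _) hk
    omega

end Key

end AInv
end Groth.Agent.Helper9.GrLCLib
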