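import Mathlib
import Groth.Prelude.Def_GrLC
import Groth.Prelude.Def_Wider
import Groth.Agent.Lib.Helper9.GrLC.Van

set_option autoImplicit false
set_option linter.unusedSectionVars false
universe u
open CategoryTheory DirectSum

namespace Groth.Agent.Helper9.GrLCLib
namespace Fg

open Groth.Agent.Helper8.LC Van

section Gen

variable {ι : Type} [AddCommGroup ι] [DecidableEq ι] [Module.Free ℤ ι] [Module.Finite ℤ ι]
variable {R : Type u} [CommRing R] [IsNoetherianRing R] (𝒜 : ι → AddSubgroup R) [GradedRing 𝒜]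

variable {M N : Type u} [AddCommGroup M] [Module R M] [AddCommGroup N] [Module R N]
  (ℳ : ι → AddSubgroup M) [DirectSum.Decomposition ℳ] [SetLike.GradedSMul 𝒜 ℳ]
  (𝒩 : ι → AddSubgroup N) [DirectSum.Decomposition 𝒩] [SetLike.GradedSMul 𝒜 𝒩]

/-- the degree-`g` piece of `H^i_J(M)` as a module over the degree-zero subring -/
noncomputable def LCcomp (J : Ideal R) (i : ℕ) (g : ι) :
    Submodule (GrLC.deg0 𝒜) (LocCoh.H J i M) where
  carrier := (LCgr 𝒜 ℳ J i g : Set (LocCoh.H J i M))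
  add_mem' := fun ha hb => add_mem ha hb
  zero_mem' := zero_mem _
  smul_mem' := by
    rintro ⟨r, hr⟩ x hx
    have := smul_mem_LCgr 𝒜 ℳ J i g 0 hr x hx
    rw [add_zero] at this
    exact this

lemma mem_LCcomp (J : Ideal R) (i : ℕ) (g : ι) (x : LocCoh.H J i M) :
    x ∈ LCcomp 𝒜 ℳ J i g ↔ x ∈ LCgr 𝒜 ℳ J i g := Iff.rfl

/-- the restriction of an `R`-linear map between local cohomology modules to pieces -/
noncomputable def compMap (J : Ideal R) (i i' : ℕ) (g g' : ι)
    (f : LocCoh.H J i M →ₗ[R] LocCoh.H J i' N)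
    (hf : ∀ x ∈ LCgr 𝒜 ℳ J i g, f x ∈ LCgr 𝒜 𝒩 J i' g') :
    LCcomp 𝒜 ℳ J i g →ₗ[GrLC.deg0 𝒜] LCcomp 𝒜 𝒩 J i' g' :=
  (f.restrictScalars (GrLC.deg0 𝒜)).restrict hf

lemma compMap_apply (J : Ideal R) (i i' : ℕ) (g g' : ι)
    (f : LocCoh.H J i M →ₗ[R] LocCoh.H J i' N)
    (hf : ∀ x ∈ LCgr 𝒜 ℳ J i g, f x ∈ LCgr 𝒜 𝒩 J i' g') (x : LCcomp 𝒜 ℳ J i g) :
    (compMap 𝒜 ℳ 𝒩 J i i' g g' f hf x : LocCoh.H J i' N) = f x := rfl

lemma isNoetherian_LCcomp_of_eq_bot (J : Ideal R) (i : ℕ) (g : ι)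
    (h : LCgr 𝒜 ℳ J i g = ⊥) : IsNoetherian (GrLC.deg0 𝒜) (LCcomp 𝒜 ℳ J i g) := by
  have : Subsingleton (LCcomp 𝒜 ℳ J i g) := by
    refine ⟨fun x y => ?_⟩
    apply Subtype.ext
    have hx : (x : LocCoh.H J i M) ∈ LCgr 𝒜 ℳ J i g := x.2
    have hy : (y : LocCoh.H J i M) ∈ LCgr 𝒜 ℳ J i g := y.2
    rw [h] at hx hy
    rw [AddSubgroup.mem_bot.mp hx, AddSubgroup.mem_bot.mp hy]
  infer_instance

end Gen

end Fg

namespace FinZ

open Groth.Agent.Helper8.LC Van VanZ Fg

variable {R : Type u} [CommRing R] [IsNoetherianRing R] (𝒜 : ℤ → AddSubgroup R) [GradedRing 𝒜]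

section Comp

variable {M : Type u} [AddCommGroup M] [Module R M]
  (ℳ : ℤ → AddSubgroup M) [DirectSum.Decomposition ℳ] [SetLike.GradedSMul 𝒜 ℳ]

/-- the pieces of a Noetherian graded module are Noetherian over the degree-zero subring -/
lemma isNoetherian_comp_of_isNoetherian [IsNoetherian R M] (n : ℤ) :
    IsNoetherian (GrLC.deg0 𝒜) (GrLC.comp 𝒜 ℳ n) := by
  let g : Submodule (GrLC.deg0 𝒜) (GrLC.comp 𝒜 ℳ n) → Submodule R M := fun N =>
    Submodule.span R ((fun y : GrLC.comp 𝒜 ℳ n => (y : M)) '' (N : Set _))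
  have hg : StrictMono g := by
    apply strictMono_of_le_iff_le
    intro N N'
    constructor
    · intro h
      exact Submodule.span_mono (Set.image_mono h)
    · intro h x hx
      apply Pos.mem_of_mem_span_comp 𝒜 ℳ n N' x
      apply h
      exact Submodule.subset_span ⟨x, hx, rfl⟩
  have : WellFoundedGT (Submodule (GrLC.deg0 𝒜) (GrLC.comp 𝒜 ℳ n)) := hg.wellFoundedGT
  exact isNoetherian_iff'.mpr this

/-- the pieces of `H^0_J(M)` are Noetherian over the degree-zero subring -/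
lemma isNoetherian_LCcomp_zero [IsNoetherian R M] (J : Ideal R) (n : ℤ) :
    IsNoetherian (GrLC.deg0 𝒜) (LCcomp 𝒜 ℳ J 0 n) := by
  have := isNoetherian_comp_of_isNoetherian 𝒜 ℳ n
  let f : LCcomp 𝒜 ℳ J 0 n →ₗ[GrLC.deg0 𝒜] GrLC.comp 𝒜 ℳ n :=
    ((ev0 J (ModuleCat.of R M)).restrictScalars (GrLC.deg0 𝒜)).restrict
      (p := LCcomp 𝒜 ℳ J 0 n) (q := GrLC.comp 𝒜 ℳ n)
      (fun x hx => (mem_LCgr_zero 𝒜 ℳ J n x).mp hx)
  have hf : Function.Injective f := by
    intro x y hxy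
    apply Subtype.ext
    apply ev0_injective J (ModuleCat.of R M)
    exact congrArg Subtype.val hxy
  exact isNoetherian_of_injective f hf

end Comp

section Main

/-- the finiteness predicate: all pieces `H^i_a(X)_n` are Noetherian modules over the degree-zero subring -/
def FinP (a : HomogeneousIdeal 𝒜) (i : ℕ) (X : GrLC.GMod.{u} 𝒜) : Prop :=
  ∀ n : ℤ, IsNoetherian (GrLC.deg0 𝒜) (LCcomp 𝒜 X.gr a.toIdeal i n)

/-- the finiteness predicate is closed under graded extensions -/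
lemma finP_ext (a : HomogeneousIdeal 𝒜) (i : ℕ) (X₁ X₂ X₃ : GrLC.GMod.{u} 𝒜)
    (j : X₁.carrier →ₗ[R] X₂.carrier) (p : X₂.carrier →ₗ[R] X₃.carrier)
    (hjg : GrLC.IsGrHom X₁.gr X₂.gr j) (hpg : GrLC.IsGrHom X₂.gr X₃.gr p)
    (hj : Function.Injective j) (hp : Function.Surjective p)
    (hex : LinearMap.ker p = LinearMap.range j)
    (h₁ : FinP 𝒜 a i X₁) (h₃ : FinP 𝒜 a i X₃) : FinP 𝒜 a i X₂ := by
  have h : p ∘ₗ j = 0 := by
    apply LinearMap.ext
    intro m
    have : j m ∈ LinearMap.ker p := by rw [hex]; exact ⟨m, rfl⟩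
    exact this
  have hS := sesOf_shortExact j p h hj hp hex
  intro n
  have := h₁ n
  have := h₃ n
  let f := compMap 𝒜 X₁.gr X₂.gr a.toIdeal i i n n
    ((localCohomology a.toIdeal i).map (ModuleCat.ofHom j)).hom
    (fun x hx => LCgr_map_zero 𝒜 X₁.gr X₂.gr a.toIdeal i n j hjg x hx)
  let g := compMap 𝒜 X₂.gr X₃.gr a.toIdeal i i n n
    ((localCohomology a.toIdeal i).map (ModuleCat.ofHom p)).hom
    (fun x hx => LCgr_map_zero 𝒜 X₂.gr X₃.gr a.toIdeal i n p hpg x hx)
  apply isNoetherian_of_range_eq_ker f g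
  ext ⟨v, hv⟩
  constructor
  · rintro ⟨⟨w, hw⟩, hfw⟩
    rw [LinearMap.mem_ker]
    apply Subtype.ext
    have h1 : ((localCohomology a.toIdeal i).map (ModuleCat.ofHom j)) w = v :=
      congrArg Subtype.val hfw
    change ((localCohomology a.toIdeal i).map (ModuleCat.ofHom p)) v = 0
    rw [← h1]
    exact (exact_f_g a.toIdeal i hS _).mpr ⟨w, rfl⟩
  · intro hv0
    have h0 : ((localCohomology a.toIdeal i).map (ModuleCat.ofHom p)) v = 0 :=
      congrArg Subtype.val hv0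
    obtain ⟨w, hw, hwv⟩ := exists_LCgr_of_map_g_eq_zero 𝒜 X₁.gr X₂.gr j p h hS hjg a i n v hv h0
    exact ⟨⟨w, hw⟩, Subtype.ext hwv⟩

/-- finiteness passes from `X/xX` (in cohomological degree `i`) to `X` (in cohomological degree `i+1`) for a
homogeneous regular element of positive degree, given vanishing in high degrees -/
theorem finP_of_regular (X : GrLC.GMod.{u} 𝒜) (d : ℤ) (x : R) (hx : x ∈ 𝒜 d) (hd : 0 < d)
    (hreg : Function.Injective (mulMap 𝒜 X d x)) (a : HomogeneousIdeal 𝒜)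
    (i : ℕ) (hQ : FinP 𝒜 a i (Qx 𝒜 X d x hx)) (s : ℤ)
    (hvan : ∀ n, s ≤ n → LCgr 𝒜 X.gr a.toIdeal (i + 1) n = ⊥) : FinP 𝒜 a (i + 1) X := by
  have key : ∀ k : ℕ, ∀ n : ℤ, s ≤ n + k * d →
      IsNoetherian (GrLC.deg0 𝒜) (LCcomp 𝒜 X.gr a.toIdeal (i + 1) n) := by
    intro k
    induction k with
    | zero =>
      intro n hn
      exact isNoetherian_LCcomp_of_eq_bot 𝒜 X.gr a.toIdeal (i + 1) n (hvan n (by simpa using hn))
    | succ k ih =>
      intro n hn
      have h1 := ih (n + d) (by push_cast at hn ⊢; linarith)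
      have h2 := hQ (n + d)
      let f := compMap 𝒜 (Qx 𝒜 X d x hx).gr X.gr a.toIdeal i (i + 1) (n + d) n
        (δ a.toIdeal i (mulSES_shortExact 𝒜 X d x hx hreg))
        (fun w hw => by
          have := δ_mem_LCgr 𝒜 X d x hx hreg a i (n + d) w hw
          rwa [add_sub_cancel_right] at this)
      let g := compMap 𝒜 X.gr X.gr a.toIdeal (i + 1) (i + 1) n (n + d)
        (x • (LinearMap.id : LocCoh.H a.toIdeal (i + 1) X.carrier →ₗ[R] _))
        (fun v hv => smul_mem_LCgr 𝒜 X.gr a.toIdeal (i + 1) n d hx v hv)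
      apply isNoetherian_of_range_eq_ker f g
      ext ⟨v, hv⟩
      constructor
      · rintro ⟨⟨w, hw⟩, hfw⟩
        rw [LinearMap.mem_ker]
        apply Subtype.ext
        have h3 : δ a.toIdeal i (mulSES_shortExact 𝒜 X d x hx hreg) w = v :=
          congrArg Subtype.val hfw
        change x • v = 0
        rw [← h3]
        exact (map_mulMap 𝒜 X d x a.toIdeal (i + 1) _).symm.trans
          ((exact_δ_f a.toIdeal i (mulSES_shortExact 𝒜 X d x hx hreg) _).mpr ⟨w, rfl⟩)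
      · intro hv0
        have h0 : x • v = 0 := congrArg Subtype.val hv0
        obtain ⟨w, hw, hwv⟩ := exists_δ_of_smul_eq_zero 𝒜 X d x hx hreg a i n v hv h0
        have hw' : w ∈ LCcomp 𝒜 (Qx 𝒜 X d x hx).gr a.toIdeal i (n + d) :=
          (mem_LCcomp 𝒜 (Qx 𝒜 X d x hx).gr a.toIdeal i (n + d) w).mpr hw
        refine ⟨⟨w, hw'⟩, ?_⟩
        apply Subtype.ext
        exact (compMap_apply 𝒜 (Qx 𝒜 X d x hx).gr X.gr a.toIdeal i (i + 1) (n + d) n _ _ ⟨w, hw'⟩).trans hwv
  intro n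
  obtain ⟨k, hk⟩ : ∃ k : ℕ, s ≤ n + k * d := by
    refine ⟨(s - n).toNat, ?_⟩
    have h1 := Int.self_le_toNat (s - n)
    have h2 : (0 : ℤ) ≤ ((s - n).toNat : ℤ) * (d - 1) :=
      mul_nonneg (Int.natCast_nonneg _) (by omega)
    nlinarith
  exact key k n hk

end Main

section Thm

lemma finP_of_subsingleton (a : HomogeneousIdeal 𝒜) (i : ℕ) (X : GrLC.GMod.{u} 𝒜)
    (h : Subsingleton (LocCoh.H a.toIdeal i X.carrier)) : FinP 𝒜 a i X :=
  fun n => isNoetherian_LCcomp_of_eq_bot 𝒜 X.gr a.toIdeal i n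
    (LCgr_eq_bot_of_subsingleton 𝒜 X.gr a.toIdeal i n h)

/-- **the pieces of graded local cohomology w.r.t. the irrelevant ideal are finitely generated over `R₀`** -/
theorem finP (a : HomogeneousIdeal 𝒜)
    (ha : a.toIdeal = Ideal.span (⋃ n ∈ Set.Ioi (0 : ℤ), (𝒜 n : Set R))) :
    ∀ (i : ℕ) (X : GrLC.GMod.{u} 𝒜) [Module.Finite R X.carrier], FinP 𝒜 a i X := by
  intro i
  induction i with
  | zero =>
    intro X _ n
    have : IsNoetherian R X.carrier := isNoetherian_of_isNoetherianRing_of_finite R X.carrier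
    exact isNoetherian_LCcomp_zero 𝒜 X.gr a.toIdeal n
  | succ i ih =>
    intro X _
    apply Dev.devissage 𝒜 (FinP 𝒜 a (i + 1))
    · intro Y hY
      exact finP_of_subsingleton 𝒜 a (i + 1) Y
        (subsingleton_of_isPowerTorsion a.toIdeal (i + 1) (Nat.succ_pos i) Y.carrier
          (fun m => ⟨0, fun r _ => Subsingleton.elim _ _⟩))
    · intro X₁ X₂ X₃ j p hjg hpg hj hp hex h₁ h₃
      exact finP_ext 𝒜 a (i + 1) X₁ X₂ X₃ j p hjg hpg hj hp hex h₁ h₃
    · intro Y e m hm hspan hprime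
      have hgen : ∀ y : Y.carrier, ∃ c : R, c • m = y := by
        intro y
        have : y ∈ Submodule.span R {m} := by rw [hspan]; exact Submodule.mem_top
        exact Submodule.mem_span_singleton.mp this
      have hYfin : Module.Finite R Y.carrier := ⟨⟨{m}, by simpa using hspan⟩⟩
      by_cases hJp : a.toIdeal ≤ Ideal.torsionOf R Y.carrier m
      · apply finP_of_subsingleton 𝒜 a (i + 1) Y
        apply subsingleton_of_isPowerTorsion a.toIdeal (i + 1) (Nat.succ_pos i) Y.carrier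
        intro y
        obtain ⟨c, rfl⟩ := hgen y
        refine ⟨1, fun r hr => ?_⟩
        rw [pow_one] at hr
        have := (Ideal.mem_torsionOf_iff m r).mp (hJp hr)
        rw [smul_comm, this, smul_zero]
      · have hex : ∃ (d : ℤ) (x : R), 0 < d ∧ x ∈ 𝒜 d ∧ x ∉ Ideal.torsionOf R Y.carrier m := by
          by_contra hcon
          apply hJp
          rw [ha, Ideal.span_le]
          intro x hx
          simp only [Set.mem_iUnion, Set.mem_Ioi] at hx
          obtain ⟨d, hd, hxd⟩ := hx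
          by_contra hx'
          exact hcon ⟨d, x, hd, hxd, hx'⟩
        obtain ⟨d, x, hd, hx, hxp⟩ := hex
        have hreg : Function.Injective (mulMap 𝒜 Y d x) := by
          rw [injective_iff_map_eq_zero]
          intro y hy
          obtain ⟨c, hc⟩ := hgen y
          have h1 : x • y = 0 := hy
          have h2 : x * c ∈ Ideal.torsionOf R Y.carrier m := by
            rw [Ideal.mem_torsionOf_iff, mul_smul, hc]
            exact h1
          rcases hprime.mem_or_mem h2 with h3 | h3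
          · exact absurd h3 hxp
          · rw [← hc]
            exact (Ideal.mem_torsionOf_iff m c).mp h3
        have : Module.Finite R (Qx 𝒜 Y d x hx).carrier :=
          Module.Finite.of_surjective (qxMap 𝒜 Y d x hx) (qxMap_surjective 𝒜 Y d x hx)
        obtain ⟨s, hs⟩ := vanP 𝒜 a ha (i + 1) Y
        exact finP_of_regular 𝒜 Y d x hx hd hreg a i (ih (Qx 𝒜 Y d x hx)) s hs

end Thm

end FinZ
end Groth.Agent.Helper9.GrLCLib
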