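import Mathlib
import Groth.Prelude.Def_GrLC
import Groth.Agent.Lib.Helper9.GrLC.Basic
import Groth.Agent.Lib.Helper9.GrLC.Push

open DirectSum

universe u

set_option linter.unusedSectionVars false

namespace Groth.Agent.Helper9.GrLCLib

section QuotGr
variable {ι : Type} [AddCommGroup ι] [DecidableEq ι]
variable {R : Type u} [CommRing R] (𝒜 : ι → AddSubgroup R) [GradedRing 𝒜]
variable (p : HomogeneousIdeal 𝒜)

lemma quotGr_eq_pushFam :
    GrLC.quotGr 𝒜 p = pushFam 𝒜 (Submodule.mkQ p.toIdeal) := rfl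

/-- the decomposition of `R ⧸ p` by the images of the pieces of `R` -/
@[instance_reducible]
noncomputable def quotGrDecomposition : DirectSum.Decomposition (GrLC.quotGr 𝒜 p) :=
  pushDecomposition 𝒜 (Submodule.mkQ p.toIdeal) (Submodule.mkQ_surjective _)
    (by rw [Submodule.ker_mkQ]; exact p.isHomogeneous)

lemma quotGrGradedSMul : SetLike.GradedSMul 𝒜 (GrLC.quotGr 𝒜 p) :=
  pushGradedSMul 𝒜 𝒜 (Submodule.mkQ p.toIdeal)

/-- `R ⧸ p` as a bundled graded module -/
noncomputable def quotGrGMod : GrLC.GMod.{u} 𝒜 :=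
  letI := quotGrDecomposition 𝒜 p
  letI := quotGrGradedSMul 𝒜 p
  GrLC.GMod.of 𝒜 (R ⧸ p.toIdeal) (GrLC.quotGr 𝒜 p)

end QuotGr

end Groth.Agent.Helper9.GrLCLib
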