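import Mathlib
import Groth.Prelude.Def_GrLC
import Groth.Agent.Lib.Helper9.GrLC.AInv

set_option autoImplicit false
set_option linter.unusedSectionVars false
universe u
open CategoryTheory DirectSum

namespace Groth.Agent.Helper9.GrLCLib
namespace AInv

open Groth.Agent.Helper8.LC Van

variable {R : Type u} [CommRing R] [IsNoetherianRing R] (𝒜 : ℤ → AddSubgroup R) [GradedRing 𝒜]

section Congr

variable {M N : Type u} [AddCommGroup M] [Module R M] [AddCommGroup N] [Module R N]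
  (ℳ : ℤ → AddSubgroup M) [DirectSum.Decomposition ℳ] [SetLike.GradedSMul 𝒜 ℳ]
  (𝒩 : ℤ → AddSubgroup N) [DirectSum.Decomposition 𝒩] [SetLike.GradedSMul 𝒜 𝒩]

omit [IsNoetherianRing R] in
lemma map_comp_apply {M₁ M₂ M₃ : Type u} [AddCommGroup M₁] [Module R M₁] [AddCommGroup M₂]
    [Module R M₂] [AddCommGroup M₃] [Module R M₃] (J : Ideal R) (i : ℕ)
    (f : M₁ →ₗ[R] M₂) (g : M₂ →ₗ[R] M₃) (v : LocCoh.H J i M₁) :
    ((localCohomology J i).map (ModuleCat.ofHom g)) (((localCohomology J i).map (ModuleCat.ofHom f)) v)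
      = ((localCohomology J i).map (ModuleCat.ofHom (g ∘ₗ f))) v := by
  rw [ModuleCat.ofHom_comp, Functor.map_comp]
  rfl

/-- a homogeneous isomorphism does not change the end of local cohomology -/
lemma endDeg_congr (π : M →ₗ[R] N) (hπg : GrLC.IsGrHom ℳ 𝒩 π) (hbij : Function.Bijective π)
    (J : Ideal R) (i : ℕ) :
    GrLC.endDeg (LCgr 𝒜 𝒩 J i) = GrLC.endDeg (LCgr 𝒜 ℳ J i) := by
  let e := LinearEquiv.ofBijective π hbij
  let ρ : N →ₗ[R] M := e.symm.toLinearMap
  have hπρ : π ∘ₗ ρ = LinearMap.id := by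
    apply LinearMap.ext
    intro n
    exact e.apply_symm_apply n
  have hρπ : ρ ∘ₗ π = LinearMap.id := by
    apply LinearMap.ext
    intro n
    exact e.symm_apply_apply n
  have hρg : GrLC.IsGrHom 𝒩 ℳ ρ := by
    intro g n hn
    apply (mem_iff_of_isGrHom_injective ℳ 𝒩 hπg hbij.1 g (ρ n)).mp
    have : π (ρ n) = n := e.apply_symm_apply n
    rw [this]
    exact hn
  have h1 : ∀ w : LocCoh.H J i N, ((localCohomology J i).map (ModuleCat.ofHom π))
      (((localCohomology J i).map (ModuleCat.ofHom ρ)) w) = w := by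
    intro w
    rw [map_comp_apply, hπρ]
    exact map_id_apply J i w
  have h2 : ∀ v : LocCoh.H J i M, ((localCohomology J i).map (ModuleCat.ofHom ρ))
      (((localCohomology J i).map (ModuleCat.ofHom π)) v) = v := by
    intro v
    rw [map_comp_apply, hρπ]
    exact map_id_apply J i v
  apply le_antisymm
  · apply endDeg_le
    intro g hg
    obtain ⟨⟨w, hw⟩, hw0⟩ := AddSubgroup.ne_bot_iff_exists_ne_zero.mp hg
    have hw0' : w ≠ 0 := fun h => hw0 (Subtype.ext h)
    apply le_endDeg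
    intro hbot
    have h3 := LCgr_map_zero 𝒜 𝒩 ℳ J i g ρ hρg w hw
    rw [hbot] at h3
    have h4 := AddSubgroup.mem_bot.mp h3
    have h5 := h1 w
    rw [h4, map_zero] at h5
    exact hw0' h5.symm
  · apply endDeg_le
    intro g hg
    obtain ⟨⟨v, hv⟩, hv0⟩ := AddSubgroup.ne_bot_iff_exists_ne_zero.mp hg
    have hv0' : v ≠ 0 := fun h => hv0 (Subtype.ext h)
    apply le_endDeg
    intro hbot
    have h3 := LCgr_map_zero 𝒜 ℳ 𝒩 J i g π hπg v hv
    rw [hbot] at h3
    have h4 := AddSubgroup.mem_bot.mp h3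
    have h5 := h2 v
    rw [h4, map_zero] at h5
    exact hv0' h5.symm

end Congr

section Seq

open RingTheory.Sequence
open scoped Pointwise

/-- the step data: the induced map `X/xX → Y` -/
lemma range_mulMap_le_ker (X Y : GrLC.GMod.{u} 𝒜) {t : ℕ} (f : Fin (t + 1) → R) (k : ℤ)
    (π : X.carrier →ₗ[R] Y.carrier)
    (hker : LinearMap.ker π = Ideal.span (Set.range f) • (⊤ : Submodule R X.carrier)) :
    LinearMap.range (mulMap 𝒜 X k (f 0)) ≤ LinearMap.ker π := by
  rintro _ ⟨m, rfl⟩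
  rw [hker]
  exact Submodule.smul_mem_smul (Ideal.subset_span ⟨0, rfl⟩) Submodule.mem_top

lemma exists_lift (X Y : GrLC.GMod.{u} 𝒜) {t : ℕ} (f : Fin (t + 1) → R) (k : ℤ)
    (hx : f 0 ∈ 𝒜 k)
    (π : X.carrier →ₗ[R] Y.carrier)
    (hker : LinearMap.ker π = Ideal.span (Set.range f) • (⊤ : Submodule R X.carrier)) :
    ∃ π' : (Qx 𝒜 X k (f 0) hx).carrier →ₗ[R] Y.carrier,
      ∀ m, π' (qxMap 𝒜 X k (f 0) hx m) = π m := by
  refine ⟨Submodule.liftQ (LinearMap.range (mulMap 𝒜 X k (f 0))) π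
        (range_mulMap_le_ker 𝒜 X Y f k π hker), ?_⟩
  intro m
  rfl

lemma ker_lift (X Y : GrLC.GMod.{u} 𝒜) {t : ℕ} (f : Fin (t + 1) → R) (k : ℤ)
    (hx : f 0 ∈ 𝒜 k)
    (π : X.carrier →ₗ[R] Y.carrier)
    (hker : LinearMap.ker π = Ideal.span (Set.range f) • (⊤ : Submodule R X.carrier))
    (π' : (Qx 𝒜 X k (f 0) hx).carrier →ₗ[R] Y.carrier)
    (hπ' : ∀ m, π' (qxMap 𝒜 X k (f 0) hx m) = π m) :
    LinearMap.ker π' = Ideal.span (Set.range (fun i : Fin t => f i.succ)) •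
        (⊤ : Submodule R (Qx 𝒜 X k (f 0) hx).carrier) := by
  have hqs := qxMap_surjective 𝒜 X k (f 0) hx
  apply le_antisymm
  · intro m' hm'
    obtain ⟨m, rfl⟩ := hqs m'
    have h1 : π m = 0 := by rw [← hπ']; exact hm'
    have h2 : m ∈ Ideal.span (Set.range f) • (⊤ : Submodule R X.carrier) := by
      rw [← hker]; exact h1
    clear hm' h1
    refine Submodule.smul_induction_on h2 ?_ ?_
    · intro r hr n _
      rw [map_smul]
      induction hr using Submodule.span_induction with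
      | mem r hr =>
        obtain ⟨i, rfl⟩ := hr
        refine Fin.cases ?_ (fun j => ?_) i
        · have : qxMap 𝒜 X k (f 0) hx (f 0 • n) = 0 := by
            have h3 : f 0 • n ∈ LinearMap.ker (qxMap 𝒜 X k (f 0) hx) := by
              rw [ker_qxMap]; exact ⟨n, rfl⟩
            exact h3
          rw [← map_smul, this]
          exact Submodule.zero_mem _
        · exact Submodule.smul_mem_smul (Ideal.subset_span ⟨j, rfl⟩) Submodule.mem_top
      | zero => rw [zero_smul]; exact Submodule.zero_mem _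
      | add r s _ _ hr hs => rw [add_smul]; exact Submodule.add_mem _ hr hs
      | smul c r _ hr => rw [smul_eq_mul, mul_smul]; exact Submodule.smul_mem _ c hr
    · intro a b ha hb
      rw [map_add]
      exact Submodule.add_mem _ ha hb
  · rw [Submodule.smul_le]
    intro r hr m' _
    obtain ⟨m, rfl⟩ := hqs m'
    rw [LinearMap.mem_ker, ← map_smul, hπ']
    have h1 : r • m ∈ Ideal.span (Set.range f) • (⊤ : Submodule R X.carrier) := by
      refine Submodule.smul_mem_smul ?_ Submodule.mem_top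
      refine Ideal.span_mono ?_ hr
      rintro _ ⟨j, rfl⟩
      exact ⟨j.succ, rfl⟩
    rw [← hker] at h1
    exact h1

lemma isGrHom_lift (X Y : GrLC.GMod.{u} 𝒜) (x : R) (k : ℤ)
    (hx : x ∈ 𝒜 k)
    (π : X.carrier →ₗ[R] Y.carrier) (hπg : GrLC.IsGrHom X.gr Y.gr π)
    (π' : (Qx 𝒜 X k x hx).carrier →ₗ[R] Y.carrier)
    (hπ' : ∀ m, π' (qxMap 𝒜 X k x hx m) = π m) :
    GrLC.IsGrHom (Qx 𝒜 X k x hx).gr Y.gr π' := by
  intro g m' hm'
  obtain ⟨m, hm, rfl⟩ := hm'
  have : π' (qxMap 𝒜 X k x hx m) ∈ Y.gr g := by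
    rw [hπ']
    exact hπg g m hm
  exact this

/-- the bundled quotient `X/xX` is `QuotSMulTop x X` -/
noncomputable def quotSMulTopEquivQx (X : GrLC.GMod.{u} 𝒜) (x : R) (k : ℤ) (hx : x ∈ 𝒜 k) :
    QuotSMulTop x X.carrier ≃ₗ[R] (Qx 𝒜 X k x hx).carrier :=
  Submodule.quotEquivOfEq (x • (⊤ : Submodule R X.carrier))
    (LinearMap.range (mulMap 𝒜 X k x)) (by
      ext m
      rw [Submodule.mem_smul_pointwise_iff_exists]
      constructor
      · rintro ⟨n, _, rfl⟩
        exact ⟨n, rfl⟩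
      · rintro ⟨n, rfl⟩
        exact ⟨n, Submodule.mem_top, rfl⟩)

/-- **the end of local cohomology modulo a homogeneous regular sequence** -/
theorem endDeg_regSeq (a : HomogeneousIdeal 𝒜) :
    ∀ (t : ℕ) (X : GrLC.GMod.{u} 𝒜) (e : ℕ), t ≤ e →
    (∀ i < e, Subsingleton (LocCoh.H a.toIdeal i X.carrier)) →
    ∀ (f : Fin t → R) (deg : Fin t → ℤ), (∀ i, f i ∈ 𝒜 (deg i)) → (∀ i, 0 ≤ deg i) →
    (∀ i, f i ∈ a.toIdeal) →
    IsWeaklyRegular X.carrier (List.ofFn f) →
    ∀ (Y : GrLC.GMod.{u} 𝒜) (π : X.carrier →ₗ[R] Y.carrier), GrLC.IsGrHom X.gr Y.gr π →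
      Function.Surjective π →
      LinearMap.ker π = Ideal.span (Set.range f) • (⊤ : Submodule R X.carrier) →
      GrLC.endDeg (LCgr 𝒜 Y.gr a.toIdeal (e - t)) =
        GrLC.endDeg (LCgr 𝒜 X.gr a.toIdeal e) +
          (((∑ i, deg i : ℤ) : WithTop ℤ) : WithBot (WithTop ℤ)) := by
  intro t
  induction t with
  | zero =>
    intro X e _ _ f deg _ _ _ _ Y π hπg hπs hker
    have hker' : LinearMap.ker π = ⊥ := by
      rw [hker]
      have : Set.range f = ∅ := Set.range_eq_empty f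
      rw [this, Ideal.span_empty, Submodule.bot_smul]
    have hbij : Function.Bijective π := ⟨LinearMap.ker_eq_bot.mp hker', hπs⟩
    rw [Nat.sub_zero, endDeg_congr 𝒜 X.gr Y.gr π hπg hbij a.toIdeal e]
    simp
  | succ t ih =>
    intro X e hte hV f deg hdeg hdeg0 hfa hreg Y π hπg hπs hker
    obtain ⟨e', rfl⟩ : ∃ e', e = e' + 1 := ⟨e - 1, by omega⟩
    have hL : List.ofFn f = f 0 :: List.ofFn (fun i : Fin t => f i.succ) := List.ofFn_succ
    rw [hL, isWeaklyRegular_cons_iff] at hreg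
    obtain ⟨hreg0, hreg'⟩ := hreg
    have hx := hdeg 0
    have hregInj : Function.Injective (mulMap 𝒜 X (deg 0) (f 0)) := hreg0
    have hqg := isGrHom_qxMap 𝒜 X (deg 0) (f 0) hx
    have hqs := qxMap_surjective 𝒜 X (deg 0) (f 0) hx
    have hqk := ker_qxMap 𝒜 X (deg 0) (f 0) hx
    have hkey := endDeg_quot 𝒜 X (deg 0) (f 0) hx (Qx 𝒜 X (deg 0) (f 0) hx).gr
      (qxMap 𝒜 X (deg 0) (f 0) hx) hqg hqs hqk hregInj (hdeg0 0) a (hfa 0) e'
      (hV e' (Nat.lt_succ_self e'))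
    have hV' : ∀ i < e', Subsingleton (LocCoh.H a.toIdeal i (Qx 𝒜 X (deg 0) (f 0) hx).carrier) := by
      intro i hi
      exact subsingleton_quot 𝒜 X (deg 0) (f 0) (qxMap 𝒜 X (deg 0) (f 0) hx) hqs hqk hregInj
        a.toIdeal i (hV i (by omega)) (hV (i + 1) (by omega))
    have hreg'' : IsWeaklyRegular (Qx 𝒜 X (deg 0) (f 0) hx).carrier
        (List.ofFn (fun i : Fin t => f i.succ)) :=
      (LinearEquiv.isWeaklyRegular_congr (quotSMulTopEquivQx 𝒜 X (f 0) (deg 0) hx) _).mp hreg'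
    obtain ⟨π', hπ'⟩ := exists_lift 𝒜 X Y f (deg 0) hx π hker
    have hπ'g := isGrHom_lift 𝒜 X Y (f 0) (deg 0) hx π hπg π' hπ'
    have hπ's : Function.Surjective π' := by
      intro y
      obtain ⟨m, rfl⟩ := hπs y
      exact ⟨_, hπ' m⟩
    have hπ'k := ker_lift 𝒜 X Y f (deg 0) hx π hker π' hπ'
    have hih := ih (Qx 𝒜 X (deg 0) (f 0) hx) e' (by omega) hV' (fun i : Fin t => f i.succ)
      (fun i => deg i.succ) (fun i => hdeg i.succ) (fun i => hdeg0 i.succ) (fun i => hfa i.succ)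
      hreg'' Y π' hπ'g hπ's hπ'k
    rw [Nat.add_sub_add_right, hih, hkey, Fin.sum_univ_succ, add_assoc, ← WithBot.coe_add,
      ← WithTop.coe_add]

end Seq

end AInv
end Groth.Agent.Helper9.GrLCLib
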