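import Mathlib
import Groth.Prelude.Def_GrLC
import Groth.Prelude.Def_Wider
import Groth.Agent.Lib.Helper9.GrLC.Van
import Groth.Agent.Lib.Helper9.GrLC.Ess

/-!
# Top local cohomology of a standard graded ring is "generated in low degrees":
`H^r(X)_n = R_1 H^r(X)_{n-1}` when `H^{r+1}` vanishes identically and `r ≥ 1`
-/

set_option autoImplicit false
set_option linter.unusedSectionVars false
universe u
open CategoryTheory DirectSum

namespace Groth.Agent.Helper9.GrLCLib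
namespace Top

open Groth.Agent.Helper8.LC

variable {R : Type u} [CommRing R] [IsNoetherianRing R] (𝒜 : ℤ → AddSubgroup R) [GradedRing 𝒜]

section SES

variable (X : GrLC.GMod.{u} 𝒜) (P : Submodule R X.carrier) (hP : P.IsHomogeneous X.gr)

lemma quotMap_comp_subMap : quotMap X P hP ∘ₗ subMap X P hP = 0 := by
  apply LinearMap.ext
  intro m
  exact (quotMap_eq_zero_iff X _ _ _).mpr (subMap_mem X _ _ m)

lemma subQuot_shortExact :
    (sesOf (subMap X P hP) (quotMap X P hP) (quotMap_comp_subMap 𝒜 X P hP)).ShortExact :=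
  sesOf_shortExact _ _ _ (subMap_injective X _ _) (quotMap_surjective X _ _)
    ((ker_quotMap X _ _).trans (range_subMap X _ _).symm)

variable {Y : GrLC.GMod.{u} 𝒜} (f : X.carrier →ₗ[R] Y.carrier) (hf : GrLC.IsGrHom X.gr Y.gr f)
  (hfs : Function.Surjective f)

lemma comp_subMap_ker :
    f ∘ₗ subMap X (LinearMap.ker f) (ker_isHomogeneous X.gr Y.gr hf) = 0 := by
  apply LinearMap.ext
  intro m
  exact LinearMap.mem_ker.mp (subMap_mem X _ _ m)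

include hfs in
lemma kerSES_shortExact :
    (sesOf (subMap X (LinearMap.ker f) (ker_isHomogeneous X.gr Y.gr hf)) f
      (comp_subMap_ker 𝒜 X f hf)).ShortExact :=
  sesOf_shortExact _ _ _ (subMap_injective X _ _) hfs (range_subMap X _ _).symm

end SES

section Surj

variable {M₁ M₂ M₃ : Type u} [AddCommGroup M₁] [Module R M₁] [AddCommGroup M₂] [Module R M₂]
  [AddCommGroup M₃] [Module R M₃]
  (ℳ₂ : ℤ → AddSubgroup M₂) [DirectSum.Decomposition ℳ₂] [SetLike.GradedSMul 𝒜 ℳ₂]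
  (ℳ₃ : ℤ → AddSubgroup M₃) [DirectSum.Decomposition ℳ₃] [SetLike.GradedSMul 𝒜 ℳ₃]
  (j : M₁ →ₗ[R] M₂) (p : M₂ →ₗ[R] M₃) (h : p ∘ₗ j = 0) (hS : (sesOf j p h).ShortExact)
  (hpg : GrLC.IsGrHom ℳ₂ ℳ₃ p)

include hS hpg in
/-- the top local cohomology functor preserves graded surjections -/
lemma exists_preimage_top (a : HomogeneousIdeal 𝒜) (r : ℕ) (hcd : LocCoh.CdLE R a.toIdeal r) (n : ℤ)
    (v : LocCoh.H a.toIdeal r M₃) (hv : v ∈ LCgr 𝒜 ℳ₃ a.toIdeal r n) :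
    ∃ w ∈ LCgr 𝒜 ℳ₂ a.toIdeal r n,
      ((localCohomology a.toIdeal r).map (ModuleCat.ofHom p)) w = v := by
  have hsub : Subsingleton (LocCoh.H a.toIdeal (r + 1) M₁) := hcd M₁ (r + 1) (Nat.lt_succ_self r)
  have h0 : δ a.toIdeal r hS v = 0 := Subsingleton.elim _ _
  exact Van.exists_LCgr_of_δ_eq_zero 𝒜 ℳ₂ ℳ₃ j p h hS hpg a r n v hv h0

end Surj

section Gen

variable (a : HomogeneousIdeal 𝒜) (r : ℕ)

/-- the subgroup `R_1 · H^r(X)_{n-1}` -/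
noncomputable def genSet (X : GrLC.GMod.{u} 𝒜) (n : ℤ) : AddSubgroup (LocCoh.H a.toIdeal r X.carrier) :=
  AddSubgroup.closure {w | ∃ x ∈ 𝒜 1, ∃ v ∈ LCgr 𝒜 X.gr a.toIdeal r (n - 1), w = x • v}

/-- `H^r(X)_n = R_1 H^r(X)_{n-1}` for all `n` -/
def GenP (X : GrLC.GMod.{u} 𝒜) : Prop :=
  ∀ n : ℤ, LCgr 𝒜 X.gr a.toIdeal r n ≤ genSet 𝒜 a r X n

lemma genSet_le (X : GrLC.GMod.{u} 𝒜) (n : ℤ) :
    genSet 𝒜 a r X n ≤ LCgr 𝒜 X.gr a.toIdeal r n := by
  rw [genSet, AddSubgroup.closure_le]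
  rintro _ ⟨x, hx, v, hv, rfl⟩
  have := Van.smul_mem_LCgr 𝒜 X.gr a.toIdeal r (n - 1) 1 hx v hv
  rwa [sub_add_cancel] at this

/-- the image of `x X` as a graded module -/
noncomputable def xX (X : GrLC.GMod.{u} 𝒜) (x : R) (hx : x ∈ 𝒜 1) : GrLC.GMod.{u} 𝒜 :=
  subGMod X (LinearMap.range (Van.mulMap 𝒜 X 1 x))
    (range_isHomogeneous (shiftGMod X 1).gr X.gr (Van.isGrHom_mulMap 𝒜 X 1 x hx))

/-- the inclusion `xX → X` -/
noncomputable def incX (X : GrLC.GMod.{u} 𝒜) (x : R) (hx : x ∈ 𝒜 1) :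
    (xX 𝒜 X x hx).carrier →ₗ[R] X.carrier :=
  subMap X (LinearMap.range (Van.mulMap 𝒜 X 1 x))
    (range_isHomogeneous (shiftGMod X 1).gr X.gr (Van.isGrHom_mulMap 𝒜 X 1 x hx))

lemma isGrHom_incX (X : GrLC.GMod.{u} 𝒜) (x : R) (hx : x ∈ 𝒜 1) :
    GrLC.IsGrHom (xX 𝒜 X x hx).gr X.gr (incX 𝒜 X x hx) :=
  isGrHom_subMap X _ _

lemma qx_comp_incX (X : GrLC.GMod.{u} 𝒜) (x : R) (hx : x ∈ 𝒜 1) :
    Van.qxMap 𝒜 X 1 x hx ∘ₗ incX 𝒜 X x hx = 0 :=
  quotMap_comp_subMap 𝒜 X _ _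

lemma ses₁ (X : GrLC.GMod.{u} 𝒜) (x : R) (hx : x ∈ 𝒜 1) :
    (sesOf (incX 𝒜 X x hx) (Van.qxMap 𝒜 X 1 x hx) (qx_comp_incX 𝒜 X x hx)).ShortExact :=
  subQuot_shortExact 𝒜 X _ _

/-- multiplication by `x` as a surjection `X(-1) → xX` -/
noncomputable def mulS (X : GrLC.GMod.{u} 𝒜) (x : R) (hx : x ∈ 𝒜 1) :
    (shiftGMod X 1).carrier →ₗ[R] (xX 𝒜 X x hx).carrier :=
  subLift X _ _ (Van.mulMap 𝒜 X 1 x) (fun z => ⟨z, rfl⟩)

lemma isGrHom_mulS (X : GrLC.GMod.{u} 𝒜) (x : R) (hx : x ∈ 𝒜 1) :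
    GrLC.IsGrHom (shiftGMod X 1).gr (xX 𝒜 X x hx).gr (mulS 𝒜 X x hx) := by
  intro k z hz
  apply (mem_subGMod_gr X _ _ k _).mpr
  exact Van.isGrHom_mulMap 𝒜 X 1 x hx k z hz

lemma mulS_surjective (X : GrLC.GMod.{u} 𝒜) (x : R) (hx : x ∈ 𝒜 1) :
    Function.Surjective (mulS 𝒜 X x hx) := by
  intro y
  obtain ⟨z, hz⟩ := subMap_mem X _ _ y
  refine ⟨z, ?_⟩
  apply subMap_injective X
  exact hz

/-- **descent of `GenP` along `X → X / xX`** -/
theorem genP_of_quot (hcd : LocCoh.CdLE R a.toIdeal r) (X : GrLC.GMod.{u} 𝒜) (x : R) (hx : x ∈ 𝒜 1)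
    (hQ : GenP 𝒜 a r (Van.Qx 𝒜 X 1 x hx)) : GenP 𝒜 a r X := by
  intro n u hu
  have hS₁ := ses₁ 𝒜 X x hx
  have hub := Van.LCgr_map_zero 𝒜 X.gr (Van.Qx 𝒜 X 1 x hx).gr a.toIdeal r n
    (Van.qxMap 𝒜 X 1 x hx) (Van.isGrHom_qxMap 𝒜 X 1 x hx) u hu
  have hub' := hQ n hub
  -- lift along the quotient
  have hlift : ∀ w ∈ genSet 𝒜 a r (Van.Qx 𝒜 X 1 x hx) n,
      ∃ u' ∈ genSet 𝒜 a r X n,
        ((localCohomology a.toIdeal r).map (ModuleCat.ofHom (Van.qxMap 𝒜 X 1 x hx))) u' = w := by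
    intro w hw
    refine AddSubgroup.closure_induction (p := fun w _ => ∃ u' ∈ genSet 𝒜 a r X n,
        ((localCohomology a.toIdeal r).map (ModuleCat.ofHom (Van.qxMap 𝒜 X 1 x hx))) u' = w)
      ?_ ⟨0, zero_mem _, map_zero _⟩ ?_ ?_ hw
    · rintro _ ⟨y, hy, vb, hvb, rfl⟩
      obtain ⟨v, hv, hvv⟩ := exists_preimage_top 𝒜 X.gr (Van.Qx 𝒜 X 1 x hx).gr _ _ _ hS₁
        (Van.isGrHom_qxMap 𝒜 X 1 x hx) a r hcd (n - 1) vb hvb
      refine ⟨y • v, AddSubgroup.subset_closure ⟨y, hy, v, hv, rfl⟩, ?_⟩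
      rw [map_smul]
      exact congrArg (y • ·) hvv
    · rintro _ _ _ _ ⟨u₁, hu₁, rfl⟩ ⟨u₂, hu₂, rfl⟩
      exact ⟨u₁ + u₂, add_mem hu₁ hu₂, map_add _ _ _⟩
    · rintro _ _ ⟨u₁, hu₁, rfl⟩
      exact ⟨-u₁, neg_mem hu₁, map_neg _ _⟩
  obtain ⟨u', hu', hu'ub⟩ := hlift _ hub'
  -- the difference comes from `xX`
  have hdiff : u - u' ∈ LCgr 𝒜 X.gr a.toIdeal r n := sub_mem hu (genSet_le 𝒜 a r X n hu')
  have h0 : ((localCohomology a.toIdeal r).map (ModuleCat.ofHom (Van.qxMap 𝒜 X 1 x hx))) (u - u') = 0 := by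
    rw [map_sub, hu'ub, sub_self]
  obtain ⟨w, hw, hwu⟩ := Van.exists_LCgr_of_map_g_eq_zero 𝒜 (xX 𝒜 X x hx).gr X.gr _ _ _ hS₁
    (isGrHom_incX 𝒜 X x hx) a r n (u - u') hdiff h0
  -- and then from `X(-1)`
  have hS₂ := kerSES_shortExact 𝒜 (shiftGMod X 1) (mulS 𝒜 X x hx) (isGrHom_mulS 𝒜 X x hx)
    (mulS_surjective 𝒜 X x hx)
  obtain ⟨w', hw', hw'w⟩ := exists_preimage_top 𝒜 (shiftGMod X 1).gr (xX 𝒜 X x hx).gr _ _ _ hS₂
    (isGrHom_mulS 𝒜 X x hx) a r hcd n w hw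
  have hw'' := (Van.mem_LCgr_shift 𝒜 X 1 a.toIdeal r n w').mp hw'
  have hcomp : ((localCohomology a.toIdeal r).map (ModuleCat.ofHom (Van.mulMap 𝒜 X 1 x))) w' = u - u' := by
    have e : Van.mulMap 𝒜 X 1 x = incX 𝒜 X x hx ∘ₗ mulS 𝒜 X x hx := rfl
    rw [e, ModuleCat.ofHom_comp, Functor.map_comp]
    change ((localCohomology a.toIdeal r).map (ModuleCat.ofHom (incX 𝒜 X x hx)))
      (((localCohomology a.toIdeal r).map (ModuleCat.ofHom (mulS 𝒜 X x hx))) w') = _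
    rw [hw'w, hwu]
  obtain ⟨w₂, hw₂⟩ : ∃ w₂ : LocCoh.H a.toIdeal r X.carrier, w₂ = w' := ⟨w', rfl⟩
  have hw₂' : w₂ ∈ LCgr 𝒜 X.gr a.toIdeal r (n - 1) := by rw [hw₂]; exact hw''
  have h5 : x • w₂ = u - u' := by
    rw [hw₂]
    exact (Van.map_mulMap 𝒜 X 1 x a.toIdeal r w').symm.trans hcomp
  have : u = u' + x • w₂ := by rw [h5]; abel
  rw [this]
  exact add_mem hu' (AddSubgroup.subset_closure ⟨x, hx, w₂, hw₂', rfl⟩)

/-- modules killed by the ideal have no top local cohomology -/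
lemma genP_of_killed (hr : 0 < r) (X : GrLC.GMod.{u} 𝒜)
    (hk : ∀ s ∈ a.toIdeal, ∀ z : X.carrier, s • z = 0) : GenP 𝒜 a r X := by
  intro n u _
  have hsub : Subsingleton (LocCoh.H a.toIdeal r X.carrier) :=
    subsingleton_of_isPowerTorsion a.toIdeal r hr X.carrier
      (fun z => ⟨1, fun s hs => by rw [pow_one] at hs; exact hk s hs z⟩)
  rw [Subsingleton.elim u 0]
  exact zero_mem _

/-- induction over a list of degree-one elements generating the ideal on `X` -/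
theorem genP_of_list (hcd : LocCoh.CdLE R a.toIdeal r) (hr : 0 < r) :
    ∀ (L : List R), (∀ y ∈ L, y ∈ 𝒜 1) → ∀ X : GrLC.GMod.{u} 𝒜,
      a.toIdeal • (⊤ : Submodule R X.carrier) ≤
        Ideal.span {y | y ∈ L} • (⊤ : Submodule R X.carrier) → GenP 𝒜 a r X
  | [], _, X, hX => by
    apply genP_of_killed 𝒜 a r hr X
    intro s hs z
    have h1 : s • z ∈ a.toIdeal • (⊤ : Submodule R X.carrier) :=
      Submodule.smul_mem_smul hs Submodule.mem_top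
    have h2 := hX h1
    have h3 : {y : R | y ∈ ([] : List R)} = ∅ := by ext y; simp
    rw [h3, Ideal.span_empty, Submodule.bot_smul] at h2
    exact (Submodule.mem_bot R).mp h2
  | x :: L', hL, X, hX => by
    have hx : x ∈ 𝒜 1 := hL x (List.mem_cons_self)
    apply genP_of_quot 𝒜 a r hcd X x hx
    apply genP_of_list hcd hr L' (fun y hy => hL y (List.mem_cons_of_mem x hy))
    -- the hypothesis for the quotient
    have hset : {y : R | y ∈ x :: L'} = insert x {y : R | y ∈ L'} := by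
      ext y; simp
    rw [hset] at hX
    have hq0 : ∀ w₀ : X.carrier, x • Van.qxMap 𝒜 X 1 x hx w₀ = 0 := by
      intro w₀
      rw [← map_smul]
      have : x • w₀ ∈ LinearMap.ker (Van.qxMap 𝒜 X 1 x hx) := by
        rw [Van.ker_qxMap]; exact ⟨w₀, rfl⟩
      exact this
    have key : ∀ w ∈ Ideal.span (insert x {y : R | y ∈ L'}) • (⊤ : Submodule R X.carrier),
        Van.qxMap 𝒜 X 1 x hx w ∈
          Ideal.span {y : R | y ∈ L'} • (⊤ : Submodule R (Van.Qx 𝒜 X 1 x hx).carrier) := by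
      intro w hw
      refine Submodule.smul_induction_on hw (fun c hc w₀ _ => ?_) (fun w₁ w₂ h1 h2 => ?_)
      · obtain ⟨a', c', hc', rfl⟩ := Ideal.mem_span_insert.mp hc
        rw [map_smul, add_smul, mul_smul, hq0, smul_zero, zero_add]
        exact Submodule.smul_mem_smul hc' Submodule.mem_top
      · rw [map_add]; exact add_mem h1 h2
    intro z hz
    refine Submodule.smul_induction_on hz (fun s hs y _ => ?_) (fun z₁ z₂ h1 h2 => add_mem h1 h2)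
    obtain ⟨y₀, rfl⟩ := Van.qxMap_surjective 𝒜 X 1 x hx y
    rw [← map_smul]
    exact key _ (hX (Submodule.smul_mem_smul hs Submodule.mem_top))

/-- **the top local cohomology of a standard graded ring is generated from below by `R_1`** -/
theorem genP_top (hcd : LocCoh.CdLE R a.toIdeal r) (hr : 0 < r)
    (hgen : a.toIdeal = Ideal.span ((𝒜 1 : AddSubgroup R) : Set R)) (X : GrLC.GMod.{u} 𝒜) :
    GenP 𝒜 a r X := by
  classical
  have hfg : (Ideal.span ((𝒜 1 : AddSubgroup R) : Set R)).FG := IsNoetherian.noetherian _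
  obtain ⟨S', hS', hspan⟩ := (Submodule.fg_span_iff_fg_span_finset_subset _).mp hfg
  apply genP_of_list 𝒜 a r hcd hr S'.toList (fun y hy => hS' (Finset.mem_toList.mp hy)) X
  have hset : {y : R | y ∈ S'.toList} = (S' : Set R) := by
    ext y; simp
  rw [hset, hgen]
  have : Ideal.span ((𝒜 1 : AddSubgroup R) : Set R) = Ideal.span (S' : Set R) := hspan
  rw [this]

/-- propagation of vanishing -/
lemma eq_bot_succ_of_genP {X : GrLC.GMod.{u} 𝒜} (hG : GenP 𝒜 a r X) (n : ℤ)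
    (h : LCgr 𝒜 X.gr a.toIdeal r n = ⊥) : LCgr 𝒜 X.gr a.toIdeal r (n + 1) = ⊥ := by
  rw [eq_bot_iff]
  intro u hu
  have h1 := hG (n + 1) hu
  rw [genSet, add_sub_cancel_right, h] at h1
  refine AddSubgroup.closure_induction (p := fun u _ => u ∈ (⊥ : AddSubgroup _)) ?_ (zero_mem _)
    (fun _ _ _ _ h1 h2 => add_mem h1 h2) (fun _ _ h => neg_mem h) h1
  rintro _ ⟨x, _, v, hv, rfl⟩
  rw [AddSubgroup.mem_bot] at hv ⊢
  rw [hv, smul_zero]

lemma eq_bot_of_le_of_genP {X : GrLC.GMod.{u} 𝒜} (hG : GenP 𝒜 a r X) (n : ℤ)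
    (h : LCgr 𝒜 X.gr a.toIdeal r n = ⊥) (n' : ℤ) (hn' : n ≤ n') :
    LCgr 𝒜 X.gr a.toIdeal r n' = ⊥ := by
  obtain ⟨t, rfl⟩ : ∃ t : ℕ, n' = n + t := ⟨(n' - n).toNat, by omega⟩
  induction t with
  | zero => simpa using h
  | succ t ih =>
    have := eq_bot_succ_of_genP 𝒜 a r hG (n + t) (ih (by omega))
    have e : n + ((t + 1 : ℕ) : ℤ) = n + t + 1 := by push_cast; ring
    rw [e]
    exact this

end Gen

end Top
end Groth.Agent.Helper9.GrLCLib
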