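import Mathlib
import Groth.Prelude.Def_Wider
import Groth.Agent.Lib.Helper8.LC25
import Groth.Agent.Lib.Helper9.GrLC.GrH2

/-!
# The top local cohomology functor is right exact: generators and relations of `H^n_J(M)`
-/

set_option autoImplicit false
set_option linter.unusedSectionVars false
universe u
open CategoryTheory

namespace Groth.Agent.Helper9.GrLCLib
namespace Watts

open Groth.Agent.Helper8.LC

variable {R : Type u} [CommRing R] (J : Ideal R) (n : ℕ)

section Basic

variable {X Y Z : Type u} [AddCommGroup X] [Module R X] [AddCommGroup Y] [Module R Y]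
  [AddCommGroup Z] [Module R Z]

/-- the action of local cohomology on linear maps -/
noncomputable def Tmap (f : X →ₗ[R] Y) : LocCoh.H J n X →ₗ[R] LocCoh.H J n Y :=
  ((localCohomology J n).map (ModuleCat.ofHom f)).hom

lemma Tmap_apply (f : X →ₗ[R] Y) (v : LocCoh.H J n X) :
    Tmap J n f v = ((localCohomology J n).map (ModuleCat.ofHom f)) v := rfl

lemma Tmap_comp (g : Y →ₗ[R] Z) (f : X →ₗ[R] Y) (v : LocCoh.H J n X) :
    Tmap J n (g ∘ₗ f) v = Tmap J n g (Tmap J n f v) := by
  rw [Tmap_apply, ModuleCat.ofHom_comp, Functor.map_comp]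
  rfl

lemma Tmap_comp4 {W V : Type u} [AddCommGroup W] [Module R W] [AddCommGroup V] [Module R V]
    (f₁ : Z →ₗ[R] W) (f₂ : Y →ₗ[R] Z) (f₃ : X →ₗ[R] Y) (f₄ : V →ₗ[R] X) (v : LocCoh.H J n V) :
    Tmap J n f₁ (Tmap J n f₂ (Tmap J n f₃ (Tmap J n f₄ v))) =
      Tmap J n (f₁ ∘ₗ f₂ ∘ₗ f₃ ∘ₗ f₄) v := by
  rw [Tmap_comp, Tmap_comp, Tmap_comp]

lemma Tmap_id (v : LocCoh.H J n X) : Tmap J n (LinearMap.id : X →ₗ[R] X) v = v := by
  rw [Tmap_apply, ModuleCat.ofHom_id, CategoryTheory.Functor.map_id]
  rfl

lemma Tmap_add (f g : X →ₗ[R] Y) (v : LocCoh.H J n X) :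
    Tmap J n (f + g) v = Tmap J n f v + Tmap J n g v :=
  map_add' J n (ModuleCat.ofHom f) (ModuleCat.ofHom g) v

lemma Tmap_zero (v : LocCoh.H J n X) : Tmap J n (0 : X →ₗ[R] Y) v = 0 :=
  map_zero' J n (ModuleCat.of R X) (ModuleCat.of R Y) v

lemma Tmap_sum {α : Type} (s : Finset α) (φ : α → (X →ₗ[R] Y)) (v : LocCoh.H J n X) :
    Tmap J n (∑ j ∈ s, φ j) v = ∑ j ∈ s, Tmap J n (φ j) v := by
  classical
  induction s using Finset.induction_on with
  | empty => simp only [Finset.sum_empty]; exact Tmap_zero J n v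
  | insert a s ha ih => rw [Finset.sum_insert ha, Finset.sum_insert ha, Tmap_add, ih]

lemma Tmap_smul_id (r : R) (v : LocCoh.H J n X) :
    Tmap J n (r • (LinearMap.id : X →ₗ[R] X)) v = r • v :=
  map_smul_id J n (ModuleCat.of R X) r v

end Basic

section Pi

/-- decomposition of `H^n(R^t)` -/
lemma pi_decomp (t : ℕ) (w : LocCoh.H J n (Fin t → R)) :
    w = ∑ i : Fin t, Tmap J n (LinearMap.single R (fun _ : Fin t => R) i)
      (Tmap J n (LinearMap.proj (φ := fun _ : Fin t => R) i) w) := by
  have hid : (LinearMap.id : (Fin t → R) →ₗ[R] (Fin t → R)) =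
      ∑ i : Fin t, (LinearMap.single R (fun _ : Fin t => R) i) ∘ₗ
        (LinearMap.proj (φ := fun _ : Fin t => R) i) := by
    apply LinearMap.ext
    intro v
    ext k
    simp [LinearMap.sum_apply, Finset.sum_apply, Pi.single_apply]
  conv_lhs => rw [← Tmap_id J n w, hid, Tmap_sum]
  exact Finset.sum_congr rfl (fun i _ => Tmap_comp J n _ _ w)

lemma proj_single (t : ℕ) (i i' : Fin t) (h : LocCoh.H J n R) :
    Tmap J n (LinearMap.proj (φ := fun _ : Fin t => R) i)
      (Tmap J n (LinearMap.single R (fun _ : Fin t => R) i') h) = if i = i' then h else 0 := by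
  rw [← Tmap_comp]
  by_cases hi : i = i'
  · subst hi
    rw [if_pos rfl]
    have : (LinearMap.proj (φ := fun _ : Fin t => R) i) ∘ₗ
        (LinearMap.single R (fun _ : Fin t => R) i) = LinearMap.id := by
      apply LinearMap.ext; intro r; simp
    rw [this, Tmap_id]
  · rw [if_neg hi]
    have : (LinearMap.proj (φ := fun _ : Fin t => R) i) ∘ₗ
        (LinearMap.single R (fun _ : Fin t => R) i') = 0 := by
      apply LinearMap.ext; intro r; simp [hi]
    rw [this, Tmap_zero]

end Pi

section Exact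

variable [IsNoetherianRing R] (hcd : LocCoh.CdLE R J n)
variable {X Y : Type u} [AddCommGroup X] [Module R X] [AddCommGroup Y] [Module R Y]

/-- the short exact sequence of a surjection -/
lemma kerSES (p : X →ₗ[R] Y) (hp : Function.Surjective p) :
    ∃ h : p ∘ₗ (LinearMap.ker p).subtype = 0,
      (sesOf (LinearMap.ker p).subtype p h).ShortExact := by
  have h : p ∘ₗ (LinearMap.ker p).subtype = 0 := by
    apply LinearMap.ext; intro x; exact x.2
  exact ⟨h, sesOf_shortExact _ _ h (Submodule.injective_subtype _) hp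
    (Submodule.range_subtype _).symm⟩

include hcd in
/-- top local cohomology preserves surjections -/
lemma Tmap_surjective (p : X →ₗ[R] Y) (hp : Function.Surjective p) :
    Function.Surjective (Tmap J n p) := by
  obtain ⟨h, hS⟩ := kerSES p hp
  intro v
  have hsub : Subsingleton (LocCoh.H J (n + 1) (LinearMap.ker p)) :=
    hcd (LinearMap.ker p) (n + 1) (Nat.lt_succ_self n)
  have h0 : δ J n hS v = 0 := Subsingleton.elim _ _
  obtain ⟨w, hw⟩ := (exact_g_δ J n hS v).mp h0
  exact ⟨w, hw⟩

/-- exactness in the middle -/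
lemma exists_of_Tmap_eq_zero (p : X →ₗ[R] Y) (hp : Function.Surjective p)
    (v : LocCoh.H J n X) (hv : Tmap J n p v = 0) :
    ∃ w : LocCoh.H J n (LinearMap.ker p), Tmap J n (LinearMap.ker p).subtype w = v := by
  obtain ⟨h, hS⟩ := kerSES p hp
  obtain ⟨w, hw⟩ := (exact_f_g J n hS v).mp hv
  exact ⟨w, hw⟩

end Exact

section Gen

variable [IsNoetherianRing R] (hcd : LocCoh.CdLE R J n)
variable {M : Type u} [AddCommGroup M] [Module R M]

/-- the map `R → M`, `r ↦ r • x` -/
abbrev mu (x : M) : R →ₗ[R] M := LinearMap.toSpanSingleton R M x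

lemma lc_comp_single {t : ℕ} (m : Fin t → M) (i : Fin t) :
    Fintype.linearCombination R m ∘ₗ LinearMap.single R (fun _ : Fin t => R) i = mu (m i) := by
  apply LinearMap.ext
  intro r
  simp [Fintype.linearCombination_apply, Pi.single_apply, LinearMap.toSpanSingleton_apply]

include hcd in
/-- **generators**: `H^n(M)` is the sum of the images of `H^n(R)` under the maps induced by generators -/
theorem exists_gen {t : ℕ} (m : Fin t → M)
    (hm : Function.Surjective (Fintype.linearCombination R m)) (u : LocCoh.H J n M) :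
    ∃ h : Fin t → LocCoh.H J n R, u = ∑ i, Tmap J n (mu (m i)) (h i) := by
  obtain ⟨w, rfl⟩ := Tmap_surjective J n hcd _ hm u
  refine ⟨fun i => Tmap J n (LinearMap.proj (φ := fun _ : Fin t => R) i) w, ?_⟩
  conv_lhs => rw [pi_decomp J n t w, map_sum]
  refine Finset.sum_congr rfl (fun i _ => ?_)
  rw [← Tmap_comp, lc_comp_single]

include hcd in
/-- **relations** -/
theorem exists_rel {t : ℕ} (m : Fin t → M)
    (hm : Function.Surjective (Fintype.linearCombination R m)) (h : Fin t → LocCoh.H J n R)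
    (h0 : ∑ i, Tmap J n (mu (m i)) (h i) = 0) :
    ∃ (s : ℕ) (z : Fin s → Fin t → R) (h' : Fin s → LocCoh.H J n R),
      (∀ j, ∑ i, z j i • m i = 0) ∧ ∀ i, h i = ∑ j, z j i • h' j := by
  let w : LocCoh.H J n (Fin t → R) :=
    ∑ i, Tmap J n (LinearMap.single R (fun _ : Fin t => R) i) (h i)
  have hw0 : Tmap J n (Fintype.linearCombination R m) w = 0 := by
    rw [map_sum, ← h0]
    refine Finset.sum_congr rfl (fun i _ => ?_)
    rw [← Tmap_comp, lc_comp_single]
  obtain ⟨wZ, hwZ⟩ := exists_of_Tmap_eq_zero J n (Fintype.linearCombination R m) hm w hw0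
  have : IsNoetherian R (Fin t → R) := inferInstance
  have : Module.Finite R (LinearMap.ker (Fintype.linearCombination R m)) := inferInstance
  obtain ⟨s, ζ, hζ⟩ := Module.Finite.exists_fin' R (LinearMap.ker (Fintype.linearCombination R m))
  obtain ⟨w', hw'⟩ := Tmap_surjective J n hcd ζ hζ wZ
  obtain ⟨h', hh'⟩ : ∃ h' : Fin s → LocCoh.H J n R,
      h' = fun j => Tmap J n (LinearMap.proj (φ := fun _ : Fin s => R) j) w' := ⟨_, rfl⟩
  have hdec : w' = ∑ j, Tmap J n (LinearMap.single R (fun _ : Fin s => R) j) (h' j) := by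
    rw [hh']; exact pi_decomp J n s w'
  refine ⟨s, fun j => ((ζ (Pi.single j 1) : LinearMap.ker (Fintype.linearCombination R m)) :
    Fin t → R), h', ?_, ?_⟩
  · intro j
    have h2 := LinearMap.mem_ker.mp (ζ (Pi.single j 1)).2
    rw [Fintype.linearCombination_apply] at h2
    exact h2
  · intro i
    have h1 : h i = Tmap J n (LinearMap.proj (φ := fun _ : Fin t => R) i) w := by
      rw [map_sum]
      simp only [proj_single]
      rw [Finset.sum_ite_eq Finset.univ i]
      simp
    rw [h1, ← hwZ, ← hw', hdec, map_sum, map_sum, map_sum]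
    refine Finset.sum_congr rfl (fun j _ => ?_)
    have e : (LinearMap.proj (φ := fun _ : Fin t => R) i) ∘ₗ
        (LinearMap.ker (Fintype.linearCombination R m)).subtype ∘ₗ ζ ∘ₗ
        (LinearMap.single R (fun _ : Fin s => R) j) =
        (((ζ (Pi.single j 1) : LinearMap.ker (Fintype.linearCombination R m)) : Fin t → R) i) •
          (LinearMap.id : R →ₗ[R] R) := by
      apply LinearMap.ext
      intro r
      have hr : (Pi.single j r : Fin s → R) = r • Pi.single j 1 := by
        ext k; simp [Pi.single_apply]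
      simp only [LinearMap.comp_apply, LinearMap.single_apply, LinearMap.proj_apply,
        Submodule.subtype_apply, LinearMap.smul_apply, LinearMap.id_apply]
      rw [hr, map_smul]
      simp [mul_comm]
    rw [Tmap_comp4, e, Tmap_smul_id]

end Gen

end Watts
end Groth.Agent.Helper9.GrLCLib
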